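import Groth.Agent.Lib.Modules.ExtPowTwist
import Groth.Agent.Lib.Modules.FreeStalk
import Groth.Agent.Lib.RefHull.ExtDet
import Groth.Agent.Lib.TensorMod.GenLocal
import Groth.Agent.H26.DetExtend
import Groth.Agent.Lib.Ample.Extend

/-! The determinant of `n` sections of `E ⊗ P` as a section of `L ⊗ P^n`, `L` the top exterior power of `E`. -/

set_option autoImplicit false
universe u
open CategoryTheory CategoryTheory.Limits AlgebraicGeometry Opposite TopologicalSpace

namespace Groth.Agent.H97.DetSection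

open Groth.Agent.Lib Groth.Agent.Lib.Modules.TensorGen Groth.Agent.Lib.TensorMod
open Groth.Agent.Lib.TensorMod.Dual Groth.Agent.Lib.TensorMod.Gen Groth.Agent.Lib.RefHull.SecHom

variable {X : Scheme.{u}}

/-- Generation may be checked on affine opens. -/
theorem isGen_of_affine {L : X.Modules} {W : X.Opens} {e : Γ(L, W)}
    (h : ∀ V : X.affineOpens, ∀ hV : V.1 ≤ W,
      Function.Bijective fun a : Γ(X, V.1) => a • rs L hV e) : IsGen L W e := fun V hV => by
  choose D hDV hxD using fun x : V => Modules.AffineHom.exists_affine x.2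
  have hD : V ≤ iSup fun x => (D x).1 := fun x hx => Opens.mem_iSup.2 ⟨⟨x, hx⟩, hxD _⟩
  have inj : ∀ (V : X.Opens) (hV : V ≤ W), Function.Injective fun a : Γ(X, V) => a • rs L hV e := by
    intro V hV a b hab
    choose D hDV hxD using fun x : V => Modules.AffineHom.exists_affine x.2
    refine TopCat.Sheaf.eq_of_locally_eq' X.sheaf (fun x => (D x).1) V (fun x => homOfLE (hDV x))
      (fun x hx => Opens.mem_iSup.2 ⟨⟨x, hx⟩, hxD _⟩) a b fun x => ?_
    change rf (hDV x) a = rf (hDV x) b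
    refine (h (D x) ((hDV x).trans hV)).1 ?_
    simpa only [rs_smul, rs_rs] using congrArg (rs L (hDV x)) hab
  refine ⟨inj V hV, fun y => ?_⟩
  choose a ha using fun x => (h (D x) ((hDV x).trans hV)).2 (rs L (hDV x) y)
  obtain ⟨r₀, hr, -⟩ := TopCat.Sheaf.existsUnique_gluing' X.sheaf (fun x => (D x).1) V
    (fun x => homOfLE (hDV x)) hD a fun i j => by
      change rf (inf_le_left : (D i).1 ⊓ (D j).1 ≤ (D i).1) (a i) = rf inf_le_right (a j)
      have hi := congrArg (rs L (inf_le_left : (D i).1 ⊓ (D j).1 ≤ (D i).1)) (ha i)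
      have hj := congrArg (rs L (inf_le_right : (D i).1 ⊓ (D j).1 ≤ (D j).1)) (ha j)
      simp only [rs_smul, rs_rs] at hi hj
      exact inj _ _ (hi.trans hj.symm)
  obtain ⟨r, hr'⟩ : ∃ r : Γ(X, V), ∀ x, rf (hDV x) r = a x := ⟨r₀, hr⟩
  refine ⟨r, HomGlue.sections_ext_cover (fun x => (D x).1) L hD fun x => ?_⟩
  have h2 := congrArg (rs L (inf_le_right : V ⊓ (D x).1 ≤ (D x).1)) (ha x)
  simp only [rs_smul, rs_rs] at h2 ⊢
  rw [← h2, ← hr' x, rf_rf]

/-- Germs of a basis form a basis of the stalk. -/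
theorem bijective_germ_comb {M : X.Modules} {U : X.Opens} {n : ℕ} {e : Fin n → Γ(M, U)}
    (he : Basis.IsBasis e) {x : X} (hx : x ∈ U) :
    Function.Bijective (Fintype.linearCombination (X.presheaf.stalk x)
      fun i => M.presheaf.germ U x hx (e i)) := by
  classical
  have key : ∀ (V : X.Opens) (hV : V ≤ U) (hxV : x ∈ V) (a : Fin n → Γ(X, V)),
      M.presheaf.germ V x hxV (Basis.comb e hV a) =
        Fintype.linearCombination (X.presheaf.stalk x) (fun i => M.presheaf.germ U x hx (e i))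
          fun i => X.presheaf.germ V x hxV (a i) := fun V hV hxV a => by
    rw [Fintype.linearCombination_apply, Basis.comb, map_sum]
    exact Finset.sum_congr rfl fun i _ => by rw [Mero.germ_smul, germ_rs]
  refine ⟨fun c c' h => ?_, fun v => ?_⟩
  · rw [← sub_eq_zero]
    have h0 : Fintype.linearCombination (X.presheaf.stalk x) (fun i => M.presheaf.germ U x hx (e i)) (c - c') = 0 := by
      rw [map_sub, h, sub_self]
    generalize c - c' = d at h0 ⊢
    choose O hxO r hr using fun i => TopCat.Presheaf.exists_germ_eq X.presheaf (d i)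
    let V : X.Opens := U ⊓ Finset.univ.inf O
    have hxV : x ∈ V := ⟨hx, by
      show x ∈ ((Finset.univ.inf O : X.Opens) : Set X)
      rw [Opens.coe_finset_inf, Finset.inf_set_eq_iInter]
      simp only [Set.mem_iInter]
      exact fun i _ => hxO i⟩
    have hle : ∀ i, V ≤ O i := fun i => inf_le_right.trans (Finset.inf_le (Finset.mem_univ i))
    have hV : V ≤ U := inf_le_left
    obtain ⟨Z, hxZ, j, j', hj⟩ := TopCat.Presheaf.germ_eq M.presheaf x hxV hxV
      (Basis.comb e hV fun i => rf (hle i) (r i)) 0 (by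
        rw [key, map_zero]
        simp only [germ_rf, hr]
        exact h0)
    have hj' : rs M j.le (Basis.comb e hV fun i => rf (hle i) (r i)) = 0 := hj.trans (map_zero _)
    rw [Basis.rs_comb] at hj'
    have := (he Z (j.le.trans hV)).1 (a₂ := 0) (hj'.trans (by simp [Basis.comb]))
    funext i
    rw [← hr i, ← germ_rf (j.le.trans (hle i)) hxZ (r i)]
    have h1 := congrFun this i
    simp only [rf_rf] at h1
    rw [h1, Pi.zero_apply, map_zero]
    rfl
  · obtain ⟨O, hxO, m, rfl⟩ := TopCat.Presheaf.exists_germ_eq M.presheaf v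
    have hxV : x ∈ U ⊓ O := ⟨hx, hxO⟩
    obtain ⟨a, ha⟩ := (he (U ⊓ O) inf_le_left).2 (rs M inf_le_right m)
    refine ⟨fun i => X.presheaf.germ (U ⊓ O) x hxV (a i), ?_⟩
    rw [← key _ inf_le_left hxV a, ha, germ_rs]

theorem isBasis_tg {E P : X.Modules} {U : X.Opens} {n : ℕ} {b : Fin n → Γ(E, U)} (hb : Basis.IsBasis b)
    {a : Γ(P, U)} (ha : IsGen P U a) : Basis.IsBasis fun i => tg E a (b i) := fun V hV => by
  have : Basis.comb (fun i => tg E a (b i)) hV = ⇑(tg E (rs P hV a)) ∘ Basis.comb b hV := funext fun c => by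
    simp only [Basis.comb, Function.comp_apply, map_sum, map_smul, rs_tg]
  rw [this]
  exact (tg_bijective (ha.res hV)).comp (hb V hV)

theorem isGen_tg {L P : X.Modules} {U : X.Opens} {l : Γ(L, U)} (hl : IsGen L U l)
    {a : Γ(P, U)} (ha : IsGen P U a) : IsGen (CohB1.tensorMod L P) U (tg L a l) :=
  Ample.GenLocus.isGen_tmul hl ha

section

variable {E L P : X.Modules} {n : ℕ}
  (φ : ∀ U : X.affineOpens, Γ(L, U.1) ≃ₗ[Γ(X, U.1)] ↥(⋀[Γ(X, U.1)]^n Γ(E, U.1)))
  (hφ : ∀ (U V : X.affineOpens) (h : V.1 ≤ U.1) (e : Fin n → Γ(E, U.1)),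
    rs L h ((φ U).symm (exteriorPower.ιMulti _ n e)) =
      (φ V).symm (exteriorPower.ιMulti _ n fun j => rs _ h (e j)))

/-- The wedge of `n` sections, as an alternating map. -/
noncomputable def lam (U : X.affineOpens) : Γ(E, U.1) [⋀^Fin n]→ₗ[Γ(X, U.1)] Γ(L, U.1) :=
  (φ U).symm.toLinearMap.compAlternatingMap (exteriorPower.ιMulti _ n)

include hφ in
theorem rs_lam (U V : X.affineOpens) (h : V.1 ≤ U.1) (e : Fin n → Γ(E, U.1)) :
    rs L h (lam φ U e) = lam φ V fun j => rs E h (e j) := hφ U V h e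

include hφ in
theorem isGen_lam (W : X.affineOpens) {b : Fin n → Γ(E, W.1)} (hb : Basis.IsBasis b) :
    IsGen L W.1 (lam φ W b) := isGen_of_affine fun V hV => by
  classical
  rw [rs_lam φ hφ W V hV]
  let g : (Fin n → Γ(X, V.1)) →ₗ[Γ(X, V.1)] Γ(E, V.1) :=
    Fintype.linearCombination Γ(X, V.1) fun k => rs E hV (b k)
  have hg : Function.Bijective g := by
    have : ⇑g = Basis.comb b hV := funext fun a => by
      simp only [g, Fintype.linearCombination_apply, Basis.comb]
    rw [this]; exact hb V.1 hV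
  let B : Module.Basis (Fin n) Γ(X, V.1) Γ(E, V.1) :=
    Module.Basis.ofEquivFun (LinearEquiv.ofBijective g hg).symm
  have hB : (⇑B : Fin n → _) = fun k => rs E hV (b k) := funext fun k => by
    simp only [B, Module.Basis.coe_ofEquivFun, LinearEquiv.symm_symm, LinearEquiv.ofBijective_apply]
    exact (Fintype.linearCombination_apply_single _ _ k 1).trans (one_smul _ _)
  rw [← hB]
  have h2 := (φ V).symm.bijective.comp (H26.DetExtend.bijective_smul_ιMulti B)
  have e1 : (fun r : Γ(X, V.1) => r • lam φ V B) =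
      fun r => (φ V).symm (r • exteriorPower.ιMulti Γ(X, V.1) n (⇑B)) :=
    funext fun r => ((φ V).symm.map_smul r _).symm
  rw [e1]
  exact h2

include hφ in
/-- The determinant of `σ`, as a map `O → L ⊗ P^n`. -/
theorem exists_det (hP : PicF.IsInvertible P) (σ : Fin n → Γ(CohB1.tensorMod E P, ⊤)) :
    ∃ ψ : Coh.structureModule X ⟶ CohB1.tensorMod L (CohB1.tensorPow P n),
      ∀ (U : X.affineOpens) (a : Γ(P, U.1)), IsGen P U.1 a → ∀ e : Fin n → Γ(E, U.1),
        (∀ i, tg E a (e i) = rs (CohB1.tensorMod E P) le_top (σ i)) →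
        ψ.app U.1 (one X U.1) = tg L (Modules.ExtPowTwist.G n a) (lam φ U e) := by
  classical
  let Q : X.affineOpens → Prop := fun U => ∃ a, IsGen P U.1 a
  have hQ : ∀ {V : X.Opens} {p : X}, p ∈ V → ∃ U : X.affineOpens, Q U ∧ U.1 ≤ V ∧ p ∈ U.1 := fun {V p} hp => by
    obtain ⟨U₁, a, hp₁, ha⟩ := TensorMod.Gen.isInvertible_iff.1 hP p
    obtain ⟨U, hU, hpU⟩ := Modules.AffineHom.exists_affine (show p ∈ V ⊓ U₁ from ⟨hp, hp₁⟩)
    exact ⟨U, ⟨_, ha.res (hU.trans inf_le_right)⟩, hU.trans inf_le_left, hpU⟩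
  have hpre : ∀ (U : X.affineOpens) (hU : Q U), ∃ e : Fin n → Γ(E, U.1),
      ∀ i, tg E hU.choose (e i) = rs (CohB1.tensorMod E P) le_top (σ i) := fun U hU =>
    ⟨_, fun i => ((tg_bijective hU.choose_spec).2 (rs (CohB1.tensorMod E P) le_top (σ i))).choose_spec⟩
  choose e he using hpre
  have wd : ∀ (U : X.affineOpens) (hU : Q U) (a : Γ(P, U.1)), IsGen P U.1 a →
      ∀ e' : Fin n → Γ(E, U.1), (∀ i, tg E a (e' i) = rs (CohB1.tensorMod E P) le_top (σ i)) →
      tg L (Modules.ExtPowTwist.G n hU.choose) (lam φ U (e U hU)) =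
        tg L (Modules.ExtPowTwist.G n a) (lam φ U e') := by
    intro U hU a ha e' he'
    obtain ⟨r, hr⟩ := Ample.GenLocus.exists_coord hU.choose_spec a
    have : e U hU = fun i => r • e' i := funext fun i => (tg_bijective hU.choose_spec).1 (by
      rw [he U hU i, ← he' i, hr, Modules.ExtPowTwist.tg_smul, LinearMap.smul_apply, map_smul])
    rw [this, AlternatingMap.map_smul_univ, Finset.prod_const, Finset.card_univ, Fintype.card_fin,
      map_smul, hr, Modules.ExtPowTwist.G_smul, Modules.ExtPowTwist.tg_smul, LinearMap.smul_apply]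
  let τ : ∀ (U : X.affineOpens), Q U → Γ(CohB1.tensorMod L (CohB1.tensorPow P n), U.1) := fun U hU =>
    tg L (Modules.ExtPowTwist.G n hU.choose) (lam φ U (e U hU))
  have hτ : ∀ (U V : X.affineOpens) (hU : Q U) (hV : Q V) (h : V.1 ≤ U.1),
      rs _ h (τ U hU) = τ V hV := by
    intro U V hU hV h
    rw [show τ V hV = _ from wd V hV (rs P h hU.choose) (hU.choose_spec.res h)
      (fun i => rs E h (e U hU i)) fun i => by rw [← rs_tg, he U hU i, rs_rs]]
    show rs _ h (tg L _ _) = _
    rw [rs_tg, rs_lam φ hφ U V h]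
    exact congrArg (fun t => tg L t _) (KoszTw.map_tprod P n (homOfLE h) fun _ => hU.choose)
  let f : ∀ (U : X.affineOpens), Q U →
      (Γ(Coh.structureModule X, U.1) →ₗ[Γ(X, U.1)] Γ(CohB1.tensorMod L (CohB1.tensorPow P n), U.1)) :=
    fun U hU =>
      { toFun := fun r => (show Γ(X, U.1) from r) • τ U hU
        map_add' := fun r s => add_smul _ _ _
        map_smul' := fun r s => mul_smul _ _ _ }
  obtain ⟨ψ, hψ⟩ := Modules.BasisHom.exists_hom_of_basis (P := Q) hQ f fun U V hU hV h m => by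
    show rs _ h ((show Γ(X, U.1) from m) • τ U hU) = (show Γ(X, V.1) from rf h m) • τ V hV
    rw [rs_smul, hτ U V hU hV h]
  refine ⟨ψ, fun U a ha e' he' => ?_⟩
  rw [hψ U ⟨a, ha⟩ (one X U.1)]
  show (1 : Γ(X, U.1)) • τ U ⟨a, ha⟩ = _
  rw [one_smul]
  exact wd U _ a ha e' he'

/-- In a basis, the wedge of combinations is the determinant. -/
theorem lam_comb (U : X.affineOpens) (b : Fin n → Γ(E, U.1)) (C : Matrix (Fin n) (Fin n) Γ(X, U.1)) :
    lam φ U (fun i => ∑ j, C i j • b j) = C.det • lam φ U b :=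
  RefHull.ExtDet.map_sum_smul (lam φ U) b C

end

end Groth.Agent.H97.DetSection
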