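import Groth.Agent.Lib.PointDim.Basic
import Groth.Agent.Lib.ProjSpace.Dim
import Mathlib.RingTheory.KrullDimension.Polynomial

/-! Schemes of finite type over a field are finite dimensional. -/

set_option autoImplicit false
universe u
open CategoryTheory AlgebraicGeometry TopologicalSpace

namespace Groth.Agent.H97.FinDim

theorem exists_dim_le {k : Type u} [Field k] {X : Scheme.{u}} (f : X ⟶ Spec (CommRingCat.of k))
    [LocallyOfFiniteType f] [CompactSpace X] : ∃ d : ℕ, topologicalKrullDim X ≤ d := by
  classical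
  choose A ι hι hmem φ hφ h using fun y : X => Groth.Agent.Lib.PointDim.Basic.exists_chart f y
  have hb : ∀ y, ∃ n : ℕ, topologicalKrullDim (PrimeSpectrum (A y)) ≤ n := fun y => by
    let : Algebra k (A y) := (φ y).hom.toAlgebra
    have : Algebra.FiniteType k (A y) := hφ y
    obtain ⟨n, g, hg⟩ := Algebra.FiniteType.iff_quotient_mvPolynomial''.mp this
    refine ⟨n, ?_⟩
    rw [PrimeSpectrum.topologicalKrullDim_eq_ringKrullDim]
    refine (ringKrullDim_le_of_surjective g.toRingHom hg).trans (le_of_eq ?_)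
    rw [MvPolynomial.ringKrullDim_of_isNoetherianRing, ringKrullDim_eq_zero_of_field, zero_add, Nat.card_eq_fintype_card, Fintype.card_fin]
  choose n hn using hb
  obtain ⟨F, hF⟩ := isCompact_univ.elim_finite_subcover (fun y : X => Set.range (ι y))
    (fun y => by have := hι y; exact (ι y).isOpenEmbedding.isOpen_range)
    fun x _ => Set.mem_iUnion.2 ⟨x, hmem x⟩
  refine ⟨F.sup n, Groth.Agent.Lib.ProjSpace.Dim.topologicalKrullDim_le_of_cover
    (fun y : F => fun p => ι y.1 p) (fun y => by have := hι y.1; exact (ι y.1).isOpenEmbedding)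
    (fun x => ?_) fun y => (hn y.1).trans (by exact_mod_cast Finset.le_sup (f := n) y.2)⟩
  obtain ⟨y, hy, p, hp⟩ := Set.mem_iUnion₂.1 (hF (Set.mem_univ x))
  exact ⟨⟨y, hy⟩, p, hp⟩

end Groth.Agent.H97.FinDim
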