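import Groth.Agent.Lib.TensorMod.HomGlue
import Groth.Agent.Lib.TensorMod.LocIso

/-! Invertible modules glued from a cocycle of functions, and extensions of invertible modules from
an open whose pairwise overlaps it contains. -/

set_option autoImplicit false
universe u v
open CategoryTheory AlgebraicGeometry Opposite TopologicalSpace

namespace Groth.Agent.H97.GlueLine

open Groth.Agent.Lib.TensorMod Groth.Agent.Lib.TensorMod.Dual Groth.Agent.Lib.TensorMod.Gen

variable {X : Scheme.{u}} {ι : Type v} {U : ι → X.Opens}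

/-- A 1-cocycle of functions. -/
structure Cocycle (U : ι → X.Opens) where
  /-- The transition function. -/
  u : ∀ i j, Γ(X, U i ⊓ U j)
  self : ∀ (i : ι) (W : X.Opens) (h : W ≤ U i ⊓ U i), rf h (u i i) = 1
  trans : ∀ (i j k : ι) (W : X.Opens) (hi : W ≤ U i) (hj : W ≤ U j) (hk : W ≤ U k),
    rf (le_inf hi hj) (u i j) * rf (le_inf hj hk) (u j k) = rf (le_inf hi hk) (u i k)

variable (c : Cocycle U)

/-- The transition function on a smaller open. -/
noncomputable def Cocycle.tr (i j : ι) {W : X.Opens} (hi : W ≤ U i) (hj : W ≤ U j) : Γ(X, W) :=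
  rf (le_inf hi hj) (c.u i j)

theorem Cocycle.tr_self (i : ι) {W : X.Opens} (hi hi' : W ≤ U i) : c.tr i i hi hi' = 1 :=
  c.self i W _

theorem Cocycle.tr_mul (i j k : ι) {W : X.Opens} (hi : W ≤ U i) (hj : W ≤ U j) (hk : W ≤ U k) :
    c.tr i j hi hj * c.tr j k hj hk = c.tr i k hi hk := c.trans i j k W hi hj hk

theorem Cocycle.rf_tr (i j : ι) {W W' : X.Opens} (h : W' ≤ W) (hi : W ≤ U i) (hj : W ≤ U j) :
    rf h (c.tr i j hi hj) = c.tr i j (h.trans hi) (h.trans hj) := rf_rf _ _ _

/-- Families of functions on the members of the cover. -/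
abbrev Tot (U : ι → X.Opens) (W : X.Opens) : Type (max u v) := ∀ i, Γ(X, W ⊓ U i)

/-- Scalars act componentwise. -/
noncomputable def toTot (U : ι → X.Opens) (W : X.Opens) : Γ(X, W) →+* Tot U W :=
  RingHom.pi fun i => (X.presheaf.map (homOfLE (inf_le_left : W ⊓ U i ≤ W)).op).hom

end Groth.Agent.H97.GlueLine

namespace Groth.Agent.H97.GlueLine

open Groth.Agent.Lib.TensorMod Groth.Agent.Lib.TensorMod.Dual Groth.Agent.Lib.TensorMod.Gen

variable {X : Scheme.{u}} {ι : Type u} {U : ι → X.Opens} (c : Cocycle U)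

noncomputable instance (W : X.Opens) : Module Γ(X, W) (Tot U W) := (toTot U W).toModule

theorem smul_apply {W : X.Opens} (r : Γ(X, W)) (f : Tot U W) (i : ι) :
    (r • f) i = rf inf_le_left r * f i := rfl

/-- The gluing condition. -/
def Cond {W : X.Opens} (f : Tot U W) : Prop :=
  ∀ (i j : ι) (V : X.Opens) (hV : V ≤ W) (hi : V ≤ U i) (hj : V ≤ U j),
    rf (le_inf hV hi) (f i) = c.tr i j hi hj * rf (le_inf hV hj) (f j)

/-- Sections of the glued module. -/
noncomputable def sec (W : X.Opens) : Submodule Γ(X, W) (Tot U W) where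
  carrier := {f | Cond c f}
  zero_mem' := fun i j V hV hi hj => by simp [rf, map_zero]
  add_mem' := fun {f g} hf hg i j V hV hi hj => by
    simp only [rf, Pi.add_apply, map_add]
    rw [mul_add]
    exact congrArg₂ (· + ·) (hf i j V hV hi hj) (hg i j V hV hi hj)
  smul_mem' := fun r f hf i j V hV hi hj => by
    simp only [smul_apply, rf, map_mul]
    simp only [← ConcreteCategory.comp_apply, ← Functor.map_comp]
    have := hf i j V hV hi hj
    simp only [rf] at this
    rw [this, mul_left_comm]
    rfl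

/-- Restriction of families. -/
noncomputable def resTot {W W' : X.Opens} (h : W' ≤ W) : Tot U W →+ Tot U W' where
  toFun f i := rf (inf_le_inf_right (U i) h) (f i)
  map_zero' := funext fun i => map_zero _
  map_add' _ _ := funext fun i => map_add _ _ _

/-- Restriction of sections. -/
noncomputable def resSec {W W' : X.Opens} (h : W' ≤ W) : sec c W →+ sec c W' where
  toFun f := ⟨resTot h f.1, fun i j V hV hi hj => by
    show rf _ (rf _ (f.1 i)) = _ * rf _ (rf _ (f.1 j))
    rw [rf_rf, rf_rf]
    exact f.2 i j V (hV.trans h) hi hj⟩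
  map_zero' := Subtype.ext (map_zero _)
  map_add' _ _ := Subtype.ext (map_add _ _ _)

/-- The presheaf of sections. -/
noncomputable def presheaf : TopCat.Presheaf Ab.{u} X where
  obj W := AddCommGrpCat.of (sec c W.unop)
  map i := AddCommGrpCat.ofHom (resSec c i.unop.le)
  map_id W := AddCommGrpCat.hom_ext (AddMonoidHom.ext fun (f : sec c W.unop) =>
    Subtype.ext (funext fun i => rf_self (inf_le_inf_right (U i) le_rfl) (f.1 i)))
  map_comp {W W' W''} i j := AddCommGrpCat.hom_ext (AddMonoidHom.ext fun (f : sec c W.unop) =>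
    Subtype.ext (funext fun k => (rf_rf (inf_le_inf_right (U k) i.unop.le)
      (inf_le_inf_right (U k) j.unop.le) (f.1 k)).symm))

noncomputable instance (W : (Opens X)ᵒᵖ) :
    Module (X.ringCatSheaf.obj.obj W) ((presheaf c).obj W) :=
  inferInstanceAs (Module Γ(X, W.unop) (sec c W.unop))

/-- The glued module. -/
noncomputable def glue : X.Modules where
  val := PresheafOfModules.ofPresheaf (presheaf c) fun {W W'} g r (f : sec c W.unop) =>
    Subtype.ext (funext fun i => by
      show rf _ (rf _ (show Γ(X, W.unop) from r) * f.1 i) =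
        rf _ (X.presheaf.map g (show Γ(X, W.unop) from r)) * rf _ (f.1 i)
      simp only [rf, map_mul]
      simp only [← ConcreteCategory.comp_apply, ← Functor.map_comp]
      rfl)
  isSheaf := by
    refine (TopCat.Presheaf.isSheaf_iff_isSheafUniqueGluing (X := X.carrier) (F := presheaf c)).2
      fun κ V sf hsf => ?_
    have hle : ∀ i, iSup V ⊓ U i ≤ ⨆ a, V a ⊓ U i := fun i => by rw [iSup_inf_eq]
    have hsf' : ∀ (a b : κ) (i : ι),
        rf (inf_le_inf_right (U i) (inf_le_left : V a ⊓ V b ≤ V a)) ((sf a).1 i) =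
          rf (inf_le_inf_right (U i) (inf_le_right : V a ⊓ V b ≤ V b)) ((sf b).1 i) :=
      fun a b i => congrFun (congrArg Subtype.val (hsf a b)) i
    have hg : ∀ i, ∃! r : Γ(X, iSup V ⊓ U i), ∀ a,
        rf (inf_le_inf_right (U i) (le_iSup V a)) r = (sf a).1 i := fun i =>
      X.sheaf.existsUnique_gluing' (fun a => V a ⊓ U i) (iSup V ⊓ U i)
        (fun a => homOfLE (inf_le_inf_right (U i) (le_iSup V a))) (hle i) (fun a => (sf a).1 i)
        fun a b => by
          show rf (inf_le_left : (V a ⊓ U i) ⊓ (V b ⊓ U i) ≤ V a ⊓ U i) _ = rf inf_le_right _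
          have h : (V a ⊓ U i) ⊓ (V b ⊓ U i) ≤ (V a ⊓ V b) ⊓ U i :=
            le_inf (inf_le_inf inf_le_left inf_le_left) (inf_le_left.trans inf_le_right)
          have := congrArg (rf h) (hsf' a b i)
          rw [rf_rf, rf_rf] at this
          exact this
    choose r hr hru using hg
    have hcond : Cond c r := by
      intro i j W hW hi hj
      refine TopCat.Sheaf.eq_of_locally_eq' X.sheaf (fun a => W ⊓ V a) W
        (fun a => homOfLE inf_le_left) (by rw [← inf_iSup_eq]; exact le_inf le_rfl hW) _ _ fun a => ?_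
      show rf inf_le_left _ = rf inf_le_left _
      rw [show rf (inf_le_left : W ⊓ V a ≤ W) (c.tr i j hi hj * rf (le_inf hW hj) (r j)) =
        rf (inf_le_left : W ⊓ V a ≤ W) (c.tr i j hi hj) *
          rf (inf_le_left : W ⊓ V a ≤ W) (rf (le_inf hW hj) (r j)) from map_mul _ _ _,
        rf_rf, rf_rf, c.rf_tr]
      have hi' : W ⊓ V a ≤ U i := inf_le_left.trans hi
      have hj' : W ⊓ V a ≤ U j := inf_le_left.trans hj
      have e := (sf a).2 i j (W ⊓ V a) inf_le_right hi' hj'
      rw [← hr i a, ← hr j a, rf_rf, rf_rf] at e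
      exact e
    refine ⟨⟨r, hcond⟩, fun a => Subtype.ext (funext fun i => hr i a), fun t ht =>
      Subtype.ext (funext fun i => hru i _ fun a => ?_)⟩
    exact congrFun (congrArg Subtype.val (ht a)) i

/-- The generator over `U k`. -/
noncomputable def gen (k : ι) : Γ(glue c, U k) :=
  (⟨fun i => c.tr i k inf_le_right inf_le_left, fun i j V hV hi hj => by
    rw [c.rf_tr, c.rf_tr, c.tr_mul]⟩ : sec c (U k))

theorem rs_gen_apply (k i : ι) {W : X.Opens} (h : W ≤ U k) :
    (show sec c W from rs (glue c) h (gen c k)).1 i =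
      c.tr i k inf_le_right (inf_le_left.trans h) :=
  c.rf_tr i k (inf_le_inf_right (U i) h) inf_le_right inf_le_left

theorem isGen_gen (k : ι) : IsGen (glue c) (U k) (gen c k) := by
  intro V hV
  constructor
  · intro a b hab
    have := congrArg (fun f : sec c V => rf (le_inf le_rfl hV) (f.1 k))
      (show (a • (show sec c V from rs (glue c) hV (gen c k))) =
        (b • (show sec c V from rs (glue c) hV (gen c k))) from hab)
    simp only [Submodule.coe_smul, smul_apply, rs_gen_apply, c.tr_self, mul_one] at this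
    rwa [rf_rf, rf_self, rf_rf, rf_self] at this
  · intro f
    let f' : sec c V := f
    refine ⟨rf (le_inf le_rfl hV) (f'.1 k), ?_⟩
    show (rf (le_inf le_rfl hV) (f'.1 k) • (show sec c V from rs (glue c) hV (gen c k))) = f'
    refine Subtype.ext (funext fun i => ?_)
    rw [Submodule.coe_smul, smul_apply, rs_gen_apply, rf_rf]
    have := f'.2 i k (V ⊓ U i) inf_le_left inf_le_right (inf_le_left.trans hV)
    rw [rf_self] at this
    rw [this, mul_comm]

theorem rs_gen (i j : ι) {W : X.Opens} (hi : W ≤ U i) (hj : W ≤ U j) :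
    rs (glue c) hj (gen c j) = c.tr i j hi hj • rs (glue c) hi (gen c i) := by
  show (show sec c W from rs (glue c) hj (gen c j)) =
    c.tr i j hi hj • (show sec c W from rs (glue c) hi (gen c i))
  refine Subtype.ext (funext fun k => ?_)
  rw [Submodule.coe_smul, smul_apply, rs_gen_apply, rs_gen_apply, c.rf_tr, mul_comm, c.tr_mul]

theorem isInvertible_glue (hU : iSup U = ⊤) : PicF.IsInvertible (glue c) :=
  Gen.isInvertible_iff.2 fun x => by
    obtain ⟨i, hi⟩ := Opens.mem_iSup.1 (show x ∈ iSup U by rw [hU]; trivial)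
    exact ⟨U i, gen c i, hi, isGen_gen c i⟩

theorem coeff_eq (i j : ι) {W : X.Opens} (hi : W ≤ U i) (hj : W ≤ U j) (a : Γ(X, W))
    (h : rs (glue c) hi (gen c i) = a • rs (glue c) hj (gen c j)) : a = c.tr j i hj hi :=
  (isGen_gen c j W hj).1 (h.symm.trans (rs_gen c j i hj hi))

section ofGen

variable {O : X.Opens} {M : X.Modules}

/-- Generators on the traces of a cover on an open containing all overlaps give a cocycle. -/
theorem exists_cocycle (hdisj : ∀ i j, i ≠ j → U i ⊓ U j ≤ O) (g : ∀ i, Γ(M, U i ⊓ O))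
    (hg : ∀ i, IsGen M (U i ⊓ O) (g i)) :
    ∃ c : Cocycle U, ∀ (i j : ι) (W : X.Opens) (hi : W ≤ U i) (hj : W ≤ U j) (hO : W ≤ O),
      rs M (le_inf hj hO) (g j) = c.tr i j hi hj • rs M (le_inf hi hO) (g i) := by
  classical
  have h1 : ∀ i j (h : i ≠ j), ∃ a : Γ(X, U i ⊓ U j), a • rs M (le_inf inf_le_left ((hdisj i j h))) (g i) =
      rs M (le_inf inf_le_right (hdisj i j h)) (g j) := fun i j hij => (hg i _ _).2 _
  choose a ha using h1
  let u : ∀ i j, Γ(X, U i ⊓ U j) := fun i j => if h : i = j then 1 else a i j h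
  have key : ∀ (i j : ι) (W : X.Opens) (hi : W ≤ U i) (hj : W ≤ U j) (hO : W ≤ O),
      rs M (le_inf hj hO) (g j) = rf (le_inf hi hj) (u i j) • rs M (le_inf hi hO) (g i) := by
    intro i j W hi hj hO
    by_cases h : i = j
    · subst h
      rw [show u i i = 1 from dif_pos rfl, rf, map_one, one_smul]
    · have := congrArg (rs M (le_inf hi hj)) (ha i j h)
      rw [rs_smul, rs_rs, rs_rs] at this
      rw [show u i j = a i j h from dif_neg h]
      exact this.symm
  have hself : ∀ (i : ι) (W : X.Opens) (h : W ≤ U i ⊓ U i), rf h (u i i) = 1 := fun i W h => by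
    rw [show u i i = 1 from dif_pos rfl, rf, map_one]
  refine ⟨⟨u, hself, fun i j k W hi hj hk => ?_⟩, key⟩
  by_cases hO : W ≤ O
  · refine (hg i W (le_inf hi hO)).1 ?_
    show (rf _ (u i j) * rf _ (u j k)) • rs M (le_inf hi hO) (g i) = rf _ (u i k) • rs M _ (g i)
    rw [← key i k W hi hk hO, mul_comm, mul_smul, ← key i j W hi hj hO, ← key j k W hj hk hO]
  · have e1 : i = j := by_contra fun h => hO ((le_inf hi hj).trans (hdisj i j h))
    have e2 : j = k := by_contra fun h => hO ((le_inf hj hk).trans (hdisj j k h))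
    subst e1 e2
    rw [hself, one_mul]

theorem bijective_app_of_gen {L : X.Modules} (hU : iSup U = ⊤) (φ : L ⟶ M)
    (e : ∀ i, Γ(L, U i)) (he : ∀ i, IsGen L (U i) (e i))
    (hφ : ∀ i, IsGen M (U i ⊓ O) (rs M inf_le_left (φ.app (U i) (e i))))
    {V : X.Opens} (hV : V ≤ O) : Function.Bijective (φ.app V) := by
  have hb : ∀ (i : ι) (W : X.Opens) (hi : W ≤ U i) (_ : W ≤ O), Function.Bijective (φ.app W) := by
    intro i W hi hO
    refine (Function.Bijective.of_comp_iff _ (he i W hi)).1 ?_
    have h2 : φ.app W ∘ (fun a : Γ(X, W) => a • rs L hi (e i)) =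
        fun a => a • rs M (le_inf hi hO) (rs M inf_le_left (φ.app (U i) (e i))) :=
      funext fun a => by rw [Function.comp_apply, Scheme.Modules.Hom.app_smul, ← HomGlue.rs_app, rs_rs]
    rw [h2]
    exact hφ i W (le_inf hi hO)
  constructor
  · intro x y hxy
    refine HomGlue.sections_ext_cover U L (by rw [hU]; exact le_top) fun i => ?_
    refine (hb i _ inf_le_right (inf_le_left.trans hV)).1 ?_
    rw [← HomGlue.rs_app, ← HomGlue.rs_app, hxy]
  · intro y
    choose x hx using fun i => (hb i (V ⊓ U i) inf_le_right (inf_le_left.trans hV)).2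
      (rs M inf_le_left y)
    obtain ⟨z, hz, -⟩ := TopCat.Sheaf.existsUnique_gluing'
      (⟨L.presheaf, L.isSheaf⟩ : TopCat.Sheaf Ab.{u} X) (fun i => V ⊓ U i) V
      (fun i => homOfLE inf_le_left) (by rw [← inf_iSup_eq, hU]; exact le_inf le_rfl le_top) x
      fun i j => by
        show rs L (inf_le_left : (V ⊓ U i) ⊓ (V ⊓ U j) ≤ V ⊓ U i) _ = rs L inf_le_right _
        refine (hb i _ (inf_le_left.trans inf_le_right) ((inf_le_left.trans inf_le_left).trans hV)).1 ?_
        rw [← HomGlue.rs_app, ← HomGlue.rs_app, hx, hx, rs_rs, rs_rs]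
    refine ⟨z, HomGlue.sections_ext_cover U M (by rw [hU]; exact le_top) fun i => ?_⟩
    rw [HomGlue.rs_app]
    exact (congrArg (φ.app (V ⊓ U i)) (hz i)).trans (hx i)

end ofGen

end Groth.Agent.H97.GlueLine
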