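import Groth.Agent.H97.AffineImages
import Groth.Agent.Lib.SchTopo.Basic
import Mathlib.Topology.NoetherianSpace

/-! Topology of schemes of dimension at most one. -/

set_option autoImplicit false
universe u
open CategoryTheory AlgebraicGeometry TopologicalSpace

namespace Groth.Agent.H97.DimOneSetup

open Groth.Agent.H97.AffineImages

variable {X : Scheme.{u}} (hdim : topologicalKrullDim X ≤ 1)

include hdim in
theorem ringKrullDim_stalk_le_one (x : X) : ringKrullDim (X.presheaf.stalk x) ≤ 1 := by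
  rw [← PrimeSpectrum.topologicalKrullDim_eq_ringKrullDim]
  exact ((X.fromSpecStalk x).isEmbedding.isInducing.topologicalKrullDim_le).trans hdim

include hdim in
theorem chain_false {z y w : X} (h1 : y ⤳ z) (n1 : y ≠ z) (h2 : w ⤳ y) (n2 : w ≠ y) : False := by
  have hlt1 : z < y := lt_of_le_not_ge h1 fun h => n1 ((show z ⤳ y from h).antisymm h1).eq.symm
  have hlt2 : y < w := lt_of_le_not_ge h2 fun h => n2 ((show y ⤳ w from h).antisymm h2).eq.symm
  let q : LTSeries X := (RelSeries.singleton _ w).cons y hlt2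
  let p : LTSeries X := q.cons z (by simpa [q] using hlt1)
  have := (Order.LTSeries.length_le_krullDim p).trans
    ((Groth.Agent.Lib.SchTopo.Basic.topologicalKrullDim_eq_krullDim_scheme X).ge.trans hdim)
  exact absurd this (by simp [p, q])

include hdim in
theorem isClosed_singleton_of_not_gen {y : X} (hy : ¬ IsGen y) : IsClosed ({y} : Set X) := by
  obtain ⟨η, hη, hηy⟩ := exists_gen_specializes y
  refine isClosed_of_closure_subset fun z hz => ?_
  by_contra hzy
  exact chain_false hdim (specializes_iff_mem_closure.2 hz) (Ne.symm hzy) hηy fun h => hy (h ▸ hη)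

theorem finite_gen [NoetherianSpace X] : {η : X | IsGen η}.Finite :=
  Set.Finite.of_finite_image ((NoetherianSpace.finite_irreducibleComponents).subset
    (Set.image_subset_iff.2 fun _ h => h) : ((fun y => closure {y}) '' {η : X | IsGen η}).Finite)
    (fun _ _ _ _ h => ((specializes_iff_closure_subset.2 h.ge).antisymm
      (specializes_iff_closure_subset.2 h.le)).eq)

include hdim in
theorem finite_of_no_gen [NoetherianSpace X] {S : Set X} (hS : IsClosed S) (h : ∀ x ∈ S, ¬ IsGen x) :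
    S.Finite := by
  obtain ⟨C, hC, hCcl, hCirr, rfl⟩ := NoetherianSpace.exists_finite_set_isClosed_irreducible hS
  rw [Set.sUnion_eq_biUnion]
  refine hC.biUnion fun Z hZ => Set.Subsingleton.finite ?_
  obtain ⟨ξ, hξ⟩ := QuasiSober.sober (hCirr Z hZ) (hCcl Z hZ)
  intro a ha b hb
  rw [← hξ.def, (isClosed_singleton_of_not_gen hdim (h ξ ⟨Z, hZ, hξ.mem⟩)).closure_eq] at ha hb
  exact ha.trans hb.symm

include hdim in
/-- An affine open around finitely many non-generic points meeting an open exactly off them. -/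
theorem exists_chart [NoetherianSpace X] {U : X.Opens} (hU : IsAffineOpen U) (O : X.Opens)
    (S : Finset X) (hSU : ∀ z ∈ S, z ∈ U) (hSO : ∀ z ∈ S, z ∉ O)
    (hO : ∀ η : X, IsGen η → η ∈ O) (hgU : ∀ η : X, IsGen η → η ∈ U) :
    ∃ (V : X.Opens) (t : Γ(X, V)), IsAffineOpen V ∧ V ≤ U ∧ (∀ z ∈ S, z ∈ V) ∧
      (∀ η : X, IsGen η → η ∈ V) ∧ (∀ z ∈ S, z ∉ X.basicOpen t) ∧
      (∀ z ∈ V, z ∉ X.basicOpen t → z ∈ S) ∧ X.basicOpen t ≤ O ∧
      (∀ η : X, IsGen η → η ∈ X.basicOpen t) := by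
  classical
  have hSgen : ∀ z ∈ S, ¬ IsGen z := fun z hz h => hSO z hz (hO z h)
  let G : Finset X := (finite_gen (X := X)).toFinset
  have hG : ∀ η, η ∈ G ↔ IsGen η := fun η => (finite_gen (X := X)).mem_toFinset
  -- a function vanishing on `S`
  let I : Ideal Γ(X, U) := ⨅ (z : X) (h : z ∈ S), pt z (hSU z h)
  have hScl : IsClosed (S : Set X) := by
    rw [← Set.biUnion_of_singleton (S : Set X)]
    exact S.finite_toSet.isClosed_biUnion fun z hz => isClosed_singleton_of_not_gen hdim (hSgen z hz)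
  obtain ⟨t₀, ht₀I, ht₀⟩ := exists_mem_forall_basicOpen I G fun η hη => by
    obtain ⟨r, hr, hηr⟩ := hU.exists_basicOpen_le
      (⟨η, fun h => hSgen η h ((hG η).1 hη)⟩ : (⟨(S : Set X)ᶜ, hScl.isOpen_compl⟩ : X.Opens))
      (hgU η ((hG η).1 hη))
    refine ⟨r, ?_, hηr⟩
    simp only [I, Ideal.mem_iInf]
    intro z hz
    by_contra hn
    exact hr ((mem_basicOpen_iff_notMem r z _).2 hn) hz
  have ht₀S : ∀ z ∈ S, z ∉ X.basicOpen t₀ := fun z hz h => by
    simp only [I, Ideal.mem_iInf] at ht₀I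
    exact (mem_basicOpen_iff_notMem t₀ z (hSU z hz)).1 h (ht₀I z hz)
  -- the points to avoid
  let B : Set X := ((X.basicOpen t₀ ⊓ O : X.Opens) : Set X)ᶜ
  have hB : B.Finite := finite_of_no_gen hdim (Opens.isOpen _).isClosed_compl fun x hx hgx =>
    hx ⟨ht₀ x ((hG x).2 hgx), hO x hgx⟩
  let B' : Set X := B \ S
  have hB'cl : IsClosed B' := by
    rw [← Set.biUnion_of_singleton B']
    exact (hB.subset Set.sdiff_subset).isClosed_biUnion fun x hx =>
      isClosed_singleton_of_not_gen hdim fun hgx => hx.1 ⟨ht₀ x ((hG x).2 hgx), hO x hgx⟩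
  obtain ⟨a, ha, haS⟩ := exists_basicOpen hU ⟨B'ᶜ, hB'cl.isOpen_compl⟩ (S ∪ G)
    (fun z hz => (Finset.mem_union.1 hz).elim (hSU z) fun h => hgU z ((hG z).1 h))
    (fun z hz h => (Finset.mem_union.1 hz).elim (fun h' => h.2 h')
      (fun h' => h.1 ⟨ht₀ z h', hO z ((hG z).1 h')⟩))
  refine ⟨X.basicOpen a, X.presheaf.map (homOfLE (X.basicOpen_le a)).op t₀, hU.basicOpen a,
    X.basicOpen_le a, fun z hz => haS z (Finset.mem_union_left _ hz),
    fun η hη => haS η (Finset.mem_union_right _ ((hG η).2 hη)), ?_, ?_, ?_, ?_⟩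
  · intro z hz h
    rw [Scheme.basicOpen_res] at h
    exact ht₀S z hz h.2
  · intro z hz h
    rw [Scheme.basicOpen_res] at h
    by_contra hn
    exact ha hz ⟨fun h' => h ⟨hz, h'.1⟩, hn⟩
  · rw [Scheme.basicOpen_res]
    rintro z ⟨hza, hzt⟩
    by_contra hn
    refine ha hza ⟨fun h' => hn h'.2, fun hzS => ht₀S z hzS hzt⟩
  · intro η hη
    rw [Scheme.basicOpen_res]
    exact ⟨haS η (Finset.mem_union_right _ ((hG η).2 hη)), ht₀ η ((hG η).2 hη)⟩

end Groth.Agent.H97.DimOneSetup
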