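import Mathlib.AlgebraicGeometry.Morphisms.Affine
import Mathlib.AlgebraicGeometry.Morphisms.Separated

/-! Functions on the intersection of two affine opens of a separated scheme (adapted from helper35). -/

set_option autoImplicit false
universe u
open CategoryTheory CategoryTheory.Limits AlgebraicGeometry Opposite TopologicalSpace

namespace Groth.Agent.H97.SepClosure

variable {X : Scheme.{u}}

/-- Restriction of functions. -/
noncomputable abbrev res {V U : X.Opens} (h : V ≤ U) : Γ(X, U) →+* Γ(X, V) :=
  (X.presheaf.map (homOfLE h).op).hom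

/-- On a separated scheme, functions on `U ⊓ W` come from functions on `U` and on `W`. -/
lemma closure_res_eq_top [X.IsSeparated] {U W : X.Opens}
    (hU : IsAffineOpen U) (hW : IsAffineOpen W) :
    Subring.closure (Set.range (res (inf_le_left : U ⊓ W ≤ U)) ∪
      Set.range (res (inf_le_right : U ⊓ W ≤ W))) = ⊤ := by
  let sk := terminal.from X
  have hO : IsAffineOpen (U ⊓ W) := hU.inf hW
  set a := res (inf_le_left : U ⊓ W ≤ U)
  set b := res (inf_le_right : U ⊓ W ≤ W)
  set D := Subring.closure (Set.range a ∪ Set.range b) with hD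
  let jA : Γ(X, U) →+* D := a.codRestrict D fun x => Subring.subset_closure (Or.inl ⟨x, rfl⟩)
  let jB : Γ(X, W) →+* D := b.codRestrict D fun x => Subring.subset_closure (Or.inr ⟨x, rfl⟩)
  have e₁ : Spec.map (CommRingCat.ofHom a) ≫ hU.fromSpec = hO.fromSpec :=
    hU.map_fromSpec hO (homOfLE inf_le_left).op
  have e₂ : Spec.map (CommRingCat.ofHom b) ≫ hW.fromSpec = hO.fromSpec :=
    hW.map_fromSpec hO (homOfLE inf_le_right).op
  haveI : IsOpenImmersion (Spec.map (CommRingCat.ofHom a)) := by
    haveI : IsOpenImmersion (Spec.map (CommRingCat.ofHom a) ≫ hU.fromSpec) := e₁ ▸ inferInstance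
    exact IsOpenImmersion.of_comp _ hU.fromSpec
  have hpb : IsPullback (Spec.map (CommRingCat.ofHom b)) (Spec.map (CommRingCat.ofHom a))
      hW.fromSpec hU.fromSpec := by
    refine IsOpenImmersion.isPullback _ _ _ _ (e₁.trans e₂.symm) (Opens.ext ?_)
    have h1 := congrArg (fun f : Spec Γ(X, U ⊓ W) ⟶ X => Set.range f) e₁
    simp only [Scheme.Hom.comp_base, TopCat.coe_comp, Set.range_comp, hO.range_fromSpec] at h1
    change hU.fromSpec ⁻¹' Set.range hW.fromSpec = Set.range (Spec.map (CommRingCat.ofHom a))
    rw [hW.range_fromSpec, ← hU.fromSpec.isOpenEmbedding.injective.image_injective.eq_iff, h1,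
      Set.image_preimage_eq_inter_range, hU.range_fromSpec, Set.inter_comm]
    rfl
  let Φ := hpb.isoPullback.hom ≫ pullback.mapDesc hW.fromSpec hU.fromSpec sk
  haveI : IsClosedImmersion Φ := inferInstance
  have w : Spec.map (CommRingCat.ofHom jB) ≫ (hW.fromSpec ≫ sk) =
      Spec.map (CommRingCat.ofHom jA) ≫ (hU.fromSpec ≫ sk) := by
    exact terminal.hom_ext _ _
  let g : Spec (CommRingCat.of D) ⟶ pullback (hW.fromSpec ≫ sk) (hU.fromSpec ≫ sk) :=
    pullback.lift _ _ w
  let incl := Spec.map (CommRingCat.ofHom D.subtype)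
  have hfac : incl ≫ g = Φ := by
    refine pullback.hom_ext ?_ ?_
    · simp only [g, Φ, incl, pullback.lift_fst, Category.assoc, pullback.mapDesc,
        pullback.map, Category.comp_id, IsPullback.isoPullback_hom_fst, ← Spec.map_comp]
      rfl
    · simp only [g, Φ, incl, pullback.lift_snd, Category.assoc, pullback.mapDesc,
        pullback.map, Category.comp_id, IsPullback.isoPullback_hom_snd, ← Spec.map_comp]
      rfl
  haveI : IsClosedImmersion (incl ≫ g) := by rw [hfac]; infer_instance
  haveI : IsSeparated g := by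
    haveI : IsSeparated (g ≫ pullback.fst _ _) := by
      rw [pullback.lift_fst]; infer_instance
    exact IsSeparated.of_comp g (pullback.fst _ _)
  haveI : IsClosedImmersion incl := IsClosedImmersion.of_comp incl g
  have hs := (IsClosedImmersion.isAffine_surjective_of_isAffine (f := incl)).2
  rw [eq_top_iff]
  intro c _
  obtain ⟨d, hd⟩ := hs ((Scheme.ΓSpecIso _).inv c)
  have hnat := ConcreteCategory.congr_hom
    (Scheme.ΓSpecIso_naturality (CommRingCat.ofHom D.subtype)) d
  simp only [CommRingCat.comp_apply] at hnat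
  erw [hd] at hnat
  have : c = D.subtype ((Scheme.ΓSpecIso (CommRingCat.of D)).hom d) := by
    refine Eq.trans ?_ hnat
    exact ((Scheme.ΓSpecIso _).commRingCatIsoToRingEquiv.apply_symm_apply c).symm
  rw [this]
  exact SetLike.coe_mem _

end Groth.Agent.H97.SepClosure
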