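import Groth.Agent.H97.FiniteAffine
import Groth.Agent.H97.DimOneSetup
import Groth.Agent.H97.SepClosure
import Mathlib.RingTheory.IntegralClosure.IsIntegralClosure.Basic

/-! A function on an affine open of a separated one-dimensional Noetherian scheme with poles at every
missing point. -/

set_option autoImplicit false
universe u
open CategoryTheory AlgebraicGeometry TopologicalSpace

namespace Groth.Agent.H97.PoleFn

open Groth.Agent.H97.AffineImages Groth.Agent.H97.DimOneSetup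
open Groth.Agent.Lib.SemiLocalDimOne

/-- In `A → T` with `t` invertible in `T` and every element of `T` clearing after a power of `t`, an
element congruent to elements of `A` modulo primes covering the nilradical has a power of `t` times
it becoming integral: precisely, some positive power of `t * z` is `t` times an element of `A`. -/
theorem exists_pow_eq {A T : Type u} [CommRing A] [CommRing T] (φ : A →+* T) (t : A)
    (hclear : ∀ e : T, ∃ (n : ℕ) (a : A), φ t ^ n * e = φ a) {J : Type*} [Fintype J]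
    (P : J → Ideal T) (hP : ∀ j, (P j).IsPrime) (hnil : ∀ e : T, (∀ j, e ∈ P j) → IsNilpotent e)
    (z : T) (hz : ∀ j, ∃ a : A, z - φ a ∈ P j) :
    ∃ (N : ℕ) (a : A), 0 < N ∧ (φ t * z) ^ N = φ (t * a) := by
  classical
  choose a ha using hz
  obtain ⟨e, he⟩ := hnil (∏ j, (z - φ (a j))) fun j => by
    rw [← Finset.mul_prod_erase _ _ (Finset.mem_univ j)]
    exact (P j).mul_mem_right _ (ha j)
  let _ := φ.toAlgebra
  have hint : IsIntegral A z := by
    refine ⟨(∏ j, (Polynomial.X - Polynomial.C (a j))) ^ e,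
      (Polynomial.monic_prod_of_monic _ _ fun j _ => Polynomial.monic_X_sub_C _).pow e, ?_⟩
    rw [Polynomial.eval₂_pow, Polynomial.eval₂_finsetProd]
    simpa [RingHom.algebraMap_toAlgebra] using he
  have hfg := hint.fg_adjoin_singleton
  obtain ⟨G, hG⟩ := hfg
  choose n b hb using hclear
  let c := G.sup n
  have hall : ∀ w ∈ Submodule.span A (G : Set T), ∃ a : A, φ t ^ c * w = φ a := by
    intro w hw
    induction hw using Submodule.span_induction with
    | mem x hx =>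
      refine ⟨t ^ (c - n x) * b x, ?_⟩
      rw [map_mul, map_pow, ← hb, ← mul_assoc, ← pow_add, Nat.sub_add_cancel (Finset.le_sup hx)]
    | zero => exact ⟨0, by rw [mul_zero, map_zero]⟩
    | add x y hx hy ihx ihy =>
      obtain ⟨p, hp⟩ := ihx
      obtain ⟨q, hq⟩ := ihy
      exact ⟨p + q, by rw [mul_add, hp, hq, map_add]⟩
    | smul r x hx ih =>
      obtain ⟨p, hp⟩ := ih
      exact ⟨r * p, by rw [Algebra.smul_def, RingHom.algebraMap_toAlgebra, mul_left_comm, hp, map_mul]⟩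
  obtain ⟨p, hp⟩ := hall (z ^ (c + 1)) (by
    rw [hG]
    exact pow_mem (Algebra.subset_adjoin (Set.mem_singleton z)) _)
  refine ⟨c + 1, p, Nat.succ_pos c, ?_⟩
  rw [mul_pow, pow_succ (φ t), map_mul, ← hp, mul_comm (φ t ^ c) (φ t), mul_assoc]

open Groth.Agent.H97.IntegralFinite Groth.Agent.H97.AffineMerge

theorem mem_loc {Y : Scheme.{u}} [IsIntegral Y] {W : Y.Opens} [Nonempty W] {z : Y} (hz : z ∈ W)
    (r : Γ(Y, W)) : Y.germToFunctionField W r ∈ loc z :=
  ⟨Y.presheaf.germ W z hz r, Y.algebraMap_germ_eq_germToFunctionField hz r⟩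

theorem isUnit_of_germToFunctionField_ne_zero {Y : Scheme.{u}} [IsIntegral Y] {W : Y.Opens}
    [Nonempty W] (r : Γ(Y, W)) :
    genericPoint Y ∈ Y.basicOpen r ↔ Y.germToFunctionField W r ≠ 0 := by
  have hW : genericPoint Y ∈ W :=
    ((genericPoint_spec Y).mem_open_set_iff W.isOpen).2 (by
      obtain ⟨w⟩ := ‹Nonempty W›; exact ⟨w.1, trivial, w.2⟩)
  rw [Y.mem_basicOpen r _ hW]
  exact isUnit_iff_ne_zero

/-- On an integral curve, functions on an affine open with poles at missing points. -/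
theorem exists_pole_integral {Y : Scheme.{u}} [IsIntegral Y] [IsLocallyNoetherian Y] [Y.IsSeparated]
    {W : Y.Opens} [Nonempty W] (hW : IsAffineOpen W) (S : Finset Y) (hS : ∀ z ∈ S, z ∉ W)
    (hd : ∀ z ∈ S, ringKrullDim (Y.presheaf.stalk z) ≤ 1) :
    ∃ r : Γ(Y, W), Y.germToFunctionField W r ≠ 0 ∧
      ∀ z ∈ S, Glue.Nice (loc z) ∧ Glue.InJac (loc z) (Y.germToFunctionField W r)⁻¹ := by
  classical
  let A : Subring Y.functionField := (Y.germToFunctionField W).hom.range
  have hη : genericPoint Y ∈ W :=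
    ((genericPoint_spec Y).mem_open_set_iff W.isOpen).2 (by
      obtain ⟨w⟩ := ‹Nonempty W›; exact ⟨w.1, trivial, w.2⟩)
  have hd1 : ∀ z ∈ S, ringKrullDim (Y.presheaf.stalk z) = 1 := fun z hz => by
    refine le_antisymm (hd z hz) ?_
    obtain ⟨p, hp⟩ : genericPoint Y ∈ Set.range (Y.fromSpecStalk z) := by
      rw [Scheme.range_fromSpecStalk]; exact (genericPoint_spec Y).specializes trivial
    let p' : PrimeSpectrum (Y.presheaf.stalk z) := p
    have hlt : p' < IsLocalRing.closedPoint (Y.presheaf.stalk z) := by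
      refine lt_of_le_of_ne (IsLocalRing.le_maximalIdeal p'.2.ne_top) fun h => hS z hz ?_
      have : genericPoint Y = z := by
        rw [← hp, show p = IsLocalRing.closedPoint _ from h, Scheme.fromSpecStalk_closedPoint]
      rwa [this] at hη
    exact Order.one_le_krullDim_iff.2 ⟨_, _, hlt⟩
  have hgen : ∀ z ∈ S, A ⊔ loc z = ⊤ := by
    intro z hz
    by_contra hne
    let R : Subring Y.functionField := A ⊔ loc z
    have hnf : ¬ IsField R := by
      intro hF
      refine hne (top_unique fun q _ => ?_)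
      obtain ⟨a, b, hb, rfl⟩ := IsFractionRing.div_surjective (A := Y.presheaf.stalk z) q
      have hbS : algebraMap _ Y.functionField b ∈ R := (le_sup_right : loc z ≤ R) ⟨b, rfl⟩
      have hb0 : (⟨_, hbS⟩ : R) ≠ 0 := fun h => nonZeroDivisors.ne_zero hb
        (IsFractionRing.injective (Y.presheaf.stalk z) Y.functionField
          ((congrArg Subtype.val h).trans (map_zero _).symm))
      obtain ⟨c, hc⟩ := hF.mul_inv_cancel hb0
      rw [div_eq_mul_inv]
      refine mul_mem ((le_sup_right : loc z ≤ R) ⟨a, rfl⟩) ?_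
      rw [← eq_inv_of_mul_eq_one_right (congrArg Subtype.val hc : _ * (c : Y.functionField) = 1)]
      exact c.2
    obtain ⟨Q, hQ⟩ := Ideal.exists_maximal R
    have := hQ.isPrime
    have hQ0 : Q ≠ ⊥ := Ring.ne_bot_of_isMaximal_of_not_isField hQ hnf
    -- the centre of `Q` on `W`
    let ψ : Γ(Y, W) →+* R := (Y.germToFunctionField W).hom.codRestrict R
      fun a => (le_sup_left : A ≤ R) ⟨a, rfl⟩
    let w : Y := hW.fromSpec ⟨Q.comap ψ, Ideal.IsPrime.comap ψ⟩
    have hwW : w ∈ W := by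
      rw [← SetLike.mem_coe, ← hW.range_fromSpec]; exact ⟨_, rfl⟩
    let _ := TopCat.Presheaf.algebra_section_stalk Y.presheaf (⟨w, hwW⟩ : W)
    have hloc := hW.isLocalization_stalk ⟨w, hwW⟩
    have hprime : (hW.primeIdealOf ⟨w, hwW⟩).asIdeal = Q.comap ψ := by
      have : hW.primeIdealOf ⟨w, hwW⟩ = ⟨Q.comap ψ, Ideal.IsPrime.comap ψ⟩ :=
        hW.fromSpec.isOpenEmbedding.injective (hW.fromSpec_primeIdealOf ⟨w, hwW⟩)
      exact congrArg PrimeSpectrum.asIdeal this
    have hu : ∀ s : (hW.primeIdealOf ⟨w, hwW⟩).asIdeal.primeCompl,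
        IsUnit (((algebraMap R (Localization.AtPrime Q)).comp ψ) s) := fun s =>
      (IsLocalization.AtPrime.isUnit_to_map_iff _ Q _).2 fun h => s.2 (hprime.ge (show (s : Γ(Y, W)) ∈ Q.comap ψ from h))
    let h : Y.presheaf.stalk w →+* Localization.AtPrime Q := IsLocalization.lift hu
    have hh : ∀ r, h (algebraMap Γ(Y, W) (Y.presheaf.stalk w) r) = algebraMap R _ (ψ r) :=
      fun r => IsLocalization.lift_eq hu r
    have : IsLocalHom h := ⟨fun a ha => by
      obtain ⟨⟨r, s⟩, hrs⟩ := IsLocalization.surj (hW.primeIdealOf ⟨w, hwW⟩).asIdeal.primeCompl a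
      have h1 : IsUnit (h (algebraMap Γ(Y, W) (Y.presheaf.stalk w) r)) := by
        rw [← hrs, map_mul]
        exact ha.mul ((IsLocalization.map_units _ s).map h)
      rw [hh, IsLocalization.AtPrime.isUnit_to_map_iff _ Q] at h1
      have h2 : IsUnit (algebraMap Γ(Y, W) (Y.presheaf.stalk w) r) :=
        IsLocalization.map_units _ (⟨r, fun h' => h1 (hprime.le h')⟩ :
          (hW.primeIdealOf ⟨w, hwW⟩).asIdeal.primeCompl)
      rw [← hrs] at h2
      exact (IsUnit.mul_iff.1 h2).1⟩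
    have hcomp : (IsLocalization.lift (M := Q.primeCompl) (S := Localization.AtPrime Q)
        (g := R.subtype) (by simp [Ideal.primeCompl, not_imp_not])).comp h =
        algebraMap (Y.presheaf.stalk w) Y.functionField := by
      refine IsLocalization.ringHom_ext (hW.primeIdealOf ⟨w, hwW⟩).asIdeal.primeCompl (RingHom.ext fun r => ?_)
      rw [RingHom.comp_apply, RingHom.comp_apply, hh, IsLocalization.lift_eq]
      exact (Y.algebraMap_germ_eq_germToFunctionField hwW r).symm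
    have hle : LocalSubring.range (algebraMap (Y.presheaf.stalk w) Y.functionField) ≤
        LocalSubring.ofPrime R Q := Groth.Agent.Lib.SchLoc.range_le_range_of_comp _ _ h hcomp
    have := Groth.Agent.Lib.SchLoc.eq_of_range_le
      (IntegralFinite.le_ofPrime_of_dim_one (hd1 z hz) R le_sup_right Q hQ0) hle
    refine hS z hz ?_
    rw [this]; exact hwW
  obtain ⟨n, ⟨e⟩⟩ := Finite.exists_equiv_fin {z // z ∈ S}
  obtain ⟨x, ⟨r, rfl⟩, hx0, hx⟩ := Glue.exists_inv_injac A (fun i : Fin n => loc (e.symm i).1)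
    (fun i => IntegralFinite.nice_loc _ (hd1 _ (e.symm i).2)) (fun i => hgen _ (e.symm i).2)
  refine ⟨r, hx0, fun z hz => ⟨IntegralFinite.nice_loc _ (hd1 z hz), ?_⟩⟩
  have := hx (e ⟨z, hz⟩)
  simp only [Equiv.symm_apply_apply] at this
  exact this

/-- A function on `U₁` with poles at all missing points and vanishing off `U`, with its inverse near
those points. -/
theorem exists_pole {X : Scheme.{u}} [X.IsSeparated] [IsNoetherian X]
    (hdim : topologicalKrullDim X ≤ 1) {U₁ U : X.Opens} (hU₁ : IsAffineOpen U₁) (hU : IsAffineOpen U)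
    (hg₁ : ∀ η : X, IsGen η → η ∈ U₁) (hg : ∀ η : X, IsGen η → η ∈ U)
    (hcompl : ∀ z : X, z ∉ U₁ → z ∈ U) :
    ∃ (V : X.Opens) (a : Γ(X, V)) (h : Γ(X, U₁)), IsAffineOpen V ∧ V ≤ U ∧
      (∀ z : X, z ∉ U₁ → z ∈ V) ∧ X.basicOpen a ≤ U₁ ∧ X.basicOpen h ≤ U ∧
      X.presheaf.map (homOfLE (inf_le_left : V ⊓ U₁ ≤ V)).op a *
        X.presheaf.map (homOfLE (inf_le_right : V ⊓ U₁ ≤ U₁)).op h = 1 := by
  classical
  have hSfin : {z : X | z ∉ U₁}.Finite :=
    finite_of_no_gen hdim U₁.2.isClosed_compl fun z hz hgz => hz (hg₁ z hgz)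
  let S := hSfin.toFinset
  have hS : ∀ z, z ∈ S ↔ z ∉ U₁ := fun z => hSfin.mem_toFinset
  let G := {η : X // IsGen η}
  have : Finite G := (finite_gen (X := X)).to_subtype
  cases nonempty_fintype G
  let Zc : G → Closeds X := fun η => ⟨closure {η.1}, isClosed_closure⟩
  have hint : ∀ η : G, IsIntegral (red (Zc η)) := fun η =>
    have := FiniteAffine.isReduced_red (Zc η)
    have := FiniteAffine.irreducibleSpace_red (Zc η) isIrreducible_singleton.closure
    isIntegral_of_irreducibleSpace_of_isReduced _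
  have hgp : ∀ η : G, redι (Zc η) (genericPoint (red (Zc η))) = η.1 := fun η => by
    obtain ⟨y, hy⟩ := exists_redι_eq (Z := Zc η) (subset_closure (Set.mem_singleton η.1))
    exact η.2.eq_of_specializes (hy ▸ ((genericPoint_spec (red (Zc η))).specializes trivial).map
      (redι (Zc η)).continuous)
  have hne : ∀ (η : G) (W : X.Opens), η.1 ∈ W → Nonempty (redι (Zc η) ⁻¹ᵁ W : (red (Zc η)).Opens) :=
    fun η W h => ⟨⟨genericPoint _, show redι (Zc η) (genericPoint _) ∈ W by rw [hgp]; exact h⟩⟩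
  -- evaluation in the function fields of the components
  let φ : ∀ (η : G) (W : X.Opens), η.1 ∈ W → Γ(X, W) →+* (red (Zc η)).functionField := fun η W h =>
    letI := hne η W h
    ((red (Zc η)).germToFunctionField (redι (Zc η) ⁻¹ᵁ W)).hom.comp ((redι (Zc η)).app W).hom
  have φnat : ∀ (η : G) (W W' : X.Opens) (h : η.1 ∈ W) (h' : η.1 ∈ W') (hle : W' ≤ W) (r : Γ(X, W)),
      φ η W' h' (X.presheaf.map (homOfLE hle).op r) = φ η W h r := by
    intro η W W' h h' hle r
    have := hne η W h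
    have := hne η W' h'
    show (red (Zc η)).germToFunctionField _ ((redι (Zc η)).app W' (X.presheaf.map _ r)) =
      (red (Zc η)).germToFunctionField _ ((redι (Zc η)).app W r)
    rw [AffineImages.app_res]
    exact (red (Zc η)).presheaf.germ_res_apply _ _ _ _
  have φne : ∀ (η : G) (W : X.Opens) (h : η.1 ∈ W) (r : Γ(X, W)),
      η.1 ∈ X.basicOpen r ↔ φ η W h r ≠ 0 := by
    intro η W h r
    have := hne η W h
    show _ ↔ (red (Zc η)).germToFunctionField _ ((redι (Zc η)).app W r) ≠ 0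
    rw [← isUnit_of_germToFunctionField_ne_zero, ← Scheme.preimage_basicOpen]
    show _ ↔ redι (Zc η) (genericPoint _) ∈ X.basicOpen r
    rw [hgp]
  have hmemloc : ∀ (η : G) (W : X.Opens) (h : η.1 ∈ W) (y : red (Zc η)), redι (Zc η) y ∈ W →
      ∀ r, φ η W h r ∈ loc y := fun η W h y hy r =>
    haveI := hne η W h
    mem_loc (Y := red (Zc η)) (W := redι (Zc η) ⁻¹ᵁ W) hy _
  let SY : ∀ η : G, Finset (red (Zc η)) := fun η => (S.finite_toSet.preimage
    ((redι (Zc η)).isClosedEmbedding.injective.injOn (s := redι (Zc η) ⁻¹' (S : Set X)))).toFinset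
  have hSY : ∀ η y, y ∈ SY η ↔ redι (Zc η) y ∈ S := fun η y => Set.Finite.mem_toFinset _
  -- poles on each component
  have hcomp : ∀ η : G, ∃ H : Γ(X, U₁), φ η U₁ (hg₁ _ η.2) H ≠ 0 ∧ ∀ y ∈ SY η,
      Glue.Nice (loc y) ∧ Glue.InJac (loc y) (φ η U₁ (hg₁ _ η.2) H)⁻¹ := by
    intro η
    have := hint η
    have := hne η U₁ (hg₁ _ η.2)
    have : IsLocallyNoetherian (red (Zc η)) := LocallyOfFiniteType.isLocallyNoetherian (redι (Zc η))
    have : (red (Zc η)).IsSeparated := ⟨by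
      rw [← Limits.terminal.comp_from (redι (Zc η))]; infer_instance⟩
    obtain ⟨r, hr0, hr⟩ := exists_pole_integral (hU₁.preimage (redι (Zc η))) (SY η)
      (fun y hy h => (hS _).1 ((hSY η y).1 hy) h) fun y _ =>
        (ringKrullDim_le_of_surjective _ ((redι (Zc η)).stalkMap_surjective y)).trans
          (ringKrullDim_stalk_le_one hdim _)
    obtain ⟨H, rfl⟩ := (redι (Zc η)).app_surjective U₁ hU₁ r
    exact ⟨H, hr0, hr⟩
  choose H hH0 hH using hcomp
  -- separators of the components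
  have hsep : ∀ η : G, ∃ c : Γ(X, U₁), η.1 ∈ X.basicOpen c ∧ ∀ ξ : G, ξ ≠ η → ξ.1 ∉ X.basicOpen c := by
    intro η
    let O : X.Opens := ⟨(⋃ ξ ∈ {ξ : G | ξ ≠ η}, closure {ξ.1})ᶜ,
      ((Set.toFinite _).isClosed_biUnion fun _ _ => isClosed_closure).isOpen_compl⟩
    have hηO : η.1 ∈ O := by
      show η.1 ∉ ⋃ ξ ∈ {ξ : G | ξ ≠ η}, closure {ξ.1}
      simp only [Set.mem_iUnion, not_exists]
      exact fun ξ hξ hm => hξ (Subtype.ext (η.2.eq_of_specializes (specializes_iff_mem_closure.2 hm)))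
    obtain ⟨c, hc, hηc⟩ := hU₁.exists_basicOpen_le (⟨η.1, hηO⟩ : O) (hg₁ _ η.2)
    exact ⟨c, hηc, fun ξ hξ h => hc h (Set.mem_biUnion hξ (subset_closure rfl))⟩
  choose c hcη hcξ using hsep
  let φ₁ := fun η : G => φ η U₁ (hg₁ _ η.2)
  have hc0 : ∀ η, φ₁ η (c η) ≠ 0 := fun η => (φne η U₁ (hg₁ _ η.2) _).1 (hcη η)
  have hcz : ∀ η ξ, ξ ≠ η → φ₁ ξ (c η) = 0 := fun η ξ h => by
    by_contra hn
    exact hcξ η ξ h ((φne ξ U₁ (hg₁ _ ξ.2) _).2 hn)
  have hev : ∀ (η : G) (y : red (Zc η)) (hy : y ∈ SY η), ∃ n : ℕ, ∀ m, n ≤ m →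
      Glue.InJac (loc y) ((φ₁ η (H η))⁻¹ ^ m * (φ₁ η (c η))⁻¹) := by
    intro η y hy
    obtain ⟨hnice, hjac⟩ := hH η y hy
    obtain ⟨n, hn⟩ := hnice.exists_pow_mul_mem hjac (φ₁ η (c η))⁻¹
    refine ⟨n + 1, fun m hm => ?_⟩
    have := hjac.mul_mem (hn (m - 1) (by omega))
    have e : (φ₁ η (H η))⁻¹ ^ (m - 1) * (φ₁ η (c η))⁻¹ * (φ₁ η (H η))⁻¹ =
        (φ₁ η (H η))⁻¹ ^ m * (φ₁ η (c η))⁻¹ := by
      rw [mul_right_comm, ← pow_succ, Nat.sub_add_cancel (by omega : 1 ≤ m)]
    rwa [e] at this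
  choose n₁ hn₁ using hev
  let N₁ := Finset.univ.sup fun η : G => (SY η).attach.sup fun y => n₁ η y.1 y.2
  let h₀ : Γ(X, U₁) := ∑ η, c η * H η ^ N₁
  have hφh₀ : ∀ η, φ₁ η h₀ = φ₁ η (c η) * φ₁ η (H η) ^ N₁ := fun η => by
    simp only [h₀, map_sum, map_mul, map_pow]
    rw [Finset.sum_eq_single η (fun ξ _ hne => by rw [hcz ξ η (Ne.symm hne), zero_mul])
      (fun h => absurd (Finset.mem_univ η) h)]
  have hh₀0 : ∀ η, φ₁ η h₀ ≠ 0 := fun η => by
    rw [hφh₀]; exact mul_ne_zero (hc0 η) (pow_ne_zero _ (hH0 η))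
  have hjac₀ : ∀ η, ∀ y ∈ SY η, Glue.InJac (loc y) (φ₁ η h₀)⁻¹ := fun η y hy => by
    rw [hφh₀, mul_inv, ← inv_pow, mul_comm]
    exact hn₁ η y hy N₁ (le_trans
      (Finset.le_sup (f := fun y : {y // y ∈ SY η} => n₁ η y.1 y.2) (Finset.mem_attach _ ⟨y, hy⟩))
      (Finset.le_sup (f := fun η : G => (SY η).attach.sup fun y => n₁ η y.1 y.2) (Finset.mem_univ η)))
  -- the function cutting into `U`
  obtain ⟨g, hgU, hgG⟩ := exists_basicOpen hU₁ U (finite_gen (X := X)).toFinset
    (fun η hη => hg₁ η ((finite_gen (X := X)).mem_toFinset.1 hη))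
    (fun η hη => hg η ((finite_gen (X := X)).mem_toFinset.1 hη))
  let O : X.Opens := X.basicOpen (h₀ * g)
  have hOgen : ∀ η : X, IsGen η → η ∈ O := fun η hη => by
    show η ∈ X.basicOpen (h₀ * g)
    rw [Scheme.basicOpen_mul]
    exact ⟨(φne ⟨η, hη⟩ U₁ (hg₁ _ hη) _).2 (hh₀0 ⟨η, hη⟩), hgG η ((finite_gen (X := X)).mem_toFinset.2 hη)⟩
  obtain ⟨V, t, hV, hVU, hSV, hgV, htS, hVt, htO, htgen⟩ := exists_chart hdim hU O S
    (fun z hz => hcompl z ((hS z).1 hz)) (fun z hz h => (hS z).1 hz (X.basicOpen_le _ h)) hOgen hg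
  have hD : IsAffineOpen (X.basicOpen t) := hV.basicOpen t
  have hDle : X.basicOpen t ≤ U₁ := htO.trans (X.basicOpen_le _)
  have hUD : V ⊓ U₁ = X.basicOpen t := le_antisymm
    (fun z hz => by_contra fun h => (hS z).1 (hVt z hz.1 h) hz.2) (le_inf (X.basicOpen_le t) hDle)
  -- inverses on the overlap
  let T := Γ(X, X.basicOpen t)
  let rA : Γ(X, V) →+* T := (X.presheaf.map (homOfLE (X.basicOpen_le t)).op).hom
  let rB : Γ(X, U₁) →+* T := (X.presheaf.map (homOfLE hDle).op).hom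
  have hu : IsUnit (rB (h₀ * g)) := by
    have h1 := (RingedSpace.isUnit_res_basicOpen _ (h₀ * g)).map (X.presheaf.map (homOfLE htO).op).hom
    have e : (X.presheaf.map (homOfLE htO).op).hom
        (X.presheaf.map (homOfLE (X.basicOpen_le (h₀ * g))).op (h₀ * g)) = rB (h₀ * g) :=
      AffineImages.res_res _ _ _
    rwa [← e]
  rw [map_mul, IsUnit.mul_iff] at hu
  obtain ⟨⟨u, hu0⟩, ⟨w₁, hw₁⟩⟩ := And.intro hu.1.exists_right_inv hu.2.exists_right_inv
  obtain ⟨ti, hti⟩ := (show IsUnit (rA t) from RingedSpace.isUnit_res_basicOpen _ t).exists_right_inv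
  let w := w₁ * ti
  let ψ := fun η : G => φ η (X.basicOpen t) (htgen _ η.2)
  have hψu : ∀ η, ψ η u = (φ₁ η h₀)⁻¹ := fun η => by
    refine eq_inv_of_mul_eq_one_right ?_
    rw [show φ₁ η h₀ = ψ η (rB h₀) from (φnat η U₁ _ (hg₁ _ η.2) (htgen _ η.2) hDle h₀).symm, ← map_mul, hu0, map_one]
  have hev₂ : ∀ (η : G) (y : red (Zc η)) (hy : y ∈ SY η), ∃ n : ℕ, ∀ m, n ≤ m →
      ψ η (u ^ m * w) ∈ loc y := by
    intro η y hy
    obtain ⟨n, hn⟩ := ((hH η y hy).1).exists_pow_mul_mem (hjac₀ η y hy) (ψ η w)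
    exact ⟨n, fun m hm => by rw [map_mul, map_pow, hψu]; exact hn m hm⟩
  choose n₂ hn₂ using hev₂
  let N₂ := Finset.univ.sup fun η : G => (SY η).attach.sup fun y => n₂ η y.1 y.2
  have hclear : ∀ e : T, ∃ (n : ℕ) (a : Γ(X, V)), rA t ^ n * e = rA a := fun e => by
    have := hV.isLocalization_basicOpen t
    obtain ⟨⟨a, _, n, rfl⟩, hn⟩ := IsLocalization.surj (Submonoid.powers t) e
    refine ⟨n, a, ?_⟩
    rw [mul_comm, ← map_pow]
    exact hn
  let z₀ : T := u ^ N₂ * w
  obtain ⟨M, a, hM, hMa⟩ := exists_pow_eq rA t hclear (fun η : G => RingHom.ker (ψ η))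
    (fun η => RingHom.ker_isPrime _) (fun e he => by
      refine (X.isNilpotent_iff_basicOpen_eq_bot_of_isCompact hD.isCompact e).2 (eq_bot_iff.2 fun y hy => ?_)
      obtain ⟨η, hη, hηy⟩ := exists_gen_specializes y
      exact (φne ⟨η, hη⟩ _ (htgen _ hη) e).1 (hηy.mem_open (X.basicOpen e).2 hy) (he ⟨η, hη⟩))
    z₀ fun η => by
      let I : Ideal Γ(X, V) :=
        { carrier := {a | ∃ b, ψ η (rA a * z₀) = ψ η (rA b)}
          zero_mem' := ⟨0, by simp⟩
          add_mem' := fun {p q} ⟨b, hb⟩ ⟨b', hb'⟩ => ⟨b + b', by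
            rw [map_add, add_mul, map_add, hb, hb', map_add, map_add]⟩
          smul_mem' := fun r a ⟨b, hb⟩ => ⟨r * b, by
            rw [smul_eq_mul, map_mul rA, mul_assoc, map_mul (ψ η), hb, ← map_mul (ψ η), ← map_mul rA]⟩ }
      suffices h1 : (1 : Γ(X, V)) ∈ I by
        obtain ⟨b, hb⟩ := h1
        refine ⟨b, ?_⟩
        rw [map_one, one_mul] at hb
        rw [RingHom.mem_ker, map_sub, hb, sub_self]
      rw [← Ideal.eq_top_iff_one]
      by_contra hI
      obtain ⟨q, hq, hIq⟩ := Ideal.exists_le_maximal I hI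
      let p : X := hV.fromSpec ⟨q, hq.isPrime⟩
      have hpV : p ∈ V := by rw [← SetLike.mem_coe, ← hV.range_fromSpec]; exact ⟨_, rfl⟩
      have hmem : ∀ r ∈ I, p ∉ X.basicOpen r := fun r hr h => by
        have h' : (⟨q, hq.isPrime⟩ : PrimeSpectrum _) ∈ hV.fromSpec ⁻¹ᵁ X.basicOpen r := h
        rw [hV.fromSpec_preimage_basicOpen] at h'
        exact h' (hIq hr)
      by_cases hpt : p ∈ X.basicOpen t
      · obtain ⟨n, b, hb⟩ := hclear z₀
        refine hmem (t ^ (n + 1)) ⟨t * b, ?_⟩ (by rwa [X.basicOpen_pow _ (Nat.succ_pos n : 0 < n + 1)])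
        rw [map_pow, pow_succ, map_mul rA, ← hb, mul_comm (rA t ^ n) (rA t), mul_assoc]
      by_cases hpη : p ∈ closure ({η.1} : Set X)
      · obtain ⟨y, hy⟩ := exists_redι_eq (Z := Zc η) hpη
        have hyS : y ∈ SY η := (hSY η y).2 (hy ▸ hVt p hpV hpt)
        obtain ⟨σ, hσ⟩ := hn₂ η y hyS N₂ (le_trans
          (Finset.le_sup (f := fun y : {y // y ∈ SY η} => n₂ η y.1 y.2) (Finset.mem_attach _ ⟨y, hyS⟩))
          (Finset.le_sup (f := fun η : G => (SY η).attach.sup fun y => n₂ η y.1 y.2) (Finset.mem_univ η)))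
        have := hne η V (hgV _ η.2)
        obtain ⟨σ', rfl⟩ := (redι (Zc η)).stalkMap_surjective y σ
        have hyV : redι (Zc η) y ∈ V := hy.symm ▸ hpV
        let _ := TopCat.Presheaf.algebra_section_stalk X.presheaf (⟨redι (Zc η) y, hyV⟩ : V)
        have := hV.isLocalization_stalk ⟨redι (Zc η) y, hyV⟩
        obtain ⟨⟨b, s⟩, hbs⟩ := IsLocalization.surj
          (hV.primeIdealOf ⟨redι (Zc η) y, hyV⟩).asIdeal.primeCompl σ'
        have hps : p ∈ X.basicOpen (s : Γ(X, V)) := by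
          rw [← hy, X.mem_basicOpen _ _ hyV]
          exact IsLocalization.map_units (X.presheaf.stalk (redι (Zc η) y)) s
        refine hmem _ ⟨b, ?_⟩ hps
        have key : ∀ r : Γ(X, V), algebraMap ((red (Zc η)).presheaf.stalk y) (red (Zc η)).functionField
            ((redι (Zc η)).stalkMap y (X.presheaf.germ V (redι (Zc η) y) hyV r)) = ψ η (rA r) := fun r => by
          rw [Scheme.Hom.germ_stalkMap_apply]
          exact ((red (Zc η)).algebraMap_germ_eq_germToFunctionField _ _).trans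
            (φnat η V _ (hgV _ η.2) (htgen _ η.2) (X.basicOpen_le t) r).symm
        rw [map_mul, ← hσ, ← key, ← key, ← map_mul, ← map_mul]
        congr 2
        exact (mul_comm _ _).trans hbs
      · obtain ⟨r, hr, hpr⟩ := hV.exists_basicOpen_le
          (⟨p, hpη⟩ : (⟨(closure {η.1})ᶜ, isClosed_closure.isOpen_compl⟩ : X.Opens)) hpV
        refine hmem r ⟨0, ?_⟩ hpr
        have h0 : ψ η (rA r) = 0 := by
          by_contra hn
          have h2 := (φne η _ (htgen _ η.2) _).2 hn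
          rw [Scheme.basicOpen_res] at h2
          exact hr h2.2 (subset_closure rfl)
        rw [map_mul, h0, zero_mul, map_zero, map_zero]
  refine ⟨V, t * a, (h₀ ^ N₂ * g) ^ M, hV, hVU, fun z hz => hSV z ((hS z).2 hz), ?_, ?_, ?_⟩
  · rw [Scheme.basicOpen_mul]
    exact inf_le_left.trans hDle
  · rw [X.basicOpen_pow _ hM, Scheme.basicOpen_mul]
    exact inf_le_right.trans hgU
  · have key : rA (t * a) * rB ((h₀ ^ N₂ * g) ^ M) = 1 := by
      rw [← hMa, map_pow rB, ← mul_pow]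
      have : rA t * z₀ * rB (h₀ ^ N₂ * g) = 1 := by
        simp only [z₀, w, map_mul, map_pow]
        calc rA t * (u ^ N₂ * (w₁ * ti)) * (rB h₀ ^ N₂ * rB g)
            = (rB h₀ * u) ^ N₂ * (rB g * w₁) * (rA t * ti) := by ring
          _ = 1 := by rw [hu0, hw₁, hti, one_pow, one_mul, one_mul]
      rw [this, one_pow]
    have h2 := congrArg (X.presheaf.map (homOfLE hUD.le).op) key
    rw [map_mul, map_one] at h2
    simp only [rA, rB] at h2
    erw [AffineImages.res_res, AffineImages.res_res] at h2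
    exact h2

end Groth.Agent.H97.PoleFn
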