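import Groth.Agent.Lib.Curves.Degree
import Groth.Agent.Lib.Ample.Basis
import Groth.Agent.Lib.Cech.Sections
import Groth.Agent.S1551

/-! An invertible module on an integral proper curve is ample iff its degree is positive. -/

set_option autoImplicit false
universe u

open CategoryTheory CategoryTheory.Limits AlgebraicGeometry Opposite TopologicalSpace

noncomputable section

namespace Groth.Agent.H97.CurvePositivity

open Groth.Agent.Lib.TensorMod Groth.Agent.Lib.TensorMod.Dual Groth.Agent.Lib.TensorMod.Gen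
open Groth.Agent.Lib.TensorMod.Basic Groth.Agent.Lib.TensorMod.Pullback
open Groth.Agent.Lib.Ample.GenLocus Groth.Agent.Lib.Ample.Pow Groth.Agent.Lib.Ample.Basis
open Groth.Agent.Lib.Curves Groth.Agent.Lib.TensorMod.HomGlue

/-- `B`, `B ⊗ M`, `(B ⊗ M) ⊗ M`, … -/
def tw {X : Scheme.{u}} (B M : X.Modules) : ℕ → X.Modules
  | 0 => B
  | j + 1 => CohB1.tensorMod (tw B M j) M

/-- The iterated twist is the twist by a tensor power. -/
def twIso {X : Scheme.{u}} (B M : X.Modules) :
    ∀ j, tw B M j ≅ CohB1.tensorMod B (CohB1.tensorPow M j)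
  | 0 => (rightUnit B).symm
  | j + 1 => tensorIso (twIso B M j) (Iso.refl M) ≪≫ Basic.assoc _ _ _

theorem isInvertible_tw {X : Scheme.{u}} {B M : X.Modules} (hB : PicF.IsInvertible B)
    (hM : PicF.IsInvertible M) : ∀ j, PicF.IsInvertible (tw B M j)
  | 0 => hB
  | j + 1 => Invertible.isInvertible_tensorMod (isInvertible_tw hB hM j) hM

/-- `A ⊗ (B ⊗ C) ≅ C` when `B` is inverse to `A`. -/
def cancelInv {X : Scheme.{u}} {A B : X.Modules} (i : CohB1.tensorMod A B ≅ Coh.structureModule X)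
    (C : X.Modules) : CohB1.tensorMod A (CohB1.tensorMod B C) ≅ C :=
  (Basic.assoc A B C).symm ≪≫ tensorIso i (Iso.refl C) ≪≫ leftUnit C

/-- Multiplication by a section. -/
theorem exists_mulSec {X : Scheme.{u}} {F M : X.Modules} (hF : PicF.IsInvertible F)
    (s : Coh.structureModule X ⟶ M) :
    ∃ φ : F ⟶ CohB1.tensorMod F M, ∀ (U : X.Opens) (e : Γ(F, U)), IsGen F U e →
      φ.app U e = (SecTwist.tmul F M U e (sv s U) : Γ(CohB1.tensorMod F M, U)) := by
  choose V ε hxV hε using isInvertible_iff.1 hF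
  have hV : iSup V = ⊤ := top_unique fun x _ => Opens.mem_iSup.2 ⟨x, hxV x⟩
  obtain ⟨φ, hφ⟩ := HomGlue.exists_hom_of_gen (M := CohB1.tensorMod F M) hV ε hε
    (fun x => (SecTwist.tmul F M (V x) (ε x) (sv s (V x)) : Γ(CohB1.tensorMod F M, V x)))
    fun i j W hi hj c hc => by
      rw [rs_tmul, rs_tmul, rs_sv, rs_sv, hc, ← pairM_id, ← pairM_id, pairM_smul_left]
  refine ⟨φ, fun U e he => ?_⟩
  refine HomGlue.sections_ext_cover V _ (V := U) (by rw [hV]; exact le_top) fun x => ?_
  obtain ⟨a, ha⟩ := (hε x (U ⊓ V x) inf_le_right).2 (rs F inf_le_left e)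
  simp only at ha
  rw [rs_tmul, rs_sv, rs_app, ← ha, Scheme.Modules.Hom.app_smul, ← rs_app, hφ, rs_tmul, rs_sv,
    ← pairM_id, ← pairM_id, pairM_smul_left]

section Curve

variable (k : Type u) [Field k] {X : Scheme.{u}} [X.Over (Spec (CommRingCat.of k))]
  [IsProper (X ↘ Spec (CommRingCat.of k))] [IsIntegral X]

/-- The degree of a tensor power. -/
theorem deg_tensorPow (hdim : topologicalKrullDim X ≤ 1) {L : X.Modules} (hL : PicF.IsInvertible L) :
    ∀ n : ℕ, Curv2.deg k X (CohB1.tensorPow L n) 1 = n * Curv2.deg k X L 1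
  | 0 => by
    rw [Nat.cast_zero, zero_mul]
    exact Degree.deg_structureModule (k := k)
  | n + 1 => by
    have := Degree.deg_tensor (k := k) hdim (Invertible.isInvertible_tensorPow hL n) hL
    rw [deg_tensorPow hdim hL n] at this
    refine this.trans ?_
    push_cast
    ring

omit [IsIntegral X] in
/-- Positive Euler characteristic gives a nonzero class in degree zero. -/
theorem nontrivial_of_euler_pos (hdim : topologicalKrullDim X ≤ 1) {L : X.Modules}
    (hL : PicF.IsInvertible L) (h : 0 < Curv2.euler k X L) : Nontrivial (Coh.HH X L 0) := by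
  rw [Euler.euler_eq (Degree.isGood (k := k) hdim hL).vanish] at h
  refine not_subsingleton_iff_nontrivial.1 fun hs => ?_
  have h0 : Euler.hdim k X L 0 = 0 := Module.finrank_zero_of_subsingleton
  rw [h0] at h
  simp only [Nat.cast_zero, zero_sub, Left.neg_pos_iff] at h
  omega

omit [X.Over (Spec (CommRingCat.of k))] [IsProper (X ↘ Spec (CommRingCat.of k))] in
/-- The locus of a nonzero section contains the generic point. -/
theorem genericPoint_mem_genLocus {L : X.Modules} (hL : PicF.IsInvertible L)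
    {s : Coh.structureModule X ⟶ L} (hs : s ≠ 0) : genericPoint X ∈ CohB1.genLocus L s := by
  obtain ⟨U, e, hη, he⟩ := isInvertible_iff.1 hL (genericPoint X)
  obtain ⟨a, ha⟩ := exists_coord he (sv s U)
  refine ((genLocus_inf_eq he s ha).ge ?_).1
  have : Nonempty U := ⟨⟨_, hη⟩⟩
  rw [Scheme.mem_basicOpen _ _ _ hη]
  refine (isUnit_iff_ne_zero (G₀ := X.functionField)).2 fun h0 => ?_
  have ha0 : a = 0 := germ_injective_of_isIntegral X _ hη (h0.trans (map_zero _).symm)
  exact Integral.app_gen_ne_zero (PicLoc.isInvertible_structureModule X) hL hs (isGen_one U) this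
    (show s.app U (one X U) = 0 from ha.trans (by rw [ha0, zero_smul]))

omit [X.Over (Spec (CommRingCat.of k))] [IsProper (X ↘ Spec (CommRingCat.of k))] in
theorem ne_zero_of_mem_genLocus {L : X.Modules} (hL : PicF.IsInvertible L)
    {s : Coh.structureModule X ⟶ L} {x : X} (hx : x ∈ CohB1.genLocus L s) : s ≠ 0 := by
  intro h0
  obtain ⟨U, e, hxU, he⟩ := isInvertible_iff.1 hL x
  have h := genLocus_inf_eq he s (a := 0) (by rw [h0, zero_smul]; rfl)
  rw [Scheme.basicOpen_zero] at h
  exact h.le ⟨hx, hxU⟩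

/-- Some power of a module of positive degree has a nonzero section vanishing at a closed point. -/
theorem exists_section_vanishing (hdim : topologicalKrullDim X ≤ 1) {L A : X.Modules}
    (hL : PicF.IsInvertible L) (hA : PicF.IsInvertible A) (hdeg : 0 < Curv2.deg k X L 1) {x : X}
    (t : Coh.structureModule X ⟶ A) (ht : t ≠ 0) (hxt : x ∉ CohB1.genLocus A t) :
    ∃ (n : ℕ) (s : Coh.structureModule X ⟶ CohB1.tensorPow L n),
      0 < n ∧ s ≠ 0 ∧ x ∉ CohB1.genLocus _ s := by
  haveI := GlobalSections.noetherianSpace_of_proper k X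
  obtain ⟨B, hB, ⟨i⟩⟩ := Invertible.exists_inverse hA
  let n : ℕ := (-(Curv2.deg k X B 1 + Curv2.euler k X (Coh.structureModule X))).toNat + 1
  have hn := Invertible.isInvertible_tensorPow hL n
  have hBn := Invertible.isInvertible_tensorMod hB hn
  have hpos : 0 < Curv2.euler k X (CohB1.tensorMod B (CohB1.tensorPow L n)) := by
    have h1 := Degree.deg_tensor (k := k) hdim hB hn
    rw [Degree.deg_eq, deg_tensorPow k hdim hL n] at h1
    have h2 : (n : ℤ) ≤ (n : ℤ) * Curv2.deg k X L 1 :=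
      le_mul_of_one_le_right (Int.natCast_nonneg n) (by omega)
    have h3 := Int.self_le_toNat (-(Curv2.deg k X B 1 + Curv2.euler k X (Coh.structureModule X)))
    have h4 : (n : ℤ) = ((-(Curv2.deg k X B 1 + Curv2.euler k X (Coh.structureModule X))).toNat : ℤ) + 1 :=
      Nat.cast_succ _
    linarith
  obtain ⟨v, hv⟩ := Positivity.exists_section_of_nontrivial (nontrivial_of_euler_pos k hdim hBn hpos)
  let s := SecTwist.tmulHom t v ≫ (cancelInv i (CohB1.tensorPow L n)).hom
  have hloc : CohB1.genLocus _ s = CohB1.genLocus A t ⊓ CohB1.genLocus _ v :=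
    (genLocus_comp_iso _ _).trans (genLocus_tmulHom hA hBn t v)
  refine ⟨n, s, Nat.succ_pos _, ne_zero_of_mem_genLocus hn (x := genericPoint X) ?_, fun h => hxt (hloc.le h).1⟩
  rw [hloc]
  exact ⟨genericPoint_mem_genLocus hA ht, genericPoint_mem_genLocus hBn hv⟩

include k in
/-- At a zero of a section of `M`, twists of `B` by high powers of `M` have nonvanishing sections. -/
theorem exists_section_nonvanishing (hdim : topologicalKrullDim X ≤ 1) {B M : X.Modules}
    (hB : PicF.IsInvertible B) (hM : PicF.IsInvertible M) {s : Coh.structureModule X ⟶ M}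
    (hs : s ≠ 0) {x : X} (hx : x ∉ CohB1.genLocus M s) :
    ∃ j, 0 < j ∧ ∃ τ : Coh.structureModule X ⟶ tw B M j, x ∈ CohB1.genLocus _ τ := by
  haveI := GlobalSections.noetherianSpace_of_proper k X
  choose φ hφ using fun j => exists_mulSec (isInvertible_tw hB hM j) s
  have hne : ∀ j, φ j ≠ 0 := by
    intro j h0
    obtain ⟨U₁, e₁, hη₁, he₁⟩ := isInvertible_iff.1 (isInvertible_tw hB hM j) (genericPoint X)
    obtain ⟨U₂, g₂, hη₂, hg₂⟩ := isInvertible_iff.1 hM (genericPoint X)
    have he := he₁.res (inf_le_left : U₁ ⊓ U₂ ≤ U₁)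
    have hg := hg₂.res (inf_le_right : U₁ ⊓ U₂ ≤ U₂)
    obtain ⟨a, ha⟩ := exists_coord hg (sv s (U₁ ⊓ U₂))
    have hη : genericPoint X ∈ X.basicOpen a :=
      (genLocus_inf_eq hg s ha).le ⟨genericPoint_mem_genLocus hM hs, hη₁, hη₂⟩
    have h1 := hφ j _ _ he
    rw [h0, ha, ← pairM_id, pairM_smul_right] at h1
    have h2 : a = 0 := (isGen_tmul he hg _ le_rfl).1
      (show a • rs _ le_rfl _ = (0 : Γ(X, U₁ ⊓ U₂)) • rs _ le_rfl _ by
        rw [rs_self, zero_smul]; exact h1.symm)
    rw [h2, Scheme.basicOpen_zero] at hη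
    exact hη
  have hgood : ∀ j, Euler.IsGood k X (tw B M j) := fun j => Degree.isGood hdim (isInvertible_tw hB hM j)
  have hmono : ∀ j, Mono (φ j) := fun j => Positivity.mono_of_ne_zero (M := CohB1.tensorMod (tw B M j) M)
    (isInvertible_tw hB hM j) (Invertible.isInvertible_tensorMod (isInvertible_tw hB hM j) hM) (hne j)
  have hSES : ∀ j, (Positivity.cokerSES (φ j)).ShortExact := fun j =>
    haveI := hmono j
    Positivity.cokerSES_shortExact (φ j)
  have hT : ∀ j, Positivity.IsTorsion (cokernel (φ j)) := fun j =>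
    Positivity.isTorsion_cokernel (M := CohB1.tensorMod (tw B M j) M) (isInvertible_tw hB hM j)
      (Invertible.isInvertible_tensorMod (isInvertible_tw hB hM j) hM) (hne j)
  have hsurj : ∀ j, Function.Surjective (LES.mapK k (φ j) 1) := fun j z => by
    haveI := (hT j).subsingleton_HH_succ hdim 0
    exact (LES.exactK₂ k (hSES j) 1 z).1 (Subsingleton.elim _ _)
  -- `h¹` stops dropping
  obtain ⟨j, hj, hmin⟩ : ∃ j, 0 < j ∧ ∀ i, 0 < i →
      Euler.hdim k X (tw B M j) 1 ≤ Euler.hdim k X (tw B M i) 1 := by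
    classical
    have he : ∃ d, ∃ j, 0 < j ∧ Euler.hdim k X (tw B M j) 1 = d := ⟨_, 1, one_pos, rfl⟩
    obtain ⟨j, hj, hd⟩ := Nat.find_spec he
    exact ⟨j, hj, fun i hi => hd.trans_le (Nat.find_le ⟨i, hi, rfl⟩)⟩
  haveI := (hgood j).fin₁
  haveI : FiniteDimensional k (Coh.HH X (CohB1.tensorMod (tw B M j) M) 1) := (hgood (j + 1)).fin₁
  have heq : Euler.hdim k X (tw B M j) 1 = Euler.hdim k X (tw B M (j + 1)) 1 :=
    le_antisymm (hmin _ (Nat.succ_pos _))
      (LinearMap.finrank_le_finrank_of_surjective (f := LES.mapK k (φ j) 1) (hsurj j))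
  haveI : FiniteDimensional k (Coh.HH X (tw B M (j + 1)) 1) := (hgood (j + 1)).fin₁
  have hinj : Function.Injective (LES.mapK k (φ j) 1) :=
    (LinearMap.injective_iff_surjective_of_finrank_eq_finrank heq).2 (hsurj j)
  have hH0 : Function.Surjective (LES.mapK k (cokernel.π (φ j)) 0) := fun z => by
    refine (LES.exactK₃ k (hSES j) 0 1 rfl z).1 (hinj ?_)
    rw [map_zero]
    exact (LES.exactK₁ k (hSES j) 0 1 rfl).apply_apply_eq_zero z
  -- the generator near `x` lifts to a global section up to a unit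
  obtain ⟨U₁, e₁, hx₁, he₁⟩ := isInvertible_iff.1 (isInvertible_tw hB hM j) x
  obtain ⟨U₂, g₂, hx₂, hg₂⟩ := isInvertible_iff.1 hM x
  let U := U₁ ⊓ U₂
  have hxU : x ∈ U := ⟨hx₁, hx₂⟩
  have he := he₁.res (inf_le_left : U ≤ U₁)
  have hg := hg₂.res (inf_le_right : U ≤ U₂)
  obtain ⟨a, ha⟩ := exists_coord hg (sv s U)
  have hG := isGen_tmul he hg
  let G : Γ(CohB1.tensorMod (tw B M j) M, U) :=
    SecTwist.tmul (tw B M j) M U (rs _ inf_le_left e₁) (rs _ inf_le_right g₂)
  have hφG : (φ j).app U (rs _ inf_le_left e₁) = a • G := by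
    rw [hφ j _ _ he, ha, ← pairM_id, pairM_smul_right]
    rfl
  haveI := (hT j).flasque hdim
  obtain ⟨q, hq⟩ := Groth.Agent.Lib.ZarCoh.Basic.flasque_surjective (Coh.toAb (cokernel (φ j)))
    (le_top : U ≤ ⊤) ((cokernel.π (φ j)).app U G)
  obtain ⟨z, hz⟩ := hH0 ((GlobalSections.h0Equiv (cokernel (φ j))).symm q)
  let σ : Γ(CohB1.tensorMod (tw B M j) M, ⊤) := GlobalSections.h0Equiv (CohB1.tensorMod (tw B M j) M) z
  have hσ : (cokernel.π (φ j)).app ⊤ σ = q := by
    have h1 := Sheaf.H.equiv₀_naturality (isTerminalTop (α := Opens X)) (LES.toAbMap (cokernel.π (φ j))) z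
    refine h1.trans ((congrArg (GlobalSections.h0Equiv (cokernel (φ j))) hz).trans ?_)
    exact AddEquiv.apply_symm_apply _ _
  have h0 : (cokernel.π (φ j)).app U (rs _ le_top σ - G) = 0 := by
    rw [map_sub, ← rs_app, hσ]
    exact sub_eq_zero.2 hq
  obtain ⟨w, hw⟩ := Groth.Agent.Lib.Cech.Sections.app_exact (LES.shortExact_abSES (hSES j)) U
    (rs _ le_top σ - G) h0
  obtain ⟨b, hb⟩ := exists_coord he (show Γ(tw B M j, U) from w)
  have hw' : rs _ le_top σ = (1 + b * a) • G := by
    have h2 : (φ j).app U w = rs _ le_top σ - G := hw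
    rw [hb, Scheme.Modules.Hom.app_smul, hφG, smul_smul] at h2
    rw [add_smul, one_smul, h2, add_sub_cancel]
  obtain ⟨τ, hτ⟩ := exists_hom_of_sec σ
  refine ⟨j + 1, Nat.succ_pos j, τ, ((genLocus_inf_eq hG τ (a := 1 + b * a) ?_).ge ?_).1⟩
  · rw [← rs_sv τ (le_top : U ≤ ⊤), hτ]; exact hw'
  rw [Scheme.mem_basicOpen _ _ _ hxU]
  have hmem : X.presheaf.germ U x hxU (b * a) ∈ IsLocalRing.maximalIdeal (X.presheaf.stalk x) := by
    rw [map_mul]
    refine Ideal.mul_mem_left _ _ fun hu => hx ((genLocus_inf_eq hg s ha).ge ?_).1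
    exact (Scheme.mem_basicOpen _ _ _ hxU).2 hu
  rw [map_add, map_one, ← sub_neg_eq_add]
  exact IsLocalRing.isUnit_one_sub_self_of_mem_nonunits _ (neg_mem hmem)

/-- Positive degree gives ampleness. -/
theorem isAmple_of_deg_pos (hdim : topologicalKrullDim X = 1) {L : X.Modules}
    (hL : PicF.IsInvertible L) (hdeg : 0 < Curv2.deg k X L 1) : CohB1.IsAmple L := by
  haveI := GlobalSections.isNoetherian_of_proper k X
  haveI : X.IsSeparated := ⟨by
    rw [← terminal.comp_from (X ↘ Spec (CommRingCat.of k))]; infer_instance⟩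
  obtain ⟨P, hP⟩ := Groth.Agent.S1551.result X hdim
  refine isAmple_iff.2 ⟨hL, inferInstance, fun z => ?_⟩
  obtain ⟨x, hxcl, hx⟩ := IsClosed.exists_closed_singleton (isClosed_closure (s := ({z} : Set X)))
    ⟨z, subset_closure rfl⟩
  suffices AffineAt L x by
    obtain ⟨n, hn, σ, hσ, h⟩ := this
    exact ⟨n, hn, σ, (specializes_iff_mem_closure.2 hxcl).mem_open (Opens.isOpen _) hσ, h⟩
  have hne : genericPoint X ≠ x := fun h => by
    have huniv : ({x} : Set X) = Set.univ := by
      rw [← hx.closure_eq, ← h]; exact genericPoint_spec X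
    haveI : Subsingleton X := ⟨fun p q => by
      rw [Set.mem_singleton_iff.1 (huniv.ge (Set.mem_univ p)),
        Set.mem_singleton_iff.1 (huniv.ge (Set.mem_univ q))]⟩
    have hz := topologicalKrullDim_zero_of_discreteTopology X
    rw [hdim] at hz
    exact not_le.2 zero_lt_one hz
  obtain ⟨hPi, -, hPx⟩ := isAmple_iff.1 hP
  obtain ⟨m, hm, σ₀, hxσ₀, hG₀⟩ := hPx x
  obtain ⟨f, hf, hηf⟩ := hG₀.exists_basicOpen_le
    (⟨genericPoint X, (fun h => hne (Set.mem_singleton_iff.1 h))⟩ :
      (⟨({x} : Set X)ᶜ, hx.isOpen_compl⟩ : X.Opens))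
    (((genericPoint_spec X).mem_open_set_iff (CohB1.genLocus _ σ₀).isOpen).2 ⟨x, trivial, hxσ₀⟩)
  have hPm := Invertible.isInvertible_tensorPow hPi m
  obtain ⟨m', -, t, ht⟩ := exists_sec_basicOpen hPm σ₀ f
  have hA := Invertible.isInvertible_tensorPow hPm m'
  have ht0 : t ≠ 0 := ne_zero_of_mem_genLocus hA (x := genericPoint X) (ht.ge hηf)
  obtain ⟨n, s, hn, hs0, hxs⟩ := exists_section_vanishing k hdim.le hL hA hdeg t ht0
    fun h => hf (ht.le h) rfl
  obtain ⟨B, hB, ⟨i⟩⟩ := Invertible.exists_inverse hPm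
  obtain ⟨j, hj, τ, hτ⟩ := exists_section_nonvanishing k hdim.le hB
    (Invertible.isInvertible_tensorPow hL n) hs0 hxs
  have hT := isInvertible_tw hB (Invertible.isInvertible_tensorPow hL n) j
  refine AffineAt.mk (Nat.mul_pos hn hj)
    (tensorIso (Iso.refl _) (twIso B _ j) ≪≫ cancelInv i _ ≪≫ powMul L n j)
    (SecTwist.tmulHom σ₀ τ) ?_ ?_ <;> rw [genLocus_tmulHom hPm hT]
  · exact ⟨hxσ₀, hτ⟩
  · rw [inf_comm]; exact isAffineOpen_genLocus_inf hT τ hG₀

/-- Ampleness gives positive degree. -/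
theorem deg_pos_of_isAmple (hdim : topologicalKrullDim X = 1) {L : X.Modules}
    (hA : CohB1.IsAmple L) : 0 < Curv2.deg k X L 1 := by
  haveI := GlobalSections.noetherianSpace_of_proper k X
  obtain ⟨hL, -, hx⟩ := isAmple_iff.1 hA
  obtain ⟨n, hn, s, hη, haff⟩ := hx (genericPoint X)
  have hLn := Invertible.isInvertible_tensorPow hL n
  have hs := ne_zero_of_mem_genLocus hLn hη
  have gO := Degree.isGood_structureModule (k := k) (X := X) hdim.le
  have gL := Degree.isGood (k := k) hdim.le hLn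
  have hO := PicLoc.isInvertible_structureModule X
  have hle := Positivity.deg_le_of_ne_zero hdim.le hO hLn gO gL hs
  rw [Degree.deg_structureModule, deg_tensorPow k hdim.le hL] at hle
  rcases eq_or_lt_of_le hle with h | h
  · exfalso
    haveI := Positivity.isIso_of_deg_eq hdim.le hO hLn gO gL hs
      (by rw [Degree.deg_structureModule, deg_tensorPow k hdim.le hL]; exact h)
    have htop : CohB1.genLocus _ s = ⊤ := by
      rw [← genLocus_id, ← genLocus_comp_iso (𝟙 (Coh.structureModule X)) (asIso s)]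
      simp
    rw [htop] at haff
    haveI : IsAffine X := by
      haveI : IsAffine ((⊤ : X.Opens) : Scheme.{u}) := haff
      exact IsAffine.of_isIso X.topIso.inv
    letI : Algebra k Γ(X, ⊤) := RingHom.toAlgebra (S := Γ(X, ⊤)) (Coh.toGlobal (X ↘ Spec (CommRingCat.of k)))
    haveI : Module.Finite k Γ(X, ⊤) := GlobalSections.finite_toGlobal k X
    have hF : IsField Γ(X, ⊤) := isField_of_isIntegral_of_isField' (Field.toIsField k)
    have h1 : topologicalKrullDim X = topologicalKrullDim (PrimeSpectrum Γ(X, ⊤)) :=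
      IsHomeomorph.topologicalKrullDim_eq _ X.isoSpec.hom.homeomorph.isHomeomorph
    rw [hdim, PrimeSpectrum.topologicalKrullDim_eq_ringKrullDim, ringKrullDim_eq_zero_of_isField hF] at h1
    exact one_ne_zero h1
  · exact pos_of_mul_pos_right h (Int.natCast_nonneg n)

end Curve

end Groth.Agent.H97.CurvePositivity
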