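import Groth.Agent.H97.AffineImages
import Mathlib.AlgebraicGeometry.Morphisms.QuasiCompact
import Mathlib.RingTheory.Ideal.MinimalPrime.Noetherian

/-! Neighbourhoods of an isolated point of the complement of an open at which the local ring has
dimension at most one. -/

set_option autoImplicit false
universe u
open CategoryTheory AlgebraicGeometry TopologicalSpace

namespace Groth.Agent.H97.PuncturedNbhd

open Groth.Agent.H97.AffineImages

variable {X : Scheme.{u}}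

/-- If every generisation of `x` in `D τ` lies in `O`, then so does `D τ` near `x`. -/
theorem exists_nbhd_avoid {V : X.Opens} (hV : IsAffineOpen V) {x : X} (hx : x ∈ V) (τ : Γ(X, V))
    (O : X.Opens) (h : ∀ y, y ⤳ x → y ∈ X.basicOpen τ → y ∈ O) :
    ∃ s : Γ(X, V), x ∈ X.basicOpen s ∧ X.basicOpen s ⊓ X.basicOpen τ ≤ O := by
  by_cases hex : ∃ s : Γ(X, V), s ∉ pt x hx ∧ ∃ k, s * τ ^ k ∈ vanishOff V O
  · obtain ⟨s, hs, k, hk⟩ := hex
    refine ⟨s, (mem_basicOpen_iff_notMem s x hx).2 hs, ?_⟩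
    rintro y ⟨hys, hyτ⟩
    have hy := X.basicOpen_le τ hyτ
    refine basicOpen_le_of_mem_vanishOff hk ((mem_basicOpen_iff_notMem _ y hy).2 fun hm => ?_)
    rcases (inferInstance : (pt y hy).IsPrime).mem_or_mem hm with h | h
    · exact (mem_basicOpen_iff_notMem s y hy).1 hys h
    · exact (mem_basicOpen_iff_notMem τ y hy).1 hyτ
        (Ideal.IsPrime.mem_of_pow_mem (inferInstance : (pt y hy).IsPrime) k h)
  · exfalso
    push Not at hex
    obtain ⟨q, hq, hIq, hdisj⟩ := Ideal.exists_le_prime_disjoint (vanishOff V O)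
      ((pt x hx).primeCompl ⊔ Submonoid.powers τ) (Set.disjoint_left.2 fun r hr hr' => by
        obtain ⟨s, hs, _, ⟨k, rfl⟩, rfl⟩ := Submonoid.mem_sup.1 hr'
        exact hex s hs k hr)
    let q' : PrimeSpectrum Γ(X, V) := ⟨q, hq⟩
    let y : X := hV.fromSpec q'
    have hyV : y ∈ V := by
      rw [← SetLike.mem_coe, ← hV.range_fromSpec]; exact ⟨q', rfl⟩
    have hmem : ∀ r : Γ(X, V), y ∈ X.basicOpen r ↔ r ∉ q := fun r => by
      show q' ∈ hV.fromSpec ⁻¹ᵁ X.basicOpen r ↔ _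
      rw [hV.fromSpec_preimage_basicOpen]
      rfl
    have hyτ : y ∈ X.basicOpen τ := (hmem τ).2 fun h =>
      Set.disjoint_left.1 hdisj h (Submonoid.mem_sup_right (Submonoid.mem_powers τ))
    have hyx : y ⤳ x := by
      suffices h2 : q' ⤳ hV.primeIdealOf ⟨x, hx⟩ by
        have h3 := h2.map hV.fromSpec.continuous
        rwa [hV.fromSpec_primeIdealOf] at h3
      refine (PrimeSpectrum.le_iff_specializes q' _).1 ?_
      intro r hr
      by_contra hr'
      refine Set.disjoint_left.1 hdisj hr (Submonoid.mem_sup_left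
        ((mem_basicOpen_iff_notMem r x hx).1 ?_))
      have h4 : hV.primeIdealOf ⟨x, hx⟩ ∈ hV.fromSpec ⁻¹ᵁ X.basicOpen r := by
        rw [hV.fromSpec_preimage_basicOpen]
        exact hr'
      have h5 : hV.fromSpec (hV.primeIdealOf ⟨x, hx⟩) ∈ X.basicOpen r := h4
      rwa [hV.fromSpec_primeIdealOf] at h5
    obtain ⟨r, hr, hyr⟩ := hV.exists_basicOpen_le (⟨y, h y hyx hyτ⟩ : O) hyV
    exact (hmem r).1 hyr (hIq (mem_vanishOff hr))

/-- If every generisation of `x` in a compact open lies in `O`, then so does the open near `x`. -/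
theorem exists_nbhd_inf_le {V : X.Opens} (hV : IsAffineOpen V) {x : X} (hx : x ∈ V) (U O : X.Opens)
    (hUV : IsCompact ((V ⊓ U : X.Opens) : Set X)) (h : ∀ y, y ⤳ x → y ∈ U → y ∈ O) :
    ∃ s : Γ(X, V), x ∈ X.basicOpen s ∧ X.basicOpen s ⊓ U ≤ O := by
  classical
  have hb : ∀ y : X, y ∈ V ⊓ U → ∃ τ : Γ(X, V), X.basicOpen τ ≤ U ∧ y ∈ X.basicOpen τ :=
    fun y hy => hV.exists_basicOpen_le (⟨y, hy.2⟩ : U) hy.1
  choose τ hτU hyτ using hb
  obtain ⟨t, ht⟩ := hUV.elim_finite_subcover (fun y : {y // y ∈ V ⊓ U} => (X.basicOpen (τ y y.2) : Set X))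
    (fun y => (X.basicOpen _).2) fun y hy => Set.mem_iUnion.2 ⟨⟨y, hy⟩, hyτ y hy⟩
  have hs : ∀ y : {y // y ∈ V ⊓ U}, ∃ s : Γ(X, V),
      x ∈ X.basicOpen s ∧ X.basicOpen s ⊓ X.basicOpen (τ y y.2) ≤ O := fun y =>
    exists_nbhd_avoid hV hx _ O fun z hz hzτ => h z hz (hτU _ _ hzτ)
  choose s hxs hsO using hs
  refine ⟨∏ y ∈ t, s y, ?_, fun z hz => ?_⟩
  · rw [mem_basicOpen_iff_notMem _ x hx]
    intro hm
    obtain ⟨y, -, hy⟩ := Ideal.IsPrime.prod_mem_iff.1 hm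
    exact (mem_basicOpen_iff_notMem _ x hx).1 (hxs y) hy
  · have hzV : z ∈ V := X.basicOpen_le _ hz.1
    obtain ⟨y, hy, hzy⟩ := Set.mem_iUnion₂.1 (ht (show z ∈ ((V ⊓ U : X.Opens) : Set X) from ⟨hzV, hz.2⟩))
    refine hsO y ⟨(mem_basicOpen_iff_notMem _ z hzV).2 fun hm => ?_, hzy⟩
    exact (mem_basicOpen_iff_notMem _ z hzV).1 hz.1 (Ideal.mem_of_dvd _ (Finset.dvd_prod_of_mem _ hy) hm)

theorem finite_generisations (x : X) (hN : IsNoetherianRing (X.presheaf.stalk x))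
    (hd : ringKrullDim (X.presheaf.stalk x) ≤ 1) : {y : X | y ⤳ x ∧ y ≠ x}.Finite := by
  have : Ring.KrullDimLE 1 (X.presheaf.stalk x) := Ring.krullDimLE_iff.2 (by exact_mod_cast hd)
  have hfin : {p : Spec (X.presheaf.stalk x) | p ≠ IsLocalRing.closedPoint _}.Finite := by
    refine ((minimalPrimes.finite_of_isNoetherianRing (X.presheaf.stalk x)).preimage
      (fun a _ b _ h => PrimeSpectrum.ext h : Set.InjOn PrimeSpectrum.asIdeal _)).subset fun p hp => ?_
    show p.asIdeal ∈ minimalPrimes _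
    by_contra hn
    have : p.asIdeal.IsMaximal :=
      (Ring.krullDimLE_one_iff.1 inferInstance _ p.isPrime).resolve_left hn
    exact hp (PrimeSpectrum.ext (IsLocalRing.eq_maximalIdeal this))
  refine (hfin.image (X.fromSpecStalk x)).subset fun y hy => ?_
  obtain ⟨p, rfl⟩ : y ∈ Set.range (X.fromSpecStalk x) := by
    rw [Scheme.range_fromSpecStalk]; exact hy.1
  exact ⟨p, fun hp => hy.2 (by rw [hp, Scheme.fromSpecStalk_closedPoint]), rfl⟩

/-- An affine neighbourhood of an isolated point of the complement of `U`, with an equation. -/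
theorem exists_chart' (U : X.Opens) [QuasiCompact U.ι] (hdisc : DiscreteTopology ↥((U : Set X)ᶜ))
    (x : X) (hx : x ∉ U) (hT : {y : X | y ⤳ x ∧ y ≠ x}.Finite) :
    ∃ (W : X.Opens) (f : Γ(X, W)), IsAffineOpen W ∧ x ∈ W ∧ x ∉ X.basicOpen f ∧
      X.basicOpen f = W ⊓ U ∧ (∀ y ∈ W, y ∉ U → y = x) ∧ {y : X | y ⤳ x ∧ y ≠ x}.Finite ∧
      ∀ y, y ⤳ x → y ≠ x → y ∈ X.basicOpen f := by
  obtain ⟨S, hS, hSx⟩ := isOpen_induced_iff.1
    ((isOpen_discrete ({⟨x, hx⟩} : Set ↥((U : Set X)ᶜ))))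
  have hxS : x ∈ (⟨S, hS⟩ : X.Opens) := by
    have : (⟨x, hx⟩ : ↥((U : Set X)ᶜ)) ∈ Subtype.val ⁻¹' S := by rw [hSx]; rfl
    exact this
  obtain ⟨V, hV, hxV, hVS⟩ := exists_isAffineOpen_mem_and_subset hxS
  have honly : ∀ y ∈ V, y ∉ U → y = x := fun y hy hyU => by
    have : (⟨y, hyU⟩ : ↥((U : Set X)ᶜ)) ∈ ({⟨x, hx⟩} : Set _) := by rw [← hSx]; exact hVS hy
    exact congrArg Subtype.val this
  have hTV : ∀ y, y ⤳ x → y ∈ V := fun y hy => hy.mem_open V.2 hxV
  obtain ⟨f, hfx, hfT⟩ := exists_mem_forall_basicOpen (pt x hxV) hT.toFinset fun y hy => by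
    obtain ⟨hyx, hne⟩ := hT.mem_toFinset.1 hy
    have hns : ¬ x ⤳ y := fun h => hne (hyx.antisymm h).eq
    obtain ⟨O, hO, hyO, hxO⟩ := not_specializes_iff_exists_open.1 hns
    obtain ⟨g, hg, hyg⟩ := hV.exists_basicOpen_le (⟨y, hyO⟩ : (⟨O, hO⟩ : X.Opens)) (hTV y hyx)
    exact ⟨g, by_contra fun h => hxO (hg ((mem_basicOpen_iff_notMem g x hxV).2 h)), hyg⟩
  have hfU : X.basicOpen f ≤ U := fun y hy => by
    by_contra hn
    have := honly y (X.basicOpen_le f hy) hn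
    subst this
    exact (mem_basicOpen_iff_notMem f y hxV).1 hy hfx
  have hc : IsCompact ((V ⊓ U : X.Opens) : Set X) := by
    have h1 := (U.ι.isCompact_preimage hV.isCompact).image U.ι.continuous
    have e : U.ι '' (U.ι ⁻¹' (V : Set X)) = ((V ⊓ U : X.Opens) : Set X) := by
      rw [Set.image_preimage_eq_inter_range, Scheme.Opens.range_ι]; rfl
    rw [← e]
    exact h1
  obtain ⟨s, hxs, hsO⟩ := exists_nbhd_inf_le hV hxV U (X.basicOpen f) hc fun y hy hyU =>
    hfT y (hT.mem_toFinset.2 ⟨hy, fun h => hx (h ▸ hyU)⟩)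
  refine ⟨X.basicOpen s, X.presheaf.map (homOfLE (X.basicOpen_le s)).op f, hV.basicOpen s, hxs,
    fun h => ?_, ?_, fun y hy => honly y (X.basicOpen_le s hy), hT, fun y hy hne => ?_⟩
  · rw [Scheme.basicOpen_res] at h
    exact (mem_basicOpen_iff_notMem f x hxV).1 h.2 hfx
  · rw [Scheme.basicOpen_res]
    exact le_antisymm (inf_le_inf_left _ hfU) (le_inf inf_le_left hsO)
  · rw [Scheme.basicOpen_res]
    exact ⟨hy.mem_open (X.basicOpen s).2 hxs, hfT y (hT.mem_toFinset.2 ⟨hy, hne⟩)⟩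

/-- The same chart when the local ring is Noetherian of dimension at most one. -/
theorem exists_chart (U : X.Opens) [QuasiCompact U.ι] (hdisc : DiscreteTopology ↥((U : Set X)ᶜ))
    (x : X) (hx : x ∉ U) (hN : IsNoetherianRing (X.presheaf.stalk x))
    (hd : ringKrullDim (X.presheaf.stalk x) ≤ 1) :
    ∃ (W : X.Opens) (f : Γ(X, W)), IsAffineOpen W ∧ x ∈ W ∧ x ∉ X.basicOpen f ∧
      X.basicOpen f = W ⊓ U ∧ (∀ y ∈ W, y ∉ U → y = x) ∧ {y : X | y ⤳ x ∧ y ≠ x}.Finite ∧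
      ∀ y, y ⤳ x → y ≠ x → y ∈ X.basicOpen f :=
  exists_chart' U hdisc x hx (finite_generisations x hN hd)

end Groth.Agent.H97.PuncturedNbhd
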