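import Groth.Agent.H97.CurveVanishing
import Groth.Agent.H97.CurvePositivity
import Groth.Agent.S7669
import Groth.Agent.H34.DefAmple
import Groth.Agent.Lib.ProperFin.Devissage
import Groth.Agent.Lib.Devissage.Closure
import Groth.Agent.Lib.PushClosed.Unit
import Groth.Agent.Lib.Modules.ProjFormula
import Groth.Agent.Lib.Modules.SupportOps
import Groth.Agent.Lib.Modules.DualBasis
import Groth.Agent.Lib.QCoh.Pullback
import Groth.Agent.Lib.ZarCoh.PushH
import Groth.Agent.Lib.GrothVan.Main

/-! Serre vanishing and ampleness on proper schemes of dimension at most one. -/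

set_option autoImplicit false
universe u

open CategoryTheory CategoryTheory.Limits AlgebraicGeometry Opposite TopologicalSpace

noncomputable section

namespace Groth.Agent.H97.CurveAmple

open Groth.Agent.Lib.TensorMod Groth.Agent.Lib.TensorMod.Dual Groth.Agent.Lib.TensorMod.Gen
open Groth.Agent.Lib.TensorMod.Basic Groth.Agent.Lib.TensorMod.Pullback
open Groth.Agent.Lib.Ample.GenLocus Groth.Agent.Lib.Ample.Pow Groth.Agent.Lib.Ample.Basis
open Groth.Agent.Lib Groth.Agent.H97.CurvePositivity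

/-- High twists by `L` kill `H¹` of `F`. -/
def Van {X : Scheme.{u}} (L F : X.Modules) : Prop :=
  ∀ᶠ n in Filter.atTop, Subsingleton (Coh.HH X (CohB1.tensorMod F (CohB1.tensorPow L n)) 1)

/-- A sheaf `Van` for all coherent submodules. -/
def SubVan {X : Scheme.{u}} (L F : X.Modules) : Prop :=
  ∀ (G : X.Modules) (i : G ⟶ F), Mono i → Coh.IsCoh G → Van L G

theorem Van.of_iso {X : Scheme.{u}} {L F G : X.Modules} (e : F ≅ G) (h : Van L F) : Van L G :=
  h.mono fun _ hn => H34.HOne.h1_of_iso (tensorIso e (Iso.refl _)) hn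

theorem epi_tmap {X : Scheme.{u}} {L F G : X.Modules} (hL : PicF.IsInvertible L) (p : F ⟶ G) [Epi p] :
    Epi (tmap p (𝟙 L)) :=
  haveI := CurveBundle.Twist.isEquivalence hL
  (inferInstance : Epi ((tensorBy L).map p))

theorem Van.of_epi {X : Scheme.{u}} [IsNoetherian X] (hdim : topologicalKrullDim X ≤ 1)
    {L F G : X.Modules} (hL : PicF.IsInvertible L) (p : F ⟶ G) [Epi p] (h : Van L F) : Van L G :=
  h.mono fun n hn =>
    haveI := epi_tmap (Invertible.isInvertible_tensorPow hL n) p
    H34.HOne.h1_of_epi hdim (tmap p (𝟙 (CohB1.tensorPow L n))) hn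

theorem Van.middle {X : Scheme.{u}} {L : X.Modules} (hL : PicF.IsInvertible L)
    {S : ShortComplex X.Modules} (hS : S.ShortExact) (h₁ : Van L S.X₁) (h₃ : Van L S.X₃) :
    Van L S.X₂ :=
  (h₁.and h₃).mono fun n hn =>
    H34.HOne.h1_of_shortExact (CurveBundle.Twist.shortExact (Invertible.isInvertible_tensorPow hL n) hS) hn.1 hn.2

theorem thick_subVan {X : Scheme.{u}} [IsNoetherian X] (hdim : topologicalKrullDim X ≤ 1) {L : X.Modules}
    (hL : PicF.IsInvertible L) (T : Set X) : ProperFin.Devissage.Thick T (SubVan L) where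
  of_isZero M hM := fun G i _ _ => by
    refine Filter.Eventually.of_forall fun n => ?_
    have hG : IsZero G := IsZero.of_mono i hM
    haveI := CurveBundle.Twist.isEquivalence (Invertible.isInvertible_tensorPow hL n)
    have hz : IsZero (CohB1.tensorMod G (CohB1.tensorPow L n)) :=
      Functor.map_isZero (tensorBy (CohB1.tensorPow L n)) hG
    refine subsingleton_of_forall_eq 0 fun x => ?_
    have h1 : (Curves.LES.F X).map (𝟙 (CohB1.tensorMod G (CohB1.tensorPow L n))) = 0 := by
      rw [hz.eq_of_src (𝟙 _) 0, Functor.map_zero]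
    rw [CategoryTheory.Functor.map_id] at h1
    have := congrArg (fun g => Sheaf.H.map g 1 x) h1
    simp only [Sheaf.H.map_id_apply, Sheaf.H.map_apply, Abelian.Ext.mk₀_zero, Abelian.Ext.comp_zero, Abelian.Ext.comp_mk₀_id] at this
    exact this
  two S hS h₁ h₂ h₃ := by
    haveI := hS.mono_f
    haveI := hS.epi_g
    refine ⟨fun q₁ q₃ G i _ hG => ?_, fun q₂ _ G i _ hG => q₂ G (i ≫ S.f) (mono_comp _ _) hG,
      fun _ q₂ G i _ hG => ?_⟩
    · let ψ : G ⟶ S.X₃ := i ≫ S.g
      have hK : Coh.IsCoh (kernel ψ) := CohBasics.Closure.isCoh_kernel ψ hG h₃.1.1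
      have hI : Coh.IsCoh (Abelian.coimage ψ) :=
        CohBasics.Closure.isCoh_cokernel (kernel.ι ψ) hK.1 hG
      haveI := hS.exact.mono_g
      let lK : kernel ψ ⟶ S.X₁ :=
        hS.fIsKernel.lift (KernelFork.ofι (kernel.ι ψ ≫ i) (by rw [Category.assoc]; exact kernel.condition ψ))
      have hlK : lK ≫ S.f = kernel.ι ψ ≫ i := Fork.IsLimit.lift_ι hS.fIsKernel
      haveI : Mono lK := mono_of_mono_fac hlK
      have hses : (ShortComplex.mk (kernel.ι ψ) (cokernel.π (kernel.ι ψ)) (cokernel.condition _)).ShortExact :=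
        { exact := ShortComplex.exact_cokernel (kernel.ι ψ)
          mono_f := inferInstanceAs (Mono (kernel.ι ψ))
          epi_g := inferInstanceAs (Epi (cokernel.π (kernel.ι ψ))) }
      have v₁ : Van L (kernel ψ) := q₁ (kernel ψ) lK inferInstance hK
      have v₃ : Van L (cokernel (kernel.ι ψ)) :=
        q₃ (Abelian.coimage ψ) (Abelian.factorThruCoimage ψ) inferInstance hI
      exact Van.middle (S := ShortComplex.mk (kernel.ι ψ) (cokernel.π (kernel.ι ψ)) (cokernel.condition _))
        hL hses v₁ v₃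
    · have hP : Coh.IsCoh (pullback i S.g) := CohBasics.Closure.isCoh_pullback i S.g hG h₂.1 h₃.1.1
      exact Van.of_epi hdim hL (pullback.fst i S.g) (q₂ _ (pullback.snd i S.g) inferInstance hP)

variable {Z X : Scheme.{u}}

theorem van_push (i : Z ⟶ X) [IsClosedImmersion i] {L : X.Modules} (hL : PicF.IsInvertible L)
    {N : Z.Modules} [N.IsQuasicoherent] (h : Van ((pb i).obj L) N) :
    Van L ((Scheme.Modules.pushforward i).obj N) := by
  refine h.mono fun n hn => ?_
  have hLn := Invertible.isInvertible_tensorPow hL n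
  let e : CohB1.tensorMod ((Scheme.Modules.pushforward i).obj N) (CohB1.tensorPow L n) ≅
      (Scheme.Modules.pushforward i).obj (CohB1.tensorMod N (CohB1.tensorPow ((pb i).obj L) n)) :=
    comm _ _ ≪≫ (Modules.ProjFormula.projIso i (E := CohB1.tensorPow L n)
      (Modules.DualBasis.hasDBases_of_isFinLocFree (LocFree.of_rank (LocFree.of_isInvertible hLn)))).app N ≪≫
    (Scheme.Modules.pushforward i).mapIso (comm _ _ ≪≫ tensorIso (Iso.refl N) (pullbackPow i L n))
  refine H34.HOne.h1_of_iso e.symm ?_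
  let N' := CohB1.tensorMod N (CohB1.tensorPow ((pb i).obj L) n)
  haveI := QCohInv.isQCoh_of_isInvertible (Invertible.isInvertible_tensorPow (PicLoc.isInvertible_pullback i hL) n)
  haveI : N'.IsQuasicoherent := TensorQCoh.isQCoh_tensorMod _ _
  exact (ZarCoh.PushH.pushEquiv i.base X.isBasis_affineOpens (Coh.toAb N')
    (fun W hW q => ZarCoh.Affine.HU_subsingleton N' (IsAffineOpen.preimage hW i) q) 1).toEquiv.subsingleton

/-- Submodules of `i_* O` come from the closed subscheme. -/
theorem subVan_push (i : Z ⟶ X) [IsClosedImmersion i] {L : X.Modules} (hL : PicF.IsInvertible L)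
    (h : ∀ N : Z.Modules, Coh.IsCoh N → Van ((pb i).obj L) N) :
    SubVan L ((Coh.push i).obj (Coh.structureModule Z)) := by
  intro G m _ hG
  let A := Scheme.Modules.pullbackPushforwardAdjunction i
  haveI : Mono m := ‹_›
  haveI : Mono (A.unit.app G) := by
    have e : A.unit.app G ≫ (Scheme.Modules.pushforward i).map
        ((Scheme.Modules.pullback i).map m ≫ A.counit.app (Coh.structureModule Z)) = m := by
      rw [Functor.map_comp, ← Category.assoc]
      erw [← A.unit.naturality m]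
      rw [Category.assoc]
      erw [A.right_triangle_components]
      exact Category.comp_id m
    exact mono_of_mono_fac e
  haveI := PushClosed.Unit.epi_unit i G
  haveI : IsIso (A.unit.app G) := isIso_of_mono_of_epi _
  haveI := hG.1
  haveI := hG.2
  haveI := QCoh.Pullback.isQCoh_pullback i G
  exact (van_push i hL (h _ ⟨QCoh.Pullback.isQCoh_pullback i G, Modules.SupportOps.isFT_pullback i G⟩)).of_iso
    (asIso (A.unit.app G)).symm

section Field

variable (k : Type u) [Field k] {X : Scheme.{u}} [X.Over (Spec (CommRingCat.of k))]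
  [IsProper (X ↘ Spec (CommRingCat.of k))]

include k in
/-- Serre vanishing for an ample module on an integral proper curve. -/
theorem van_of_isAmple [IsIntegral X] (hdim : topologicalKrullDim X ≤ 1) {L : X.Modules}
    (hA : CohB1.IsAmple L) {F : X.Modules} (hF : Coh.IsCoh F) : Van L F := by
  haveI := Curves.GlobalSections.isNoetherian_of_proper k X
  haveI : X.IsSeparated := ⟨by
    rw [← terminal.comp_from (X ↘ Spec (CommRingCat.of k))]; infer_instance⟩
  obtain ⟨hL, -, hx⟩ := isAmple_iff.1 hA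
  obtain ⟨N, hN, s, hη, hU⟩ := hx (genericPoint X)
  have hM := Invertible.isInvertible_tensorPow hL N
  let U := CohB1.genLocus _ s
  have hSfin : {z : X | z ∉ U}.Finite :=
    DimOneSetup.finite_of_no_gen hdim U.2.isClosed_compl fun z hz hgz =>
      hz (hgz.eq_of_specializes (genericPoint_specializes z) ▸ hη)
  obtain ⟨V₀, hV₀, hSV⟩ := FiniteAffine.exists_affineOpen (NoetherianSpace.finite_irreducibleComponents (α := X))
    hSfin.toFinset fun x _ => DimOneSetup.ringKrullDim_stalk_le_one hdim x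
  obtain ⟨g, e, hgS, -, he⟩ := FinsetTriv.exists_basis_basicOpen hV₀ (LocFree.of_isInvertible hM)
    hSfin (fun z hz => hSV z (hSfin.mem_toFinset.2 hz)) (O := ⊤) fun _ _ => trivial
  have hcov : U ⊔ X.basicOpen g = ⊤ := top_unique fun z _ => by
    by_cases hz : z ∈ U
    exacts [Opens.mem_sup.2 (.inl hz), Opens.mem_sup.2 (.inr (hgS hz))]
  have hr : ∀ r, ∀ᶠ q in Filter.atTop, Subsingleton (Coh.HH X (CohB1.tensorMod
      (CohB1.tensorMod F (CohB1.tensorPow L r)) (CohB1.tensorPow (CohB1.tensorPow L N) q)) 1) := fun r => by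
    have hFr := CurveBundle.Twist.isCoh (Invertible.isInvertible_tensorPow hL r) hF
    haveI := (Curves.Finiteness.isGood_of_isCoh (k := k) hdim hFr).fin₁
    exact CurveVanishing.eventually_subsingleton_H1 s k hM hFr hU (hV₀.basicOpen g)
      (Groth.Agent.S7669.isGen_of_isBasis he) hcov
  choose q₀ hq₀ using fun r => Filter.eventually_atTop.1 (hr r)
  let Q := (Finset.range N).sup q₀
  refine Filter.eventually_atTop.2 ⟨N * Q, fun n hn => ?_⟩
  have hq : q₀ (n % N) ≤ n / N :=
    (Finset.le_sup (f := q₀) (Finset.mem_range.2 (Nat.mod_lt n hN))).trans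
      ((Nat.le_div_iff_mul_le hN).2 (by rwa [mul_comm]))
  exact H34.HOne.h1_of_iso (Basic.assoc _ _ _ ≪≫ tensorIso (Iso.refl F)
    (tensorIso (Iso.refl _) (powMul L N (n / N)) ≪≫ (powAdd L _ _).symm ≪≫
      powCongr L (Nat.mod_add_div n N))) (hq₀ _ _ hq)

theorem van_of_dim_le_zero {X : Scheme.{u}} [NoetherianSpace X] (hdim : topologicalKrullDim X ≤ 0)
    (L F : X.Modules) : Van L F :=
  Filter.Eventually.of_forall fun _ =>
    haveI : NoetherianSpace (X.toTopCat : Type u) := inferInstanceAs (NoetherianSpace X)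
    Groth.Agent.Lib.GrothVan.H_subsingleton (X := X.toTopCat) 0 hdim _ 1 one_pos

include k in
/-- Serre vanishing implies ampleness in dimension at most one. -/
theorem isAmple_of_van (hdim : topologicalKrullDim X ≤ 1) {L : X.Modules} (hL : PicF.IsInvertible L)
    {P : X.Modules} (hP : CohB1.IsAmple P) (hvan : ∀ F : X.Modules, Coh.IsCoh F → Van L F) :
    CohB1.IsAmple L := by
  haveI := Curves.GlobalSections.isNoetherian_of_proper k X
  refine isAmple_iff.2 ⟨hL, inferInstance, fun z => ?_⟩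
  obtain ⟨x, hxcl, hx⟩ := IsClosed.exists_closed_singleton (isClosed_closure (s := ({z} : Set X)))
    ⟨z, subset_closure rfl⟩
  suffices AffineAt L x by
    obtain ⟨n, hn, σ, hσ, h⟩ := this
    exact ⟨n, hn, σ, (specializes_iff_mem_closure.2 hxcl).mem_open (Opens.isOpen _) hσ, h⟩
  obtain ⟨hPi, -, hPx⟩ := isAmple_iff.1 hP
  obtain ⟨m, hm, σ₀, hxσ₀, hG₀⟩ := hPx x
  have hPm := Invertible.isInvertible_tensorPow hPi m
  obtain ⟨B, hB, ⟨i⟩⟩ := Invertible.exists_inverse hPm
  -- an invertible module with a section vanishing exactly at `x`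
  let U : X.Opens := ⟨({x} : Set X)ᶜ, hx.isOpen_compl⟩
  have hdisc : DiscreteTopology ↥((U : Set X)ᶜ) := by
    rw [show ((U : Set X)ᶜ) = {x} from compl_compl _]; infer_instance
  obtain ⟨⟨A, t, hA, ht⟩, -⟩ := Groth.Agent.S7669.result X U hdisc fun y _ =>
    ⟨inferInstance, DimOneSetup.ringKrullDim_stalk_le_one hdim y⟩
  obtain ⟨A', hA', ⟨j⟩⟩ := Invertible.exists_inverse hA
  have hvanF := hvan _ (CurveBundle.Twist.isCoh hA' (Curves.Degree.isCoh_of_isInvertible hB))
  obtain ⟨n, hH1, hn⟩ := (hvanF.and (Filter.eventually_ge_atTop 1)).exists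
  have hLn := Invertible.isInvertible_tensorPow hL n
  let F := CohB1.tensorMod (CohB1.tensorMod B A') (CohB1.tensorPow L n)
  have hF : PicF.IsInvertible F :=
    Invertible.isInvertible_tensorMod (Invertible.isInvertible_tensorMod hB hA') hLn
  have hFA := Invertible.isInvertible_tensorMod hF hA
  obtain ⟨φ, hφ⟩ := exists_mulSec hF t
  -- the cokernel lives at `x`
  have hlocal : ∀ y : X, ∃ (W : X.Opens) (e : Γ(F, W)) (g : Γ(A, W)) (a : Γ(X, W)),
      y ∈ W ∧ IsGen F W e ∧ IsGen A W g ∧ CohB1.genLocus A t ⊓ W = X.basicOpen a ∧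
      φ.app W e = a • (SecTwist.tmul F A W e g : Γ(CohB1.tensorMod F A, W)) := by
    intro y
    obtain ⟨U₁, e₁, hy₁, he₁⟩ := isInvertible_iff.1 hF y
    obtain ⟨U₂, g₂, hy₂, hg₂⟩ := isInvertible_iff.1 hA y
    have he := he₁.res (inf_le_left : U₁ ⊓ U₂ ≤ U₁)
    have hg := hg₂.res (inf_le_right : U₁ ⊓ U₂ ≤ U₂)
    obtain ⟨a, ha⟩ := exists_coord hg (sv t (U₁ ⊓ U₂))
    refine ⟨U₁ ⊓ U₂, _, _, a, ⟨hy₁, hy₂⟩, he, hg, genLocus_inf_eq hg t ha, ?_⟩
    rw [hφ _ _ he, ha, ← pairM_id, pairM_smul_right]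
    rfl
  have hC : ∀ y : X, y ≠ x → Subsingleton ((cokernel φ).presheaf.stalk y) := by
    intro y hy
    obtain ⟨W, e, g, a, hyW, he, hg, hloc, hφe⟩ := hlocal y
    have hsurj : Function.Surjective (Modules.StalkModule.stalkMapₗ φ y) := by
      intro z
      obtain ⟨V, hyV, c, rfl⟩ := TopCat.Presheaf.germ_exist (F := (CohB1.tensorMod F A).presheaf) z
      have hu : IsUnit (X.presheaf.germ W y hyW a) := by
        rw [← Scheme.mem_basicOpen, ← hloc]
        exact ⟨ht.ge hy, hyW⟩
      obtain ⟨b, hb⟩ := hu.exists_left_inv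
      have hyVW : y ∈ V ⊓ W := ⟨hyV, hyW⟩
      obtain ⟨r, hr⟩ := exists_coord ((isGen_tmul he hg).res (inf_le_right : V ⊓ W ≤ W))
        (rs _ (inf_le_left : V ⊓ W ≤ V) c)
      refine ⟨(X.presheaf.germ (V ⊓ W) y hyVW r * b) • F.presheaf.germ W y hyW e, ?_⟩
      rw [map_smul, Modules.StalkModule.stalkMapₗ_germ, hφe]
      erw [Modules.StalkModule.germ_smul]
      rw [smul_smul,
        mul_assoc, hb, mul_one, ← TopCat.Presheaf.germ_res_apply (CohB1.tensorMod F A).presheaf
          (homOfLE (inf_le_right : V ⊓ W ≤ W)) y hyVW,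
        ← Modules.StalkModule.germ_smul]
      refine Eq.trans ?_ (TopCat.Presheaf.germ_res_apply (CohB1.tensorMod F A).presheaf
        (homOfLE (inf_le_left : V ⊓ W ≤ V)) y hyVW c)
      exact congrArg _ hr.symm
    refine subsingleton_of_forall_eq 0 fun v => ?_
    obtain ⟨v', rfl⟩ := (Modules.Stalk.epi_iff_stalk_surjective (cokernel.π φ)).1 inferInstance y v
    obtain ⟨v'', rfl⟩ := hsurj v'
    change Modules.StalkModule.stalkMapₗ (cokernel.π φ) y (Modules.StalkModule.stalkMapₗ φ y v'') = 0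
    rw [← LinearMap.comp_apply, ← Modules.StalkModule.stalkMapₗ_comp, cokernel.condition]
    exact (congrArg (fun ψ => (ConcreteCategory.hom ψ) v'') ((Modules.Stalk.stalkFunctor X y).map_zero F (cokernel φ))).trans rfl
  haveI := H34.DefAmple.isFlasque_toAb (C := cokernel φ) fun y hy => hC y fun h => hy (h ▸ hx)
  let S : ShortComplex X.Modules :=
    ShortComplex.mk (kernel.ι (cokernel.π φ)) (cokernel.π φ) (kernel.condition _)
  have hS : S.ShortExact :=
    { exact := ShortComplex.exact_kernel _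
      mono_f := inferInstance
      epi_g := inferInstanceAs (Epi (cokernel.π φ)) }
  have hS1 : Subsingleton (Coh.HH X S.X₁ 1) :=
    H34.HOne.h1_of_epi hdim (Abelian.factorThruImage φ) hH1
  -- lift the generator at `x`
  obtain ⟨W, e, g, a, hxW, he, hg, hloc, hφe⟩ := hlocal x
  let G : Γ(CohB1.tensorMod F A, W) := SecTwist.tmul F A W e g
  have hG : IsGen (CohB1.tensorMod F A) W G := isGen_tmul he hg
  obtain ⟨q, hq⟩ := ZarCoh.Basic.flasque_surjective (Coh.toAb (cokernel φ))
    (le_top : W ≤ ⊤) ((cokernel.π φ).app W G)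
  obtain ⟨σ, hσ⟩ := H34.HOne.app_top_surjective hS hS1 q
  have h0 : (cokernel.π φ).app W (rs _ le_top σ - G) = 0 := by
    rw [map_sub, ← HomGlue.rs_app, show (cokernel.π φ).app ⊤ σ = q from hσ]
    exact sub_eq_zero.2 hq
  obtain ⟨w, hw⟩ := Cech.Sections.app_exact (Curves.LES.shortExact_abSES hS) W (rs _ le_top σ - G) h0
  obtain ⟨v, hv⟩ := (Modules.Stalk.epi_iff_stalk_surjective (Abelian.factorThruImage φ)).1 inferInstance x
    ((Abelian.image φ).presheaf.germ W x hxW w)
  obtain ⟨V, hxV, c, rfl⟩ := TopCat.Presheaf.germ_exist (F := F.presheaf) v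
  rw [Modules.Stalk.stalkFunctor_map_germ] at hv
  obtain ⟨W', hxW', i₁, i₂, heq⟩ := TopCat.Presheaf.germ_eq (Abelian.image φ).presheaf x hxV hxW _ _ hv
  obtain ⟨b, hb⟩ := exists_coord (he.res i₂.le) (rs F i₁.le c)
  have hw' : rs _ (le_top : W' ≤ ⊤) σ = (1 + b * rf i₂.le a) • rs _ i₂.le G := by
    have h2 : rs (Abelian.image φ) i₁.le ((Abelian.factorThruImage φ).app V c) =
        rs (Abelian.image φ) i₂.le w := heq
    rw [HomGlue.rs_app, hb] at h2
    have h3 := congrArg (fun z => (Abelian.image.ι φ).app W' z) h2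
    simp only at h3
    rw [Scheme.Modules.Hom.app_smul, ← HomGlue.rs_app (Abelian.image.ι φ) i₂.le w] at h3
    have h4 : (Abelian.image.ι φ).app W w = rs _ le_top σ - G := hw
    rw [h4, Scheme.Modules.Hom.app_smul] at h3
    have h5 : (Abelian.image.ι φ).app W' ((Abelian.factorThruImage φ).app W' (rs F i₂.le e)) =
        rf i₂.le a • rs _ i₂.le G := by
      have := congrArg (fun ψ => ψ.app W' (rs F i₂.le e)) (Abelian.image.fac φ)
      simp only at this
      refine this.trans ?_
      rw [← HomGlue.rs_app, hφe]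
      exact rs_smul _ _ _ _
    have h6 : ∀ p p' : Γ(CohB1.tensorMod F A, W), rs _ i₂.le (p - p') = rs _ i₂.le p - rs _ i₂.le p' :=
      fun p p' => map_sub ((CohB1.tensorMod F A).presheaf.map (homOfLE i₂.le).op).hom p p'
    rw [h5, smul_smul] at h3
    replace h3 := h3.trans (h6 _ _)
    rw [add_smul, one_smul, h3, ← rs_rs _ (le_top : W ≤ ⊤) i₂.le σ]
    exact (add_sub_cancel _ _).symm
  obtain ⟨τ, hτ⟩ := exists_hom_of_sec σ
  have hxτ : x ∈ CohB1.genLocus _ τ := by
    refine ((genLocus_inf_eq (hG.res i₂.le) τ (a := 1 + b * rf i₂.le a) ?_).ge ?_).1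
    · rw [← rs_sv τ (le_top : W' ≤ ⊤), hτ]; exact hw'
    rw [Scheme.mem_basicOpen _ _ _ hxW']
    have hmem : X.presheaf.germ W' x hxW' (b * rf i₂.le a) ∈ IsLocalRing.maximalIdeal (X.presheaf.stalk x) := by
      rw [map_mul, TopCat.Presheaf.germ_res_apply]
      refine Ideal.mul_mem_left _ _ fun hu => ?_
      have := (hloc.ge ((Scheme.mem_basicOpen _ _ _ hxW).2 hu)).1
      rw [ht] at this
      exact this rfl
    rw [map_add, map_one, ← sub_neg_eq_add]
    exact IsLocalRing.isUnit_one_sub_self_of_mem_nonunits _ (neg_mem hmem)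
  -- `(B ⊗ A') ⊗ Lⁿ ⊗ A ≅ B ⊗ Lⁿ`
  let e' : CohB1.tensorMod F A ≅ CohB1.tensorMod B (CohB1.tensorPow L n) :=
    tensorIso (Basic.assoc _ _ _) (Iso.refl A) ≪≫ Basic.assoc _ _ _ ≪≫
      tensorIso (Iso.refl B) (comm _ _ ≪≫ cancelInv j _)
  refine AffineAt.mk hn (tensorIso (Iso.refl _) e' ≪≫ cancelInv i _)
    (SecTwist.tmulHom σ₀ τ) ?_ ?_ <;> rw [genLocus_tmulHom hPm hFA]
  · exact ⟨hxσ₀, hxτ⟩
  · rw [inf_comm]; exact isAffineOpen_genLocus_inf hFA τ hG₀

include k in
/-- Ampleness from the integral closed subschemes. -/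
theorem isAmple_of_points (hdim : topologicalKrullDim X ≤ 1) {L : X.Modules} (hL : PicF.IsInvertible L)
    {P : X.Modules} (hP : CohB1.IsAmple P)
    (h : ∀ y : X, ∀ N : (IntMult.ptIdeal y).subscheme.Modules, Coh.IsCoh N →
      Van ((pb (IntMult.ptIdeal y).subschemeι).obj L) N) : CohB1.IsAmple L := by
  haveI := Curves.GlobalSections.isNoetherian_of_proper k X
  refine isAmple_of_van k hdim hL hP fun F hF => ?_
  exact ProperFin.Devissage.devissage (SubVan L) ⊤ (thick_subVan hdim hL _)
    (fun y _ => ⟨_, Devissage.Closure.cohIn_closureStructureSheaf y,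
      Devissage.Closure.length_closureStructureSheaf y, subVan_push _ hL (h y)⟩)
    F ⟨hF, Set.subset_univ _⟩ F (𝟙 F) inferInstance hF

end Field

end Groth.Agent.H97.CurveAmple
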