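import Groth.Agent.H97.AffineImages
import Groth.Agent.Lib.Lim.AffineUnion

/-! A finite set of points whose traces on each of finitely many closed subsets lie in an affine
open of that subset lies in an affine open. -/

set_option autoImplicit false
universe u
open CategoryTheory AlgebraicGeometry TopologicalSpace

namespace Groth.Agent.H97.AffineMerge

open Groth.Agent.H97.AffineImages

/-- Coset avoidance. -/
theorem exists_add_notMem {R : Type u} [CommRing R] (v : R) (I : Ideal R) (S : Set (Ideal R))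
    (hS : S.Finite) (hp : ∀ p ∈ S, p.IsPrime) (h : ∀ p ∈ S, v ∉ p ∨ ¬ I ≤ p) :
    ∃ i ∈ I, ∀ p ∈ S, v + i ∉ p := by
  classical
  let M := {p | Maximal (· ∈ S) p}
  have hMS : ∀ p ∈ M, p ∈ S := fun p hp => hp.1
  have hle : ∀ p ∈ S, ∃ q ∈ M, p ≤ q := fun p hp => by
    obtain ⟨q, hpq, hq⟩ := hS.exists_le_maximal hp
    exact ⟨q, hq, hpq⟩
  suffices ∃ i ∈ I, ∀ p ∈ M, v + i ∉ p by
    obtain ⟨i, hi, hiM⟩ := this
    refine ⟨i, hi, fun p hp hmem => ?_⟩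
    obtain ⟨q, hq, hpq⟩ := hle p hp
    exact hiM q hq (hpq hmem)
  have hMfin : M.Finite := hS.subset hMS
  let good := hMfin.toFinset.filter fun p => v ∉ p
  let bad := hMfin.toFinset.filter fun p => v ∈ p
  let J : Ideal R := I * ∏ p ∈ good, p
  have hJ : ∀ q ∈ bad, ¬ J ≤ q := by
    intro q hq hle'
    obtain ⟨hqM, hvq⟩ := Finset.mem_filter.1 hq
    have hqM' : q ∈ M := hMfin.mem_toFinset.1 hqM
    have := hp q hqM'.1
    rcases (Ideal.IsPrime.mul_le this).1 hle' with h1 | h1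
    · exact (h q hqM'.1).elim (fun h2 => h2 hvq) (fun h2 => h2 h1)
    · obtain ⟨p, hp', hpq⟩ := (Ideal.IsPrime.prod_le this).1 h1
      obtain ⟨hpM, hvp⟩ := Finset.mem_filter.1 hp'
      exact hvp ((hMfin.mem_toFinset.1 hpM).2 hqM'.1 hpq hvq)
  obtain ⟨i, hiJ, hib⟩ : ∃ i ∈ J, ∀ q ∈ bad, i ∉ q := by
    by_contra hcon
    push Not at hcon
    rcases bad.eq_empty_or_nonempty with he | ⟨q₀, hq₀⟩
    · obtain ⟨q, hq, -⟩ := hcon 0 J.zero_mem
      simp [he] at hq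
    obtain ⟨q, hq, hle'⟩ := (Ideal.subset_union_prime (f := fun q : Ideal R => q) q₀ q₀
      (fun q hq _ _ => hp q (hMfin.mem_toFinset.1 (Finset.mem_filter.1 hq).1).1)).1
      (show (J : Set R) ⊆ ⋃ q ∈ (bad : Set (Ideal R)), q from fun x hx => by
        obtain ⟨q, hq, hxq⟩ := hcon x hx
        exact Set.mem_biUnion hq hxq)
    exact hJ q hq hle'
  have hiI : i ∈ I := (Ideal.mul_le_left : I * ∏ p ∈ good, p ≤ I) hiJ
  have hiP : i ∈ ∏ p ∈ good, p := (Ideal.mul_le_right : I * ∏ p ∈ good, p ≤ ∏ p ∈ good, p) hiJ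
  refine ⟨i, hiI, fun p hpM hmem => ?_⟩
  by_cases hv : v ∈ p
  · have hmem' : p ∈ bad := Finset.mem_filter.2 ⟨hMfin.mem_toFinset.2 hpM, hv⟩
    have h1 := sub_mem hmem hv
    rw [add_sub_cancel_left] at h1
    exact hib p hmem' h1
  · have hmem' : p ∈ good := Finset.mem_filter.2 ⟨hMfin.mem_toFinset.2 hpM, hv⟩
    have h1 : ∏ q ∈ good, q ≤ p := Ideal.prod_le_inf.trans (Finset.inf_le (f := fun q : Ideal R => q) hmem')
    have h2 := sub_mem hmem (h1 hiP)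
    rw [add_sub_cancel_right] at h2
    exact hv h2

variable {X : Scheme.{u}}

/-- The reduced closed subscheme on a closed set. -/
noncomputable abbrev red (Z : Closeds X) : Scheme.{u} :=
  (Scheme.IdealSheafData.vanishingIdeal Z).subscheme

/-- Its inclusion. -/
noncomputable abbrev redι (Z : Closeds X) : red Z ⟶ X :=
  (Scheme.IdealSheafData.vanishingIdeal Z).subschemeι

theorem range_redι (Z : Closeds X) : Set.range (redι Z) = Z := by
  rw [Scheme.IdealSheafData.range_subschemeι, Scheme.IdealSheafData.coe_support_vanishingIdeal]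

theorem redι_mem (Z : Closeds X) (z : red Z) : redι Z z ∈ (Z : Set X) :=
  (range_redι Z).le ⟨z, rfl⟩

theorem exists_redι_eq {Z : Closeds X} {x : X} (hx : x ∈ (Z : Set X)) : ∃ z, redι Z z = x :=
  (range_redι Z).ge hx

theorem exists_factor {Y Z : Closeds X} (h : Y ≤ Z) :
    ∃ j : red Y ⟶ red Z, IsClosedImmersion j ∧ j ≫ redι Z = redι Y :=
  have hle := (Scheme.IdealSheafData.gc (X := X)).monotone_u (OrderDual.toDual_le_toDual.2 h)
  ⟨Scheme.IdealSheafData.inclusion hle,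
    Groth.Agent.Lib.Lim.AffineUnion.isClosedImmersion_inclusion hle,
    Scheme.IdealSheafData.inclusion_subschemeι hle⟩

theorem isAffineOpen_of_cover {W : Scheme.{u}} {κ : Type*} [Finite κ] (Y : κ → Scheme.{u})
    (j : ∀ k, Y k ⟶ W) [∀ k, IsClosedImmersion (j k)] (O : W.Opens)
    (haff : ∀ k, IsAffineOpen (j k ⁻¹ᵁ O)) (hcov : ∀ w ∈ O, ∃ k, w ∈ Set.range (j k)) :
    IsAffineOpen O := by
  have : ∀ k, IsAffine ((j k ⁻¹ᵁ O : (Y k).Opens) : Scheme.{u}) := haff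
  have : ∀ k, IsClosedImmersion (j k ∣_ O) := fun k =>
    IsZariskiLocalAtTarget.restrict (P := @IsClosedImmersion) inferInstance O
  refine Groth.Agent.Lib.Lim.AffineUnion.isAffine_of_finite_cover
    (fun k => ((j k ⁻¹ᵁ O : (Y k).Opens) : Scheme.{u})) (fun k => j k ∣_ O) fun w => ?_
  obtain ⟨k, y, hy⟩ := hcov w.1 w.2
  refine ⟨k, ⟨y, show j k y ∈ O from hy.symm ▸ w.2⟩, Subtype.ext ?_⟩
  rw [morphismRestrict_base]
  exact hy

theorem exists_open_preimage (Z : Closeds X) (D : (red Z).Opens) :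
    ∃ U : X.Opens, redι Z ⁻¹ᵁ U = D := by
  obtain ⟨s, hs, hsD⟩ := (redι Z).isClosedEmbedding.isInducing.isOpen_iff.1 D.2
  exact ⟨⟨s, hs⟩, Opens.ext hsD⟩

theorem mem_preimage_iff (Z : Closeds X) (U : X.Opens) (z : red Z) :
    z ∈ redι Z ⁻¹ᵁ U ↔ redι Z z ∈ U := Iff.rfl

theorem merge (Y Z : Closeds X) (T : Finset X) (U V : X.Opens)
    (hU : IsAffineOpen (redι Y ⁻¹ᵁ U)) (hTU : ∀ t ∈ T, t ∈ (Y : Set X) → t ∈ U)
    (hV : IsAffineOpen (redι Z ⁻¹ᵁ V)) (hTV : ∀ t ∈ T, t ∈ (Z : Set X) → t ∈ V) :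
    ∃ O : X.Opens, IsAffineOpen (redι (Y ⊔ Z) ⁻¹ᵁ O) ∧
      ∀ t ∈ T, t ∈ ((Y ⊔ Z : Closeds X) : Set X) → t ∈ O := by
  classical
  let TY := (T.finite_toSet.preimage ((redι Y).isClosedEmbedding.injective.injOn (s := redι Y ⁻¹' (T : Set X)))).toFinset
  have hTY : ∀ y, y ∈ TY ↔ redι Y y ∈ T := fun y => Set.Finite.mem_toFinset _
  let TZ := (T.finite_toSet.preimage ((redι Z).isClosedEmbedding.injective.injOn (s := redι Z ⁻¹' (T : Set X)))).toFinset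
  have hTZ : ∀ y, y ∈ TZ ↔ redι Z y ∈ T := fun y => Set.Finite.mem_toFinset _
  let C : Closeds X := Y ⊓ Z
  -- first shrinking on `Y`
  obtain ⟨f, hfle, hfT⟩ := exists_basicOpen hU
    (redι Y ⁻¹ᵁ ⟨((C : Set X) ∩ (V : Set X)ᶜ)ᶜ, (C.2.inter V.2.isClosed_compl).isOpen_compl⟩) TY
    (fun y hy => hTU _ ((hTY y).1 hy) (redι_mem Y y))
    (fun y hy h => h.2 (hTV _ ((hTY y).1 hy) h.1.2))
  obtain ⟨U₁, hU₁⟩ := exists_open_preimage Y ((red Y).basicOpen f)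
  have hU₁aff : IsAffineOpen (redι Y ⁻¹ᵁ U₁) := hU₁ ▸ hU.basicOpen f
  have hU₁T : ∀ t ∈ T, t ∈ (Y : Set X) → t ∈ U₁ := fun t ht htY => by
    obtain ⟨y, rfl⟩ := exists_redι_eq htY
    rw [← mem_preimage_iff, hU₁]
    exact hfT y ((hTY y).2 ht)
  have hU₁V : ∀ x ∈ (C : Set X), x ∈ U₁ → x ∈ V := fun x hx hxU => by
    obtain ⟨y, rfl⟩ := exists_redι_eq hx.1
    by_contra hn
    exact hfle (hU₁ ▸ (mem_preimage_iff Y U₁ y).2 hxU) ⟨hx, hn⟩
  -- shrinking on `Z`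
  obtain ⟨g, hgle, hgT⟩ := exists_basicOpen hV (redι Z ⁻¹ᵁ (U₁ ⊔ ⟨(C : Set X)ᶜ, C.2.isOpen_compl⟩)) TZ
    (fun y hy => hTV _ ((hTZ y).1 hy) (redι_mem Z y))
    (fun y hy => by
      by_cases h : redι Z y ∈ (C : Set X)
      · exact Or.inl (hU₁T _ ((hTZ y).1 hy) h.1)
      · exact Or.inr h)
  obtain ⟨V₁, hV₁⟩ := exists_open_preimage Z ((red Z).basicOpen g)
  have hV₁aff : IsAffineOpen (redι Z ⁻¹ᵁ V₁) := hV₁ ▸ hV.basicOpen g
  have hV₁T : ∀ t ∈ T, t ∈ (Z : Set X) → t ∈ V₁ := fun t ht htZ => by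
    obtain ⟨y, rfl⟩ := exists_redι_eq htZ
    rw [← mem_preimage_iff, hV₁]
    exact hgT y ((hTZ y).2 ht)
  have hV₁U : ∀ x ∈ (C : Set X), x ∈ V₁ → x ∈ U₁ := fun x hx hxV => by
    obtain ⟨y, rfl⟩ := exists_redι_eq hx.2
    exact (hgle (hV₁ ▸ (mem_preimage_iff Z V₁ y).2 hxV)).resolve_right fun h => h hx
  -- the function on the intersection
  obtain ⟨jY, hjYc, hjY⟩ := exists_factor (inf_le_left : C ≤ Y)
  obtain ⟨jZ, hjZc, hjZ⟩ := exists_factor (inf_le_right : C ≤ Z)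
  have hcY : ∀ c, redι Y (jY c) = redι C c := fun c => by rw [← Scheme.Hom.comp_apply, hjY]
  have hcZ : ∀ c, redι Z (jZ c) = redι C c := fun c => by rw [← Scheme.Hom.comp_apply, hjZ]
  have hle : jY ⁻¹ᵁ (red Y).basicOpen f ≤ jZ ⁻¹ᵁ (redι Z ⁻¹ᵁ V) := fun c hc => by
    show redι Z (jZ c) ∈ V
    rw [hcZ]
    refine hU₁V _ (redι_mem C c) ?_
    rw [← hcY]
    exact (mem_preimage_iff Y U₁ (jY c)).1 (hU₁ ▸ hc)
  obtain ⟨F, hF⟩ := jY.app_surjective _ (hU.basicOpen f)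
    ((red C).presheaf.map (homOfLE hle).op (jZ.app _ g))
  have hmemF : ∀ (F' : Γ(red Y, (red Y).basicOpen f)), jY.app _ F' = jY.app _ F →
      ∀ x ∈ (C : Set X), ∀ y, redι Y y = x → (y ∈ (red Y).basicOpen F' ↔ x ∈ U₁ ∧ x ∈ V₁) := by
    intro F' hF' x hx y hy
    obtain ⟨c, rfl⟩ := exists_redι_eq hx
    have hyc : y = jY c := (redι Y).isClosedEmbedding.injective (hy.trans (hcY c).symm)
    subst hyc
    have e : c ∈ jY ⁻¹ᵁ (red Y).basicOpen F' ↔ c ∈ jY ⁻¹ᵁ (red Y).basicOpen f ∧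
        c ∈ jZ ⁻¹ᵁ (red Z).basicOpen g := by
      rw [Scheme.preimage_basicOpen, hF', hF, Scheme.basicOpen_res, ← Scheme.preimage_basicOpen]
      rfl
    refine e.trans (and_congr ?_ ?_)
    · rw [← hU₁, ← hcY]; rfl
    · rw [← hV₁, ← hcZ]; rfl
  let S : Set (Ideal Γ(red Y, (red Y).basicOpen f)) :=
    (fun y : {y // y ∈ TY} => pt y.1 (hfT y.1 y.2)) '' Set.univ
  obtain ⟨i, hi, hiS⟩ := exists_add_notMem F (RingHom.ker (jY.app ((red Y).basicOpen f)).hom) S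
    ((Set.finite_univ).image _) (by rintro _ ⟨y, -, rfl⟩; infer_instance) (by
      rintro _ ⟨⟨y, hy⟩, -, rfl⟩
      by_cases hC : redι Y y ∈ (C : Set X)
      · refine Or.inl ((mem_basicOpen_iff_notMem F y _).1 ((hmemF F rfl _ hC y rfl).2 ?_))
        exact ⟨hU₁T _ ((hTY y).1 hy) hC.1, hV₁T _ ((hTY y).1 hy) hC.2⟩
      · refine Or.inr fun hker => ?_
        obtain ⟨k, hk, hyk⟩ := (hU.basicOpen f).exists_basicOpen_le
          (⟨y, hC⟩ : (redι Y ⁻¹ᵁ ⟨(C : Set X)ᶜ, C.2.isOpen_compl⟩ : (red Y).Opens)) (hfT y hy)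
        have hc : IsCompact ((jY ⁻¹ᵁ (red Y).basicOpen f : (red C).Opens) : Set (red C)) :=
          ((hU.basicOpen f).preimage jY).isCompact
        have h0 : (red C).basicOpen (jY.app _ k) = ⊥ := by
          rw [← Scheme.preimage_basicOpen, eq_bot_iff]
          intro c hc'
          exact hk hc' (by rw [hcY]; exact redι_mem C c)
        obtain ⟨n, hn⟩ := ((red C).isNilpotent_iff_basicOpen_eq_bot_of_isCompact hc _).2 h0
        have hmem : k ^ (n + 1) ∈ RingHom.ker (jY.app ((red Y).basicOpen f)).hom := by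
          show jY.app _ (k ^ (n + 1)) = 0
          rw [map_pow, pow_succ, hn, zero_mul]
        exact (mem_basicOpen_iff_notMem k y _).1 hyk
          (Ideal.IsPrime.mem_of_pow_mem (inferInstance : (pt y (hfT y hy)).IsPrime) _ (hker hmem)))
  let F' := F + i
  have hF'C : jY.app _ F' = jY.app _ F := by
    rw [map_add, show jY.app _ i = 0 from hi, add_zero]
  have := hU.isLocalization_basicOpen f
  obtain ⟨⟨F₀, _, n, rfl⟩, hF₀⟩ := IsLocalization.surj (Submonoid.powers f) F'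
  let f' := F₀ * f
  have hf' : (red Y).basicOpen f' = (red Y).basicOpen F' := by
    have h1 := congrArg (red Y).basicOpen hF₀
    simp only [RingHom.algebraMap_toAlgebra, Scheme.basicOpen_mul] at h1
    have hu : (red Y).basicOpen (((red Y).presheaf.map (homOfLE ((red Y).basicOpen_le f)).op).hom (f ^ n)) =
        (red Y).basicOpen f := by
      refine (red Y).basicOpen_of_isUnit ?_
      rw [map_pow]
      exact (RingedSpace.isUnit_res_basicOpen _ f).pow n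
    rw [hu, inf_eq_left.2 ((red Y).basicOpen_le F'), Scheme.basicOpen_res] at h1
    rw [h1, Scheme.basicOpen_mul, inf_comm]
  obtain ⟨U₂, hU₂⟩ := exists_open_preimage Y ((red Y).basicOpen f')
  have hU₂aff : IsAffineOpen (redι Y ⁻¹ᵁ U₂) := hU₂ ▸ hU.basicOpen f'
  have hUC : ∀ x ∈ (C : Set X), (x ∈ U₂ ↔ x ∈ U₁ ∧ x ∈ V₁) := fun x hx => by
    obtain ⟨y, rfl⟩ := exists_redι_eq hx.1
    rw [← hmemF F' hF'C _ hx y rfl, ← hf', ← hU₂]
    rfl
  let O : X.Opens := ⟨(((Y : Set X) ∩ (U₂ : Set X)ᶜ) ∪ ((Z : Set X) ∩ (V₁ : Set X)ᶜ))ᶜ,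
    ((Y.2.inter U₂.2.isClosed_compl).union (Z.2.inter V₁.2.isClosed_compl)).isOpen_compl⟩
  have hOY : redι Y ⁻¹ᵁ O = redι Y ⁻¹ᵁ U₂ := by
    refine Opens.ext (Set.ext fun y => ?_)
    refine ⟨fun h => by_contra fun h' => h (Or.inl ⟨redι_mem Y y, h'⟩), fun h h' => ?_⟩
    rcases h' with h' | h'
    · exact h'.2 h
    · exact h'.2 ((hUC _ ⟨redι_mem Y y, h'.1⟩).1 h).2
  have hOZ : redι Z ⁻¹ᵁ O = redι Z ⁻¹ᵁ V₁ := by
    refine Opens.ext (Set.ext fun y => ?_)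
    refine ⟨fun h => by_contra fun h' => h (Or.inr ⟨redι_mem Z y, h'⟩), fun h h' => ?_⟩
    rcases h' with h' | h'
    · have hC : redι Z y ∈ (C : Set X) := ⟨h'.1, redι_mem Z y⟩
      exact h'.2 ((hUC _ hC).2 ⟨hV₁U _ hC h, h⟩)
    · exact h'.2 h
  obtain ⟨iY, hiYc, hiY⟩ := exists_factor (le_sup_left : Y ≤ Y ⊔ Z)
  obtain ⟨iZ, hiZc, hiZ⟩ := exists_factor (le_sup_right : Z ≤ Y ⊔ Z)
  refine ⟨O, ?_, fun t ht htYZ h => ?_⟩
  · let P : ULift.{u} Bool → Closeds X := fun k => bif k.down then Y else Z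
    let j : ∀ k, red (P k) ⟶ red (Y ⊔ Z) := fun k => match k with
      | ⟨true⟩ => iY
      | ⟨false⟩ => iZ
    have : ∀ k, IsClosedImmersion (j k) := by rintro ⟨_ | _⟩; exacts [hiZc, hiYc]
    refine isAffineOpen_of_cover (fun k => red (P k)) j _ ?_ fun w hw => ?_
    · rintro ⟨_ | _⟩
      · show IsAffineOpen (iZ ⁻¹ᵁ (redι (Y ⊔ Z) ⁻¹ᵁ O))
        rw [← Scheme.Hom.comp_preimage, hiZ, hOZ]
        exact hV₁aff
      · show IsAffineOpen (iY ⁻¹ᵁ (redι (Y ⊔ Z) ⁻¹ᵁ O))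
        rw [← Scheme.Hom.comp_preimage, hiY, hOY]
        exact hU₂aff
    · have hinj := (redι (Y ⊔ Z)).isClosedEmbedding.injective
      rcases (redι_mem (Y ⊔ Z) w : redι (Y ⊔ Z) w ∈ (Y : Set X) ∪ Z) with hw' | hw'
      · obtain ⟨y, hy⟩ := exists_redι_eq hw'
        exact ⟨⟨true⟩, y, hinj (by rw [← Scheme.Hom.comp_apply, hiY]; exact hy)⟩
      · obtain ⟨y, hy⟩ := exists_redι_eq hw'
        exact ⟨⟨false⟩, y, hinj (by rw [← Scheme.Hom.comp_apply, hiZ]; exact hy)⟩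
  · rcases h with ⟨hY, hn⟩ | ⟨hZ, hn⟩
    · obtain ⟨y, rfl⟩ := exists_redι_eq hY
      refine hn ((mem_preimage_iff Y U₂ y).1 ?_)
      rw [hU₂, hf']
      exact (mem_basicOpen_iff_notMem F' y (hfT y ((hTY y).2 ht))).2
        (hiS _ ⟨⟨y, (hTY y).2 ht⟩, trivial, rfl⟩)
    · exact hn (hV₁T t ht hZ)

/-- Finitely many closed pieces. -/
theorem exists_affine {κ : Type*} [Finite κ] (Z : κ → Closeds X)
    (hcov : ∀ x : X, ∃ k, x ∈ (Z k : Set X)) (T : Finset X)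
    (h : ∀ k, ∃ U : X.Opens, IsAffineOpen (redι (Z k) ⁻¹ᵁ U) ∧ ∀ t ∈ T, t ∈ (Z k : Set X) → t ∈ U) :
    ∃ O : X.Opens, IsAffineOpen O ∧ ∀ t ∈ T, t ∈ O := by
  classical
  cases nonempty_fintype κ
  have key : ∀ s : Finset κ, ∃ U : X.Opens, IsAffineOpen (redι (s.sup Z) ⁻¹ᵁ U) ∧
      ∀ t ∈ T, t ∈ ((s.sup Z : Closeds X) : Set X) → t ∈ U := by
    intro s
    induction s using Finset.induction with
    | empty =>
      refine ⟨⊥, ?_, fun t _ ht => absurd ht (by rw [Finset.sup_empty]; exact id)⟩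
      rw [Scheme.Hom.preimage_bot]
      exact isAffineOpen_bot _
    | insert k s _ ih =>
      obtain ⟨U, hU, hTU⟩ := ih
      obtain ⟨V, hV, hTV⟩ := h k
      rw [Finset.sup_insert]
      exact merge (Z k) (s.sup Z) T V U hV hTV hU hTU
  obtain ⟨U, hU, hTU⟩ := key Finset.univ
  have htop : Finset.univ.sup Z = ⊤ := Closeds.ext <| Set.eq_univ_of_forall fun x => by
    obtain ⟨k, hk⟩ := hcov x
    exact (Finset.le_sup (f := Z) (Finset.mem_univ k)) hk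
  rw [htop] at hU hTU
  refine ⟨U, ?_, fun t ht => hTU t ht trivial⟩
  exact isAffineOpen_of_cover (fun _ : Unit => red ⊤) (fun _ => redι ⊤) U (fun _ => hU)
    fun w _ => ⟨(), exists_redι_eq trivial⟩

end Groth.Agent.H97.AffineMerge
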