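import Mathlib.AlgebraicGeometry.Morphisms.FiniteType
import Mathlib.AlgebraicGeometry.SpreadingOut
import Mathlib.AlgebraicGeometry.Noetherian
import Mathlib.Topology.Sober

/-! A morphism locally of finite type inducing an isomorphism of stalks at `x` is an open immersion
near `x` when the target is germ-injective at the image. -/

set_option autoImplicit false
universe u
open CategoryTheory AlgebraicGeometry

namespace Groth.Agent.H97.LocalIso

theorem exists_away_bijective {A B Op Oq : Type u} [CommRing A] [CommRing B] [CommRing Op]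
    [CommRing Oq] (φ : A →+* B) (hφ : φ.FiniteType) (p : Ideal A) [p.IsPrime] (q : Ideal B)
    [q.IsPrime] [Algebra A Op] [IsLocalization.AtPrime Op p] [Algebra B Oq]
    [IsLocalization.AtPrime Oq q] (Φ : Op →+* Oq) (hΦ : Function.Bijective Φ)
    (hcomm : ∀ a, Φ (algebraMap A Op a) = algebraMap B Oq (φ a))
    (hinj : Function.Injective (algebraMap A Op)) :
    ∃ a, a ∉ p ∧ ∃ b, b ∉ q ∧ φ a ∣ b ∧
      ∀ (A' B' : Type u) [CommRing A'] [CommRing B'] [Algebra A A'] [Algebra B B']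
        [IsLocalization.Away a A'] [IsLocalization.Away b B'] (ψ : A' →+* B'),
        (∀ x, ψ (algebraMap A A' x) = algebraMap B B' (φ x)) → Function.Bijective ψ := by
  letI := φ.toAlgebra
  have key : ∀ z : B, ∃ (c s : A) (t : B), s ∉ p ∧ t ∉ q ∧ t * (φ s * z) = t * φ c := by
    intro z
    obtain ⟨y, hy⟩ := hΦ.2 (algebraMap B Oq z)
    obtain ⟨⟨c, s⟩, hcs⟩ := IsLocalization.surj p.primeCompl y
    have h := congrArg Φ hcs
    rw [map_mul, hy, hcomm, hcomm, ← map_mul, IsLocalization.eq_iff_exists q.primeCompl] at h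
    obtain ⟨t, ht⟩ := h
    exact ⟨c, s.1, t.1, s.2, t.2, by rw [mul_comm (φ s.1)]; exact ht⟩
  classical
  obtain ⟨G, hG⟩ := Algebra.FiniteType.out (R := A) (A := B) (self := hφ)
  choose c s t hs ht hrel using key
  set S : A := ∏ i ∈ G, s i with hS
  set T : B := ∏ i ∈ G, t i with hT
  have hSp : S ∉ p := fun h =>
    let ⟨i, _, hi⟩ := (Ideal.IsPrime.prod_mem_iff).1 h
    hs i hi
  have hTq : T ∉ q := fun h =>
    let ⟨i, _, hi⟩ := (Ideal.IsPrime.prod_mem_iff).1 h
    ht i hi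
  have hall : ∀ z : B, ∃ (n : ℕ) (a : A), T * (φ S ^ n * z) = T * φ a := by
    intro z
    have hz : z ∈ Algebra.adjoin A (G : Set B) := hG ▸ Algebra.mem_top
    induction hz using Algebra.adjoin_induction with
    | mem x hx =>
      refine ⟨1, (∏ i ∈ G.erase x, s i) * c x, ?_⟩
      rw [hS, hT, ← Finset.mul_prod_erase G s hx, ← Finset.mul_prod_erase G t hx, pow_one, map_mul,
        map_mul]
      linear_combination ((∏ i ∈ G.erase x, t i) * φ (∏ i ∈ G.erase x, s i)) * hrel x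
    | algebraMap r => exact ⟨0, r, by simp; rfl⟩
    | add x y _ _ hx hy =>
      obtain ⟨n, a, ha⟩ := hx
      obtain ⟨m, b, hb⟩ := hy
      refine ⟨n + m, S ^ m * a + S ^ n * b, ?_⟩
      simp only [map_add, map_mul, map_pow]
      linear_combination φ S ^ m * ha + φ S ^ n * hb
    | mul x y _ _ hx hy =>
      obtain ⟨n, a, ha⟩ := hx
      obtain ⟨m, b, hb⟩ := hy
      refine ⟨n + m, a * b, ?_⟩
      simp only [map_mul]
      linear_combination φ S ^ m * y * ha + φ a * hb
  obtain ⟨m, a₀, ha₀⟩ := hall T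
  have hq : ∀ x : A, x ∉ p → φ x ∉ q := fun x hx h => by
    have h1 : IsUnit (algebraMap A Op x) := IsLocalization.map_units Op (⟨x, hx⟩ : p.primeCompl)
    have h2 := h1.map Φ
    rw [hcomm, IsLocalization.AtPrime.isUnit_to_map_iff Oq q] at h2
    exact h2 h
  have ha₀p : a₀ ∉ p := by
    intro h
    have h1 : T * φ a₀ ∉ q := ha₀ ▸ Ideal.IsPrime.mul_notMem ‹_› hTq
      (Ideal.IsPrime.mul_notMem ‹_› (fun h => hq S hSp (Ideal.IsPrime.mem_of_pow_mem ‹_› m h)) hTq)
    refine h1 (q.mul_mem_left _ ?_)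
    by_contra hb
    have h2 : IsUnit (Φ (algebraMap A Op a₀)) := by
      rw [hcomm]; exact IsLocalization.map_units Oq (⟨φ a₀, hb⟩ : q.primeCompl)
    have h3 : IsUnit (algebraMap A Op a₀) := by
      have := h2.map (RingEquiv.ofBijective Φ hΦ).symm
      rwa [show (RingEquiv.ofBijective Φ hΦ).symm (Φ (algebraMap A Op a₀)) = algebraMap A Op a₀ from
        (RingEquiv.ofBijective Φ hΦ).symm_apply_apply _] at this
    exact (IsLocalization.AtPrime.isUnit_to_map_iff Op p a₀).1 h3 h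
  refine ⟨S * a₀, Ideal.IsPrime.mul_notMem ‹_› hSp ha₀p, T * φ (S * a₀),
    Ideal.IsPrime.mul_notMem ‹_› hTq (hq _ (Ideal.IsPrime.mul_notMem ‹_› hSp ha₀p)),
    dvd_mul_left _ _, ?_⟩
  intro A' B' _ _ _ _ _ _ ψ hψ
  set g : B →+* B' := algebraMap B B' with hg
  have hbu : IsUnit (g (T * φ (S * a₀))) :=
    IsLocalization.Away.algebraMap_isUnit (T * φ (S * a₀))
  rw [map_mul, IsUnit.mul_iff] at hbu
  obtain ⟨hTu, hau⟩ := hbu
  have hval : ∀ z : B, ∀ n a, T * (φ S ^ n * z) = T * φ a →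
      g (φ S) ^ n * g z = g (φ a) := fun z n a h => by
    have := congrArg g h
    rw [map_mul, map_mul, map_mul, map_pow] at this
    exact hTu.mul_left_cancel this
  obtain ⟨a', ha'⟩ := (IsLocalization.Away.algebraMap_isUnit (S := A') (S * a₀)).exists_right_inv
  have hSu : ψ (algebraMap A A' S) = g (φ S) := hψ S
  have hinvS : g (φ S) * ψ (algebraMap A A' a₀ * a') = 1 := by
    rw [← hSu, ← map_mul, ← mul_assoc, ← map_mul, ha', map_one]
  have hg' : ∀ z : B, g z ∈ ψ.range := fun z => by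
    obtain ⟨n, a, h⟩ := hall z
    refine ⟨(algebraMap A A' a₀ * a') ^ n * algebraMap A A' a, ?_⟩
    rw [map_mul, map_pow, hψ, ← hval z n a h, ← mul_assoc, ← mul_pow, mul_comm (ψ _), hinvS,
      one_pow, one_mul]
  constructor
  · rw [injective_iff_map_eq_zero]
    intro x hx
    obtain ⟨⟨x₀, u⟩, hu⟩ := IsLocalization.surj (Submonoid.powers (S * a₀)) x
    have h0 : g (φ x₀) = 0 := by rw [← hψ, ← hu, map_mul, hx, zero_mul]
    rw [hg, IsLocalization.map_eq_zero_iff (Submonoid.powers (T * φ (S * a₀)))] at h0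
    obtain ⟨⟨w, k, rfl⟩, hw⟩ := h0
    have h1 : IsUnit (algebraMap B Oq ((T * φ (S * a₀)) ^ k)) :=
      IsLocalization.map_units Oq (⟨_, pow_mem (show T * φ (S * a₀) ∈ q.primeCompl from
        Ideal.IsPrime.mul_notMem ‹_› hTq (hq _ (Ideal.IsPrime.mul_notMem ‹_› hSp ha₀p))) k⟩ :
          q.primeCompl)
    have h2 : algebraMap B Oq (φ x₀) = 0 := by
      have := congrArg (algebraMap B Oq) hw
      rw [map_mul, map_zero] at this
      exact h1.mul_right_eq_zero.1 this
    rw [← hcomm, map_eq_zero_iff Φ hΦ.1, map_eq_zero_iff _ hinj] at h2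
    simp only [h2, map_zero] at hu
    exact (IsLocalization.map_units A' u).mul_left_eq_zero.1 hu
  · intro y
    obtain ⟨⟨z, u⟩, hu⟩ := IsLocalization.surj (Submonoid.powers (T * φ (S * a₀))) y
    obtain ⟨k, hk⟩ := u.2
    obtain ⟨x, hx⟩ := hg' z
    -- the inverse of `g (T * φ (S * a₀))` lies in the range
    have hT' : g (φ S) ^ m * g T = g (φ a₀) := hval T m a₀ ha₀
    have hainv : g (φ (S * a₀)) * ψ a' = 1 := by
      rw [← hψ, ← map_mul, ha', map_one]
    let i : A' := algebraMap A A' S ^ (m + 1) * a' * a'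
    have hi : g (T * φ (S * a₀)) * ψ i = 1 := by
      calc g (T * φ (S * a₀)) * ψ i
          = (g (φ S) ^ m * g T) * g (φ S) * ψ a' * (g (φ (S * a₀)) * ψ a') := by
            simp only [i, map_mul, map_pow, hψ]; ring
        _ = g (φ a₀) * g (φ S) * ψ a' * 1 := by rw [hT', hainv]
        _ = g (φ (S * a₀)) * ψ a' := by rw [map_mul φ, map_mul g]; ring
        _ = 1 := hainv
    refine ⟨x * i ^ k, ?_⟩
    rw [map_mul, map_pow, hx]
    have : y * g (T * φ (S * a₀)) ^ k = g z := by rw [← map_pow, hg]; rw [← hu, ← hk]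
    rw [← this, mul_assoc, ← mul_pow, hi, one_pow, mul_one]

theorem exists_isOpenImmersion {X S : Scheme.{u}} (f : X ⟶ S) [LocallyOfFiniteType f] (x : X)
    [S.IsGermInjectiveAt (f x)] [IsIso (f.stalkMap x)] :
    ∃ U : X.Opens, x ∈ U ∧ IsOpenImmersion (U.ι ≫ f) := by
  obtain ⟨V, hs, hV, hinj⟩ := S.exists_germ_injective (f x)
  obtain ⟨U, hU, hxU, hUV⟩ := exists_isAffineOpen_mem_and_subset (U := f ⁻¹ᵁ V) hs
  let φ := f.appLE V U hUV
  letI := TopCat.Presheaf.algebra_section_stalk S.presheaf (⟨f x, hs⟩ : V)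
  letI := TopCat.Presheaf.algebra_section_stalk X.presheaf (⟨x, hxU⟩ : U)
  haveI := hV.isLocalization_stalk ⟨f x, hs⟩
  haveI := hU.isLocalization_stalk ⟨x, hxU⟩
  obtain ⟨a, ha, b, hb, hdvd, hbij⟩ := exists_away_bijective
    (Op := S.presheaf.stalk (f x)) (Oq := X.presheaf.stalk x) φ.hom
    (f.finiteType_appLE hV hU hUV) (hV.primeIdealOf ⟨f x, hs⟩).asIdeal
    (hU.primeIdealOf ⟨x, hxU⟩).asIdeal (f.stalkMap x).hom
    (ConcreteCategory.bijective_of_isIso (f.stalkMap x))
    (fun a => by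
      show (S.presheaf.germ V (f x) hs ≫ f.stalkMap x) a = (φ ≫ X.presheaf.germ U x hxU) a
      simp [φ, Scheme.Hom.germ_stalkMap, Scheme.Hom.appLE]) hinj
  have hxb : x ∈ X.basicOpen b := by
    rw [X.mem_basicOpen _ x hxU]
    exact IsLocalization.map_units (X.presheaf.stalk x)
      (⟨b, hb⟩ : (hU.primeIdealOf ⟨x, hxU⟩).asIdeal.primeCompl)
  have hle : X.basicOpen b ≤ f ⁻¹ᵁ S.basicOpen a := by
    obtain ⟨c, rfl⟩ := hdvd
    rw [X.basicOpen_mul, Scheme.preimage_basicOpen]
    exact inf_le_left.trans ((X.basicOpen_res (f.app V a) (homOfLE hUV).op).trans_le inf_le_right)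
  letI : Algebra Γ(S, V) Γ(S, S.basicOpen a) :=
    (S.presheaf.map (homOfLE (S.basicOpen_le a)).op).hom.toAlgebra
  letI : Algebra Γ(X, U) Γ(X, X.basicOpen b) :=
    (X.presheaf.map (homOfLE (X.basicOpen_le b)).op).hom.toAlgebra
  haveI := hV.isLocalization_basicOpen a
  haveI := hU.isLocalization_basicOpen b
  haveI : IsIso (f.appLE (S.basicOpen a) (X.basicOpen b) hle) :=
    (ConcreteCategory.isIso_iff_bijective _).2 <| hbij _ _ (f.appLE _ _ hle).hom fun y => by
      show (S.presheaf.map _ ≫ f.appLE _ _ hle) y = (φ ≫ X.presheaf.map _) y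
      simp only [φ, Scheme.Hom.map_appLE, Scheme.Hom.appLE_map]
  refine ⟨X.basicOpen b, hxb, ?_⟩
  have := IsAffineOpen.SpecMap_appLE_fromSpec f (hV.basicOpen a) (hU.basicOpen b) hle
  haveI : IsOpenImmersion ((hU.basicOpen b).fromSpec ≫ f) := this ▸ inferInstance
  rw [show (X.basicOpen b).ι = (hU.basicOpen b).isoSpec.hom ≫ (hU.basicOpen b).fromSpec by
    rw [IsAffineOpen.fromSpec, Iso.hom_inv_id_assoc], Category.assoc]
  infer_instance

/-- Reduced schemes with finitely many irreducible components are germ-injective. -/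
theorem isGermInjectiveAt_of_isReduced {S : Scheme.{u}} [IsReduced S]
    (hS : (irreducibleComponents (S : Type u)).Finite) (s : S) : S.IsGermInjectiveAt s := by
  let Z : Set S := ⋃ C ∈ {C ∈ irreducibleComponents (S : Type u) | s ∉ C}, C
  have hZ : IsClosed Z := (hS.subset fun C hC => hC.1).isClosed_biUnion fun C hC =>
    isClosed_of_mem_irreducibleComponents C hC.1
  have hsZ : s ∈ (⟨Zᶜ, hZ.isOpen_compl⟩ : S.Opens) := by
    show s ∉ Z
    simp only [Z, Set.mem_iUnion, not_exists]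
    exact fun C hC h => hC.2 h
  obtain ⟨V, hV, hsV, hVZ⟩ := exists_isAffineOpen_mem_and_subset hsZ
  refine ⟨V, hsV, hV, (injective_iff_map_eq_zero _).2 fun t ht => ?_⟩
  obtain ⟨W, hsW, i, _, hres⟩ := S.presheaf.germ_eq s hsV hsV t 0 (by rw [ht, map_zero])
  rw [← AlgebraicGeometry.basicOpen_eq_bot_iff, eq_bot_iff]
  intro v hv
  obtain ⟨C, hC, hsub⟩ := exists_mem_irreducibleComponents_subset_of_isIrreducible
    (closure {v}) isIrreducible_singleton.closure
  have hgen := genericPoints.isGenericPoint_ofComponent ⟨C, hC⟩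
  have hsC : s ∈ C := by
    by_contra hn
    exact hVZ (S.basicOpen_le t hv) (Set.mem_biUnion ⟨hC, hn⟩ (hsub (subset_closure rfl)))
  have hηb := (hgen.specializes (hsub (subset_closure rfl))).mem_open (S.basicOpen t).2 hv
  have hηW := (hgen.specializes hsC).mem_open W.2 hsW
  have := Scheme.basicOpen_res S t i.op
  rw [hres, map_zero, Scheme.basicOpen_zero] at this
  have hmem : (genericPoints.ofComponent ⟨C, hC⟩).1 ∈ W ⊓ S.basicOpen t := ⟨hηW, hηb⟩
  rw [← this] at hmem
  exact hmem.elim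

end Groth.Agent.H97.LocalIso
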