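import Groth.Agent.H97.IntegralFinite
import Groth.Agent.H97.AffineMerge
import Groth.Agent.H97.LocalIso
import Mathlib.AlgebraicGeometry.Morphisms.Separated

/-! Finitely many points with local rings of dimension at most one on a separated locally Noetherian
scheme with finitely many components lie in an affine open. -/

set_option autoImplicit false
universe u
open CategoryTheory AlgebraicGeometry TopologicalSpace

namespace Groth.Agent.H97.FiniteAffine

open Groth.Agent.H97.AffineMerge

variable {X : Scheme.{u}}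

theorem isReduced_red (Z : Closeds X) : IsReduced (red Z) := by
  have : ∀ z : red Z, _root_.IsReduced ((red Z).presheaf.stalk z) := by
    intro z
    let I := Scheme.IdealSheafData.vanishingIdeal Z
    obtain ⟨i, y, rfl⟩ := I.subschemeCover.openCover.exists_eq z
    have : _root_.IsReduced (Γ(X, (i : X.affineOpens).1) ⧸ I.ideal i) :=
      (Ideal.isRadical_iff_quotient_reduced _).mp
        (show (I.ideal i).IsRadical from by
          rw [Scheme.IdealSheafData.vanishingIdeal_ideal]
          exact PrimeSpectrum.isRadical_vanishingIdeal _)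
    have : IsReduced (I.subschemeCover.openCover.X i) :=
      inferInstanceAs (IsReduced (Spec (.of (Γ(X, (i : X.affineOpens).1) ⧸ I.ideal i))))
    exact isReduced_of_injective _ (asIso ((I.subschemeCover.openCover.f i).stalkMap y)
      ).commRingCatIsoToRingEquiv.injective
  exact isReduced_of_isReduced_stalk _

theorem irreducibleSpace_red (Z : Closeds X) (hZ : IsIrreducible (Z : Set X)) :
    IrreducibleSpace (red Z) := by
  have : IsIrreducible (Set.univ : Set (red Z)) := by
    rw [← Set.preimage_univ (f := redι Z)]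
    have h2 : redι Z ⁻¹' (Set.univ : Set X) = redι Z ⁻¹' (Z : Set X) :=
      Set.ext fun z => iff_of_true trivial (redι_mem Z z)
    rw [h2]
    have he := (redι Z).isClosedEmbedding
    refine ⟨?_, ?_⟩
    · obtain ⟨x, hx⟩ := hZ.1
      obtain ⟨z, rfl⟩ := exists_redι_eq hx
      exact ⟨z, hx⟩
    · rintro u v hu hv ⟨a, -, hau⟩ ⟨b, -, hbv⟩
      obtain ⟨u', hu', rfl⟩ := he.isInducing.isOpen_iff.1 hu
      obtain ⟨v', hv', rfl⟩ := he.isInducing.isOpen_iff.1 hv
      obtain ⟨x, hx, hxu, hxv⟩ := hZ.2 u' v' hu' hv' ⟨_, redι_mem Z a, hau⟩ ⟨_, redι_mem Z b, hbv⟩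
      obtain ⟨z, rfl⟩ := exists_redι_eq hx
      exact ⟨z, hx, hxu, hxv⟩
  exact { isPreirreducible_univ := this.2, toNonempty := ⟨this.1.choose⟩ }

theorem exists_affineOpen' [X.IsSeparated]
    (hX : (irreducibleComponents (X : Type u)).Finite) (T : Finset X)
    (hN : ∀ x ∈ T, IsNoetherianRing (X.presheaf.stalk x))
    (hT : ∀ x ∈ T, ringKrullDim (X.presheaf.stalk x) ≤ 1) :
    ∃ U : X.Opens, IsAffineOpen U ∧ ∀ x ∈ T, x ∈ U := by
  classical
  have := hX.to_subtype
  refine exists_affine (fun Z : irreducibleComponents (X : Type u) =>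
    (⟨Z.1, isClosed_of_mem_irreducibleComponents Z.1 Z.2⟩ : Closeds X)) (fun x => ?_) T fun Z => ?_
  · obtain ⟨C, hC, hsub⟩ := exists_mem_irreducibleComponents_subset_of_isIrreducible
      (closure {x}) isIrreducible_singleton.closure
    exact ⟨⟨C, hC⟩, hsub (subset_closure rfl)⟩
  · let Zc : Closeds X := ⟨Z.1, isClosed_of_mem_irreducibleComponents Z.1 Z.2⟩
    have := isReduced_red Zc
    have := irreducibleSpace_red Zc Z.2.1
    have : IsIntegral (red Zc) := isIntegral_of_irreducibleSpace_of_isReduced _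
    have : (red Zc).IsSeparated := ⟨by
      rw [← Limits.terminal.comp_from (redι Zc)]; infer_instance⟩
    let TZ := (T.finite_toSet.preimage
      ((redι Zc).isClosedEmbedding.injective.injOn (s := redι Zc ⁻¹' (T : Set X)))).toFinset
    have hTZ : ∀ z, z ∈ TZ ↔ redι Zc z ∈ T := fun z => Set.Finite.mem_toFinset _
    obtain ⟨V, hV, hTV⟩ := IntegralFinite.exists_affineOpen' (X := red Zc) TZ (fun z hz =>
      haveI := hN _ ((hTZ z).1 hz); isNoetherianRing_of_surjective _ _ _ ((redι Zc).stalkMap_surjective z)) fun z hz =>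
      (ringKrullDim_le_of_surjective _ ((redι Zc).stalkMap_surjective z)).trans (hT _ ((hTZ z).1 hz))
    obtain ⟨U, hU⟩ := exists_open_preimage Zc V
    refine ⟨U, hU.symm ▸ hV, fun t ht htZ => ?_⟩
    obtain ⟨z, rfl⟩ := exists_redι_eq (Z := Zc) htZ
    exact (mem_preimage_iff Zc U z).1 (hU.symm ▸ hTV z ((hTZ z).2 ht))

theorem exists_affineOpen [X.IsSeparated] [IsLocallyNoetherian X]
    (hX : (irreducibleComponents (X : Type u)).Finite) (T : Finset X)
    (hT : ∀ x ∈ T, ringKrullDim (X.presheaf.stalk x) ≤ 1) :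
    ∃ U : X.Opens, IsAffineOpen U ∧ ∀ x ∈ T, x ∈ U :=
  exists_affineOpen' hX T (fun _ _ => inferInstance) hT

end Groth.Agent.H97.FiniteAffine
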