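import Groth.Agent.H97.DimOneLocal
import Groth.Agent.Lib.Excellent.Nagata
import Groth.Agent.Lib.Excellent.Transport
import Mathlib.RingTheory.Spectrum.Prime.RingHom
import Mathlib.RingTheory.IntegralClosure.IntegrallyClosed
import Mathlib.RingTheory.Localization.FractionRing
import Mathlib.RingTheory.Length

/-! The normalisation of a reduced Noetherian ring in its total ring of fractions is the product of
the normalisations of its irreducible components. -/

set_option autoImplicit false
universe u

namespace Groth.Agent.H97.TotalNorm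

open scoped nonZeroDivisors

variable (A : Type u) [CommRing A]

local notation "T" => FractionRing A

/-- The minimal primes. -/
abbrev MP := {p : PrimeSpectrum A // p.asIdeal ∈ minimalPrimes A}

variable {A}

/-- The function field of a component. -/
abbrev K (p : MP A) := FractionRing (A ⧸ p.1.asIdeal)

theorem isUnit_algebraMap_K (p : MP A) (s : A⁰) : IsUnit (algebraMap A (K p) s) := by
  rw [IsScalarTower.algebraMap_apply A (A ⧸ p.1.asIdeal) (K p), isUnit_iff_ne_zero,
    map_ne_zero_iff _ (IsFractionRing.injective _ _), Ideal.Quotient.algebraMap_eq, Ne,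
    Ideal.Quotient.eq_zero_iff_mem]
  exact fun h => (Ideal.disjoint_nonZeroDivisors_of_mem_minimalPrimes p.2).le_bot ⟨h, s.2⟩

/-- Projection of the total ring of fractions to a component. -/
noncomputable def toK (p : MP A) : T →ₐ[A] K p :=
  IsLocalization.liftAlgHom (M := A⁰) (f := Algebra.ofId A (K p)) fun s => isUnit_algebraMap_K p s

/-- The total ring of fractions to the product of the function fields. -/
noncomputable def toPi : T →ₐ[A] Π p : MP A, K p :=
  Pi.algHom A _ toK

theorem toPi_injective [IsReduced A] : Function.Injective (toPi (A := A)) := by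
  rw [injective_iff_map_eq_zero]
  intro x hx
  obtain ⟨⟨a, s⟩, has⟩ := IsLocalization.surj A⁰ x
  have h0 : ∀ p : MP A, a ∈ p.1.asIdeal := fun p => by
    have h1 := congrArg (fun z : T => toPi z p) has
    simp only [map_mul, Pi.mul_apply, hx, Pi.zero_apply, zero_mul] at h1
    rw [AlgHom.commutes, Pi.algebraMap_apply, IsScalarTower.algebraMap_apply A (A ⧸ p.1.asIdeal),
      eq_comm, map_eq_zero_iff _ (IsFractionRing.injective _ _), Ideal.Quotient.algebraMap_eq,
      Ideal.Quotient.eq_zero_iff_mem] at h1
    exact h1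
  have ha : a = 0 := by
    have : a ∈ nilradical A := by
      rw [nilradical, ← Ideal.sInf_minimalPrimes, Ideal.mem_sInf]
      exact fun q hq => h0 ⟨⟨q, hq.1.1⟩, hq⟩
    exact (mem_nilradical.1 this).eq_zero
  simp only [ha, map_zero] at has
  exact (IsLocalization.map_units T s).mul_left_eq_zero.1 has

theorem toPi_surjective [IsReduced A] [IsNoetherianRing A] :
    Function.Surjective (toPi (A := A)) := by
  classical
  intro x
  haveI := DimOneLocal.finite_minimal A
  cases nonempty_fintype (MP A)
  choose e he he0 using fun p : MP A => DimOneLocal.exists_idempotent_like p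
  have heq : ∀ p q : MP A, q ≠ p → e p ∈ q.1.asIdeal := fun p q hqp => by
    have h := he0 p q hqp
    rw [IsLocalization.map_eq_zero_iff q.1.asIdeal.primeCompl] at h
    obtain ⟨s, hs⟩ := h
    exact (q.1.isPrime.mem_or_mem (hs.symm ▸ q.1.asIdeal.zero_mem)).resolve_left s.2
  choose a b hb hab using fun p => IsFractionRing.div_surjective (A ⧸ p.1.asIdeal) (x p)
  choose a' ha' using fun p => Ideal.Quotient.mk_surjective (a p)
  choose b' hb' using fun p => Ideal.Quotient.mk_surjective (b p)
  have hbq : ∀ p, b' p ∉ p.1.asIdeal := fun p h =>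
    nonZeroDivisors.ne_zero (hb p) (hb' p ▸ Ideal.Quotient.eq_zero_iff_mem.2 h)
  have hsum : ∀ (c : MP A → A) (q : MP A),
      Ideal.Quotient.mk q.1.asIdeal (∑ p, e p * c p) = Ideal.Quotient.mk q.1.asIdeal (e q * c q) := by
    intro c q
    rw [map_sum]
    refine Finset.sum_eq_single q (fun p _ hpq => ?_) (by simp)
    exact Ideal.Quotient.eq_zero_iff_mem.2 (Ideal.mul_mem_right _ _ (heq p q hpq.symm))
  have hden : (∑ p, e p * b' p) ∈ A⁰ := by
    rw [mem_nonZeroDivisors_iff_right]
    intro y hy
    have : y ∈ nilradical A := by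
      rw [nilradical, ← Ideal.sInf_minimalPrimes, Ideal.mem_sInf]
      intro q hq
      let q' : MP A := ⟨⟨q, hq.1.1⟩, hq⟩
      refine (q'.1.isPrime.mem_or_mem (hy.symm ▸ q.zero_mem)).resolve_right fun h => ?_
      have h' : Ideal.Quotient.mk q'.1.asIdeal (e q' * b' q') = 0 := by
        rw [← hsum b' q']; exact Ideal.Quotient.eq_zero_iff_mem.2 h
      exact (q'.1.isPrime.mem_or_mem (Ideal.Quotient.eq_zero_iff_mem.1 h')).elim (he q') (hbq q')
    exact (mem_nilradical.1 this).eq_zero
  refine ⟨IsLocalization.mk' T (∑ p, e p * a' p) ⟨_, hden⟩, funext fun q => ?_⟩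
  have hu := isUnit_algebraMap_K q ⟨_, hden⟩
  refine hu.mul_left_injective ?_
  show toPi (IsLocalization.mk' T _ ⟨_, hden⟩) q * algebraMap A (K q) _ = x q * algebraMap A (K q) _
  have h1 := congrArg (fun z : T => toPi z q)
    (IsLocalization.mk'_spec T (∑ p, e p * a' p) ⟨_, hden⟩)
  simp only [map_mul, Pi.mul_apply, AlgHom.commutes, Pi.algebraMap_apply] at h1
  rw [h1, IsScalarTower.algebraMap_apply A (A ⧸ q.1.asIdeal) (K q),
    IsScalarTower.algebraMap_apply A (A ⧸ q.1.asIdeal) (K q) (∑ p, e p * b' p),
    Ideal.Quotient.algebraMap_eq, hsum, hsum, map_mul, map_mul, map_mul, map_mul, ha', hb', ← hab q]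
  field_simp [(map_ne_zero_iff _ (IsFractionRing.injective (A ⧸ q.1.asIdeal) (K q))).2
    (nonZeroDivisors.ne_zero (hb q))]

theorem isIntegral_pi {R ι : Type*} [CommRing R] [Finite ι] {B : ι → Type*} [∀ i, CommRing (B i)]
    [∀ i, Algebra R (B i)] {x : Π i, B i} (h : ∀ i, IsIntegral R (x i)) : IsIntegral R x := by
  classical
  cases nonempty_fintype ι
  choose f hf hfx using h
  refine ⟨∏ i, f i, Polynomial.monic_prod_of_monic _ _ fun i _ => hf i, funext fun i => ?_⟩
  rw [← Polynomial.aeval_def, show (Polynomial.aeval x (∏ j, f j)) i =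
      Pi.evalAlgHom R B i (Polynomial.aeval x (∏ j, f j)) from rfl,
    ← Polynomial.aeval_algHom_apply, map_prod]
  exact Finset.prod_eq_zero (Finset.mem_univ i) (hfx i)

/-- The normalisation of a component. -/
abbrev C (p : MP A) := integralClosure (A ⧸ p.1.asIdeal) (K p)

/-- The normalisation maps to the product of the normalisations of the components. -/
noncomputable def toC : integralClosure A T →ₐ[A] Π p : MP A, C p :=
  Pi.algHom A _ fun p =>
    AlgHom.codRestrict ((toK p).comp (integralClosure A T).val)
      ((integralClosure (A ⧸ p.1.asIdeal) (K p)).restrictScalars A) fun x =>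
        (x.2.map (toK p)).tower_top (R := A) (A := A ⧸ p.1.asIdeal)

theorem toC_bijective [IsReduced A] [IsNoetherianRing A] :
    Function.Bijective (toC (A := A)) := by
  haveI := DimOneLocal.finite_minimal A
  constructor
  · intro x y h
    refine Subtype.ext (toPi_injective (funext fun p => ?_))
    exact congrArg Subtype.val (congrFun h p)
  · intro c
    obtain ⟨x, hx⟩ := toPi_surjective (fun p => (c p : K p))
    refine ⟨⟨x, ?_⟩, funext fun p => Subtype.ext (congrFun hx p)⟩
    refine (isIntegral_algHom_iff toPi toPi_injective).1 ?_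
    rw [hx]
    exact isIntegral_pi fun p => isIntegral_trans (A := A ⧸ p.1.asIdeal) _ (c p).2

theorem finite_integralClosure [IsReduced A] (hN : CAlg.IsNagata A) :
    Module.Finite A (integralClosure A T) := by
  haveI := hN.1
  haveI := DimOneLocal.finite_minimal A
  haveI : ∀ p : MP A, Module.Finite A (C p) := fun p => by
    haveI : Module.Finite (A ⧸ p.1.asIdeal) (C p) :=
      hN.2 p.1.asIdeal (K p) inferInstance
    exact Module.Finite.trans (A ⧸ p.1.asIdeal) _
  exact Module.Finite.equiv (AlgEquiv.ofBijective toC toC_bijective).symm.toLinearEquiv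

theorem isDomain_intClosed_atPrime [IsReduced A] [IsNoetherianRing A]
    (P : Ideal (integralClosure A T)) [P.IsPrime] :
    IsDomain (Localization.AtPrime P) ∧ IsIntegrallyClosed (Localization.AtPrime P) := by
  haveI := DimOneLocal.finite_minimal A
  let e := (AlgEquiv.ofBijective (toC (A := A)) toC_bijective).toRingEquiv
  let Q : Ideal (Π p : MP A, C p) := P.comap (e.symm : (Π p : MP A, C p) →+* _)
  obtain ⟨i, q, hq⟩ := PrimeSpectrum.exists_comap_evalRingHom_eq
    (⟨Q, inferInstance⟩ : PrimeSpectrum (Π p : MP A, C p))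
  have hQ : q.asIdeal.comap (Pi.evalRingHom (fun p : MP A => ↥(C p)) i) = Q :=
    congrArg PrimeSpectrum.asIdeal hq
  have hP : P.primeCompl.map e.toMonoidHom =
      (q.asIdeal.comap (Pi.evalRingHom (fun p : MP A => ↥(C p)) i)).primeCompl := by
    ext z
    rw [Submonoid.mem_map]
    simp only [Ideal.mem_primeCompl_iff, hQ]
    constructor
    · rintro ⟨w, hw, rfl⟩
      show ¬ e.symm (e w) ∈ P
      rwa [RingEquiv.symm_apply_apply]
    · exact fun hz => ⟨e.symm z, hz, e.apply_symm_apply z⟩
  let e₁ : Localization.AtPrime P ≃+*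
      Localization.AtPrime (q.asIdeal.comap (Pi.evalRingHom (fun p : MP A => ↥(C p)) i)) :=
    IsLocalization.ringEquivOfRingEquiv _ _ e hP
  let e₂ := RingEquiv.ofBijective _ (Localization.AtPrime.mapPiEvalRingHom_bijective
    (R := fun p : MP A => ↥(C p)) q.asIdeal)
  let e₃ : Localization.AtPrime q.asIdeal ≃+* Localization.AtPrime P := (e₁.trans e₂).symm
  refine Groth.Agent.Lib.Excellent.Transport.isDomain_intClosed_of_ringEquiv
    (R := Localization.AtPrime q.asIdeal) (S := Localization.AtPrime P) (by exact e₃) ?_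
  haveI : IsIntegrallyClosed (C i) := integralClosure.isIntegrallyClosedOfFiniteExtension (K i)
  exact ⟨inferInstance, isIntegrallyClosed_of_isLocalization _ q.asIdeal.primeCompl
    q.asIdeal.primeCompl_le_nonZeroDivisors⟩

theorem deltaInv_lt_top [IsLocalRing A] [IsNoetherianRing A] [Ring.KrullDimLE 1 A]
    (h : Module.Finite A (integralClosure A T)) :
    Module.length A (↥(integralClosure A T) ⧸
      LinearMap.range (Algebra.linearMap A ↥(integralClosure A T))) < ⊤ := by
  let M := ↥(integralClosure A T) ⧸ LinearMap.range (Algebra.linearMap A ↥(integralClosure A T))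
  haveI : Module.Finite A M := Module.Finite.quotient _ _
  have hann : ∀ p : MP A, ¬ Module.annihilator A M ≤ p.1.asIdeal := by
    intro p hle
    obtain ⟨G, hG⟩ := h.1
    classical
    obtain ⟨s, hs⟩ := IsLocalization.exist_integer_multiples_of_finset A⁰
      (G.image fun g : integralClosure A T => (g : T))
    have hsann : (s : A) ∈ Module.annihilator A M := by
      have hle' : ⊤ ≤ (LinearMap.range (Algebra.linearMap A ↥(integralClosure A T))).comap
          (LinearMap.lsmul A _ (s : A)) := by
        rw [← hG, Submodule.span_le]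
        intro g hg
        obtain ⟨a, ha⟩ := hs g (Finset.mem_image_of_mem _ hg)
        exact ⟨a, Subtype.ext (by simpa using ha)⟩
      rw [Module.mem_annihilator]
      intro m
      obtain ⟨m, rfl⟩ := Submodule.Quotient.mk_surjective _ m
      rw [← Submodule.Quotient.mk_smul, Submodule.Quotient.mk_eq_zero]
      exact hle' (Submodule.mem_top : m ∈ (⊤ : Submodule A (integralClosure A T)))
    exact (Ideal.disjoint_nonZeroDivisors_of_mem_minimalPrimes p.2).le_bot ⟨hle hsann, s.2⟩
  obtain ⟨N, hN⟩ := DimOneLocal.exists_pow_maximalIdeal_le hann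
  refine lt_top_iff_ne_top.2 ?_
  rw [Module.length_ne_top_iff, isFiniteLength_iff_isNoetherian_isArtinian]
  refine ⟨inferInstance, ?_⟩
  let I := IsLocalRing.maximalIdeal A ^ N
  have hI : Module.IsTorsionBySet A M (I : Set A) := fun m r =>
    Module.mem_annihilator.1 (hN r.2) m
  letI := hI.module
  haveI : IsArtinianRing (A ⧸ I) := by
    haveI : Ring.KrullDimLE 0 (A ⧸ I) := by
      refine Ring.krullDimLE_zero_iff.2 fun J hJ => ?_
      haveI : (J.comap (Ideal.Quotient.mk I)).IsPrime := inferInstance
      have hm : J.comap (Ideal.Quotient.mk I) = IsLocalRing.maximalIdeal A := by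
        refine le_antisymm (IsLocalRing.le_maximalIdeal (Ideal.IsPrime.ne_top ‹_›)) ?_
        refine Ideal.IsPrime.le_of_pow_le (n := N) fun r hr => ?_
        rw [Ideal.mem_comap, Ideal.Quotient.eq_zero_iff_mem.2 hr]
        exact J.zero_mem
      exact Ideal.map_comap_of_surjective _ Ideal.Quotient.mk_surjective J ▸
        (Ideal.map_eq_top_or_isMaximal_of_surjective _ Ideal.Quotient.mk_surjective
          (hm ▸ IsLocalRing.maximalIdeal.isMaximal A)).resolve_left
          (by rw [Ideal.map_comap_of_surjective _ Ideal.Quotient.mk_surjective]; exact hJ.ne_top)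
    exact IsNoetherianRing.isArtinianRing_of_krullDimLE_zero
  haveI : IsScalarTower A (A ⧸ I) M := hI.isScalarTower
  haveI : Module.Finite (A ⧸ I) M := Module.Finite.of_restrictScalars_finite A _ _
  exact isArtinian_of_surjective_algebraMap (R := A ⧸ I) Ideal.Quotient.mk_surjective

end Groth.Agent.H97.TotalNorm
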