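import Groth.Prelude.Def_Brnch
import Groth.Prelude.Def_Curv2
import Groth.Agent.H97.TotalNorm
import Mathlib.RingTheory.Ideal.Quotient.Operations
import Mathlib.RingTheory.QuasiFinite.Basic
import Mathlib.LinearAlgebra.FreeModule.Finite.Matrix
import Mathlib.RingTheory.Length

/-! Geometric branches are bounded by the δ-invariant plus one. -/

set_option autoImplicit false
universe u

namespace Groth.Agent.H97.Branches

open IsLocalRing

theorem sum_length_le {A R : Type u} [CommRing A] [IsLocalRing A] [CommRing R] [Algebra A R]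
    (S : Finset (MaximalSpectrum R))
    (hS : ∀ q ∈ S, (maximalIdeal A).map (algebraMap A R) ≤ q.asIdeal) :
    ∑ q ∈ S, Module.length A (R ⧸ q.asIdeal) ≤
      Module.length A (R ⧸ LinearMap.range (Algebra.linearMap A R)) + 1 := by
  classical
  let π : R →ₗ[A] Π q : S, R ⧸ q.1.asIdeal :=
    LinearMap.pi fun q => ((Ideal.Quotient.mkₐ A q.1.asIdeal)).toLinearMap
  have hπ : Function.Surjective π := fun y => by
    obtain ⟨x, hx⟩ := Ideal.pi_quotient_surjective (I := fun q : S => q.1.asIdeal)
      (fun q q' hne => Ideal.isCoprime_of_isMaximal fun h =>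
        hne (Subtype.ext (MaximalSpectrum.ext h))) y
    exact ⟨x, funext fun q => hx q⟩
  let N := (LinearMap.range (Algebra.linearMap A R)).map π
  have h1 : Module.length A N ≤ 1 := by
    let g : A →ₗ[A] N := LinearMap.codRestrict N (π ∘ₗ Algebra.linearMap A R)
      fun a => ⟨_, ⟨a, rfl⟩, rfl⟩
    have hm : maximalIdeal A ≤ LinearMap.ker g := fun a ha => by
      apply Subtype.ext
      funext q
      show Ideal.Quotient.mk q.1.asIdeal (algebraMap A R a) = 0
      exact Ideal.Quotient.eq_zero_iff_mem.2 (hS q.1 q.2 (Ideal.mem_map_of_mem _ ha))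
    let g' := Submodule.liftQ (maximalIdeal A) g hm
    have hg' : Function.Surjective g' := by
      rintro ⟨_, _, ⟨a, rfl⟩, rfl⟩
      exact ⟨Submodule.Quotient.mk a, rfl⟩
    refine (Module.length_le_of_surjective g' hg').trans (le_of_eq ?_)
    rw [Module.length_eq_of_surjective (R := A ⧸ maximalIdeal A) Ideal.Quotient.mk_surjective]
    let := Ideal.Quotient.field (maximalIdeal A)
    rw [Module.length_eq_finrank, Module.finrank_self]
    rfl
  have h2 : Module.length A ((Π q : S, R ⧸ q.1.asIdeal) ⧸ N) ≤
      Module.length A (R ⧸ LinearMap.range (Algebra.linearMap A R)) := by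
    refine Module.length_le_of_surjective
      (Submodule.mapQ _ N π (Submodule.le_comap_map π _)) fun y => ?_
    obtain ⟨y, rfl⟩ := Submodule.Quotient.mk_surjective _ y
    obtain ⟨x, rfl⟩ := hπ y
    exact ⟨Submodule.Quotient.mk x, rfl⟩
  have h3 := Module.length_eq_add_of_exact N.subtype N.mkQ Subtype.val_injective
    (Submodule.Quotient.mk_surjective N) (LinearMap.exact_subtype_mkQ N)
  rw [← Finset.sum_coe_sort S, ← Module.length_pi_of_fintype, h3, add_comm]
  exact add_le_add h2 h1

variable (A : Type u) [CommRing A] [IsLocalRing A]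

theorem natCard_emb_le (q : MaximalSpectrum (CAlg2.normRed A))
    (hfin : Module.Finite A (CAlg2.normRed A))
    (hq : (maximalIdeal A).map (algebraMap A (CAlg2.normRed A)) ≤ q.asIdeal) :
    Finite (Brnch.Emb A q) ∧
      (Nat.card (Brnch.Emb A q) : ℕ∞) ≤
        Module.length A (CAlg2.normRed A ⧸ q.asIdeal) := by
  haveI := hfin
  let L := CAlg2.normRed A ⧸ q.asIdeal
  letI : Field L := Ideal.Quotient.field q.asIdeal
  have h0 : ∀ a ∈ maximalIdeal A, algebraMap A L a = 0 := fun a ha =>
    Ideal.Quotient.eq_zero_iff_mem.2 (hq (Ideal.mem_map_of_mem _ ha))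
  letI : Algebra (ResidueField A) L :=
    (Ideal.Quotient.lift (maximalIdeal A) (algebraMap A L) h0).toAlgebra
  haveI : IsScalarTower A (ResidueField A) L := .of_algebraMap_eq fun a => rfl
  haveI : FiniteDimensional (ResidueField A) L := Module.Finite.of_restrictScalars_finite A _ _
  let ι : Brnch.Emb A q → (L →ₐ[ResidueField A] AlgebraicClosure (ResidueField A)) := fun σ =>
    { σ.1 with
      commutes' := fun c => by
        obtain ⟨a, rfl⟩ := IsLocalRing.residue_surjective c
        exact RingHom.congr_fun σ.2 a }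
  have hι : Function.Injective ι := fun σ τ h => Subtype.ext (RingHom.ext fun x => AlgHom.congr_fun h x)
  refine ⟨Finite.of_injective ι hι, ?_⟩
  rw [Module.length_eq_of_surjective (R := ResidueField A) IsLocalRing.residue_surjective,
    Module.length_eq_finrank]
  exact_mod_cast (Nat.card_le_card_of_injective ι hι).trans (card_algHom_le_finrank _ _ _)

theorem numGeomBranches_le [IsReduced A] (hN : CAlg.IsNagata A) :
    Brnch.numGeomBranches A ≤ Curv2.deltaInv A + 1 := by
  haveI := hN.1
  classical
  rw [Brnch.numGeomBranches, if_pos (minimalPrimes.finite_of_isNoetherianRing (R := A))]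
  let R₀ := CAlg2.red A
  let T := FractionRing A
  let T₀ := FractionRing R₀
  have hinj : Function.Injective (Ideal.Quotient.mk (nilradical A)) := by
    rw [injective_iff_map_eq_zero]
    intro a ha
    exact (mem_nilradical.1 (Ideal.Quotient.eq_zero_iff_mem.1 ha)).eq_zero
  have hu : ∀ s : nonZeroDivisors A, IsUnit (algebraMap A T₀ s) := fun s => by
    rw [IsScalarTower.algebraMap_apply A R₀ T₀]
    refine IsLocalization.map_units T₀ (⟨algebraMap A R₀ s, ?_⟩ : nonZeroDivisors R₀)
    rw [mem_nonZeroDivisors_iff_right]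
    intro y hy
    obtain ⟨y, rfl⟩ := Ideal.Quotient.mk_surjective y
    rw [Ideal.Quotient.algebraMap_eq, ← map_mul] at hy
    rw [mem_nonZeroDivisors_iff_right.1 s.2 y (hinj (hy.trans (map_zero _).symm)), map_zero]
  let ε : T →ₐ[A] T₀ := IsLocalization.liftAlgHom (M := nonZeroDivisors A) (f := Algebra.ofId A T₀) hu
  have hεs : Function.Surjective ε := fun z => by
    obtain ⟨⟨x, s⟩, hs⟩ := IsLocalization.surj (nonZeroDivisors R₀) z
    obtain ⟨x', rfl⟩ := Ideal.Quotient.mk_surjective x
    obtain ⟨s', hs'⟩ := Ideal.Quotient.mk_surjective (s : R₀)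
    have hs'' : s' ∈ nonZeroDivisors A := by
      rw [mem_nonZeroDivisors_iff_right]
      intro y hy
      refine hinj ((mem_nonZeroDivisors_iff_right.1 s.2 _ ?_).trans (map_zero _).symm)
      rw [← hs', ← map_mul, hy, map_zero]
    refine ⟨IsLocalization.mk' T x' (⟨s', hs''⟩ : nonZeroDivisors A), ?_⟩
    refine (hu ⟨s', hs''⟩).mul_left_injective ?_
    show ε _ * algebraMap A T₀ s' = z * algebraMap A T₀ s'
    rw [← ε.commutes, ← map_mul, IsLocalization.mk'_spec, ε.commutes,
      ε.commutes, IsScalarTower.algebraMap_apply A R₀ T₀, IsScalarTower.algebraMap_apply A R₀ T₀ s',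
      Ideal.Quotient.algebraMap_eq, hs']
    exact hs.symm
  have hεi : Function.Injective ε := by
    rw [injective_iff_map_eq_zero]
    intro z hz
    obtain ⟨⟨x, s⟩, hs⟩ := IsLocalization.surj (nonZeroDivisors A) z
    have := congrArg ε hs
    rw [map_mul, hz, zero_mul, ε.commutes, IsScalarTower.algebraMap_apply A R₀ T₀, eq_comm,
      map_eq_zero_iff _ (IsFractionRing.injective R₀ T₀), Ideal.Quotient.algebraMap_eq,
      map_eq_zero_iff _ hinj] at this
    exact (IsLocalization.map_units T s).mul_left_eq_zero.1 (hs.trans (by rw [this, map_zero]))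
  let φ : integralClosure A T →ₐ[A] CAlg2.normRed A :=
    AlgHom.codRestrict (ε.comp (integralClosure A T).val)
      ((integralClosure R₀ T₀).restrictScalars A) fun x => (x.2.map ε).tower_top (R := A) (A := R₀)
  have hφ : Function.Surjective φ := fun y => by
    obtain ⟨x, hx⟩ := hεs (y : T₀)
    refine ⟨⟨x, (isIntegral_algHom_iff ε hεi).1 ?_⟩, Subtype.ext hx⟩
    rw [hx]
    exact isIntegral_trans (A := R₀) _ y.2
  haveI hfin : Module.Finite A (CAlg2.normRed A) :=
    haveI := TotalNorm.finite_integralClosure hN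
    Module.Finite.of_surjective φ.toLinearMap hφ
  have hq : ∀ q : MaximalSpectrum (CAlg2.normRed A),
      (maximalIdeal A).map (algebraMap A (CAlg2.normRed A)) ≤ q.asIdeal := fun q => by
    haveI := q.isMaximal
    rw [Ideal.map_le_iff_le_comap, ← IsLocalRing.eq_maximalIdeal
      (Ideal.isMaximal_comap_of_isIntegral_of_isMaximal (R := A) q.asIdeal)]
  haveI : Finite (MaximalSpectrum (CAlg2.normRed A)) := by
    haveI := (Algebra.QuasiFinite.finite_primesOver (S := CAlg2.normRed A) (maximalIdeal A)).to_subtype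
    refine Finite.of_injective (fun q : MaximalSpectrum (CAlg2.normRed A) =>
      (⟨q.asIdeal, q.isMaximal.isPrime, ⟨(IsLocalRing.eq_maximalIdeal ?_).symm⟩⟩ :
        (maximalIdeal A).primesOver (CAlg2.normRed A))) fun q q' h =>
          MaximalSpectrum.ext (congrArg Subtype.val h)
    haveI := q.isMaximal
    exact Ideal.isMaximal_comap_of_isIntegral_of_isMaximal q.asIdeal
  cases nonempty_fintype (MaximalSpectrum (CAlg2.normRed A))
  have hemb := fun q => natCard_emb_le A q hfin (hq q)
  haveI : ∀ q, Finite (Brnch.Emb A q) := fun q => (hemb q).1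
  rw [ENat.card_eq_coe_natCard, Nat.card_sigma, Nat.cast_sum]
  refine (Finset.sum_le_sum fun q _ => (hemb q).2).trans
    ((sum_length_le Finset.univ fun q _ => hq q).trans (add_le_add ?_ le_rfl))
  refine Module.length_le_of_surjective (Submodule.mapQ _ _ φ.toLinearMap ?_) fun y => ?_
  · rintro _ ⟨a, rfl⟩
    exact ⟨a, (φ.commutes a).symm⟩
  · obtain ⟨y, rfl⟩ := Submodule.Quotient.mk_surjective _ y
    obtain ⟨x, rfl⟩ := hφ y
    exact ⟨Submodule.Quotient.mk x, rfl⟩

end Groth.Agent.H97.Branches
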