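import Groth.Agent.H97.GlueLine
import Groth.Agent.H97.PuncturedNbhd
import Groth.Agent.Lib.Ample.GenLocus
import Groth.Agent.Lib.TensorMod.FibreTriv
import Groth.Agent.Lib.TensorMod.LocFree
import Groth.Agent.Lib.SchTopo.Basic
import Mathlib.AlgebraicGeometry.Morphisms.Finite
import Mathlib.Topology.NoetherianSpace

/-! Invertible modules on a finite scheme over a one-dimensional base, isomorphic to a closed
subscheme over a dense open, come from the base. -/

set_option autoImplicit false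
universe u
open CategoryTheory AlgebraicGeometry TopologicalSpace

namespace Groth.Agent.H97.PullbackLine

open Groth.Agent.Lib.TensorMod Groth.Agent.Lib.TensorMod.Dual Groth.Agent.Lib.TensorMod.Gen
open Groth.Agent.Lib.TensorMod.Pullback Groth.Agent.Lib.Ample.GenLocus
open Groth.Agent.H97.GlueLine Groth.Agent.H97.PuncturedNbhd Groth.Agent.H97.AffineImages

theorem isGen_of_isBasis {Y : Scheme.{u}} {M : Y.Modules} {U : Y.Opens} {e : Fin 1 → Γ(M, U)}
    (he : Basis.IsBasis e) : IsGen M U (e 0) := fun V hV => by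
  have h : (fun a : Γ(Y, V) => a • rs M hV (e 0)) = Basis.comb e hV ∘ fun a _ => a := funext fun a => by
    simp [Basis.comb]
  rw [h]
  exact (he V hV).comp ⟨fun a b h => congrFun h 0, fun g => ⟨g 0, funext fun i => by rw [Fin.fin_one_eq_zero i]⟩⟩

/-- A glued module pulls back to a module with the same transition functions. -/
theorem nonempty_pullback_glue_iso {X Y : Scheme.{u}} (f : X ⟶ Y) {ι : Type u} {U : ι → Y.Opens}
    (hU : iSup U = ⊤) (c : Cocycle U) (L : X.Modules) (l : ∀ i, Γ(L, f ⁻¹ᵁ U i))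
    (hl : ∀ i, IsGen L (f ⁻¹ᵁ U i) (l i))
    (hc : ∀ i j, rs L (fun _ hx => hx.2 : f ⁻¹ᵁ (U i ⊓ U j) ≤ f ⁻¹ᵁ U j) (l j) =
      f.app (U i ⊓ U j) (c.u i j) •
        rs L (fun _ hx => hx.1 : f ⁻¹ᵁ (U i ⊓ U j) ≤ f ⁻¹ᵁ U i) (l i)) :
    Nonempty ((Scheme.Modules.pullback f).obj (glue c) ≅ L) := by
  have hU' : ⨆ i, f ⁻¹ᵁ U i = ⊤ := top_unique fun x _ => by
    obtain ⟨i, hi⟩ := Opens.mem_iSup.1 (show f x ∈ iSup U by rw [hU]; trivial)
    exact Opens.mem_iSup.2 ⟨i, hi⟩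
  obtain ⟨φ, -⟩ := HomGlue.exists_iso_of_gen (L := (pb f).obj (glue c)) (M := L) hU'
    (fun i => unitSec f _ (gen c i)) (fun i => isGen_unitSec f (isGen_gen c i)) l hl
    fun i j T hi hj a ha => by
      have hT : T ≤ f ⁻¹ᵁ (U j ⊓ U i) := fun x hx => ⟨hj hx, hi hx⟩
      have h1 : rs ((pb f).obj (glue c)) hi (unitSec f _ (gen c i)) =
          rf hT (f.app _ (c.u j i)) • rs ((pb f).obj (glue c)) hj (unitSec f _ (gen c j)) := by
        have h2 := congrArg (unitSec f (glue c))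
          (rs_gen c j i (inf_le_left : U j ⊓ U i ≤ U j) inf_le_right)
        rw [← unitSec_rs, unitSec_smul, ← unitSec_rs] at h2
        have h3 := congrArg (rs ((pb f).obj (glue c)) hT) h2
        rw [rs_rs, rs_smul, rs_rs] at h3
        rw [show c.u j i = c.tr j i (inf_le_left : U j ⊓ U i ≤ U j) inf_le_right from
          (rf_self _ _).symm]
        exact h3
      have ha' : a = rf hT (f.app _ (c.u j i)) :=
        (isGen_unitSec f (isGen_gen c j) T hj).1 (ha.symm.trans h1)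
      have h4 := congrArg (rs L hT) (hc j i)
      rw [rs_rs, rs_smul, rs_rs] at h4
      rw [ha']
      exact h4
  exact ⟨φ⟩

theorem app_surjective_of_restrict {X Y : Scheme.{u}} (f : X ⟶ Y) (V : Y.Opens)
    [IsClosedImmersion (f ∣_ V)] {D : Y.Opens} (hD : IsAffineOpen D) (hle : D ≤ V) :
    Function.Surjective (f.app D) := by
  obtain ⟨D', rfl⟩ : ∃ D' : V.toScheme.Opens, V.ι ''ᵁ D' = D :=
    ⟨V.ι ⁻¹ᵁ D, by
      rw [Scheme.Hom.image_preimage_eq_opensRange_inf, Scheme.Opens.opensRange_ι]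
      exact inf_eq_right.2 hle⟩
  have hD' : IsAffineOpen D' := (V.ι.isAffineOpen_iff_of_isOpenImmersion).1 hD
  intro z
  obtain ⟨y, hy⟩ := (f ∣_ V).app_surjective D' hD'
    (X.presheaf.map (eqToHom (image_morphismRestrict_preimage f V D')).op z)
  rw [morphismRestrict_app] at hy
  exact ⟨y, ((ConcreteCategory.bijective_of_isIso
    (X.presheaf.map (eqToHom (image_morphismRestrict_preimage f V D')).op)).1 hy)⟩

theorem chain_false {Y : Scheme.{u}} (hdim : topologicalKrullDim Y ≤ 1) {z y w : Y} (h1 : y ⤳ z)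
    (n1 : y ≠ z) (h2 : w ⤳ y) (n2 : w ≠ y) : False := by
  have hlt1 : z < y := lt_of_le_not_ge h1 fun h => n1 ((show z ⤳ y from h).antisymm h1).eq.symm
  have hlt2 : y < w := lt_of_le_not_ge h2 fun h => n2 ((show y ⤳ w from h).antisymm h2).eq.symm
  let q : LTSeries Y := (RelSeries.singleton _ w).cons y hlt2
  let p : LTSeries Y := q.cons z (by simpa [q] using hlt1)
  have := (Order.LTSeries.length_le_krullDim p).trans
    ((Groth.Agent.Lib.SchTopo.Basic.topologicalKrullDim_eq_krullDim_scheme Y).ge.trans hdim)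
  exact absurd this (by simp [p, q])

/-- A unit on the preimage lifts to a function invertible at prescribed pairwise non-specialising
points, along a map closed over an affine open. -/
theorem exists_lift_unit {X Y : Scheme.{u}} (f : X ⟶ Y) [IsFinite f] {D : Y.Opens}
    (hD : IsAffineOpen D) (hsurj : Function.Surjective (f.app D)) (T : Finset Y)
    (hTD : ∀ η ∈ T, η ∈ D) (hanti : ∀ η ∈ T, ∀ ξ ∈ T, η ⤳ ξ → η = ξ)
    (u : Γ(X, f ⁻¹ᵁ D)) (hu : IsUnit u) :
    ∃ v : Γ(Y, D), f.app D v = u ∧ ∀ η ∈ T, η ∈ Y.basicOpen v := by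
  classical
  obtain ⟨v, hv⟩ := hsurj u
  let good := T.filter fun η => η ∈ Y.basicOpen v
  let bad := T.filter fun η => η ∉ Y.basicOpen v
  let I : Ideal Γ(Y, D) := RingHom.ker (f.app D).hom ⊓ ⨅ (η : Y) (h : η ∈ good),
    pt η (hTD η (Finset.mem_filter.1 h).1)
  have hbad : ∀ η ∈ bad, η ∉ Set.range f := by
    rintro _ hη ⟨x, rfl⟩
    obtain ⟨hηT, hn⟩ := Finset.mem_filter.1 hη
    refine hn ?_
    show x ∈ f ⁻¹ᵁ Y.basicOpen v
    rw [Scheme.preimage_basicOpen, hv, X.basicOpen_of_isUnit hu]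
    exact hTD _ hηT
  obtain ⟨i, hi, hib⟩ := exists_mem_forall_basicOpen I bad fun η hη => by
    obtain ⟨hηT, hn⟩ := Finset.mem_filter.1 hη
    let O : Y.Opens := ⟨(Set.range f)ᶜ ∩ (⋃ ξ ∈ good, closure {ξ})ᶜ,
      f.isClosedMap.isClosed_range.isOpen_compl.inter
        ((good.finite_toSet.isClosed_biUnion fun _ _ => isClosed_closure).isOpen_compl)⟩
    have hηO : η ∈ O := by
      refine ⟨hbad η hη, ?_⟩
      simp only [Set.mem_compl_iff, Set.mem_iUnion, not_exists]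
      intro ξ hξ hm
      obtain ⟨hξT, hξv⟩ := Finset.mem_filter.1 hξ
      exact hn (hanti ξ hξT η hηT (specializes_iff_mem_closure.2 hm) ▸ hξv)
    obtain ⟨g, hgO, hηg⟩ := hD.exists_basicOpen_le (⟨η, hηO⟩ : O) (hTD η hηT)
    have hg0 : X.basicOpen (f.app D g) = ⊥ := by
      rw [← Scheme.preimage_basicOpen, eq_bot_iff]
      exact fun x hx => (hgO hx).1 ⟨x, rfl⟩
    obtain ⟨n, hn'⟩ := (X.isNilpotent_iff_basicOpen_eq_bot_of_isCompact (hD.preimage f).isCompact _).2 hg0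
    refine ⟨g ^ (n + 1), ⟨?_, ?_⟩, by rw [Y.basicOpen_pow _ (Nat.succ_pos n : 0 < n + 1)]; exact hηg⟩
    · show f.app D (g ^ (n + 1)) = 0
      rw [map_pow, pow_succ, hn', zero_mul]
    · simp only [SetLike.mem_coe, Ideal.mem_iInf]
      intro ξ hξ
      refine Ideal.pow_mem_of_mem _ ?_ _ n.succ_pos
      by_contra h
      have := hgO ((mem_basicOpen_iff_notMem g ξ _).2 h)
      exact this.2 (Set.mem_biUnion hξ (subset_closure rfl))
  obtain ⟨hik, hig⟩ := hi
  refine ⟨v + i, by rw [map_add, hv, show f.app D i = 0 from hik, add_zero], fun η hη => ?_⟩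
  rw [mem_basicOpen_iff_notMem _ η (hTD η hη)]
  intro hm
  simp only [SetLike.mem_coe, Ideal.mem_iInf] at hig
  by_cases h : η ∈ Y.basicOpen v
  · have h1 := hig η (Finset.mem_filter.2 ⟨hη, h⟩)
    exact (mem_basicOpen_iff_notMem v η (hTD η hη)).1 h
      (by simpa using sub_mem hm h1)
  · have h1 : v ∈ pt η (hTD η hη) := by
      by_contra h2
      exact h ((mem_basicOpen_iff_notMem v η (hTD η hη)).2 h2)
    exact (mem_basicOpen_iff_notMem i η (hTD η hη)).1 (hib η (Finset.mem_filter.2 ⟨hη, h⟩))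
      (by simpa using sub_mem hm h1)

theorem exists_pullback_iso {X Y : Scheme.{u}} (f : X ⟶ Y) [IsFinite f] [NoetherianSpace Y]
    (hdim : topologicalKrullDim Y ≤ 1) (V : Y.Opens) (hV : Dense (V : Set Y))
    (hfV : IsClosedImmersion (f ∣_ V)) (L : X.Modules) (hL : PicF.IsInvertible L) :
    ∃ N : Y.Modules, PicF.IsInvertible N ∧ Nonempty ((Scheme.Modules.pullback f).obj N ≅ L) := by
  classical
  let C : Set (Set Y) := irreducibleComponents (Y : Type u)
  have hC : C.Finite := NoetherianSpace.finite_irreducibleComponents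
  let G := {η : Y // IsGen η}
  have : Finite G := by
    have : Finite C := hC.to_subtype
    refine Finite.of_injective (fun η : G => (⟨closure {η.1}, η.2⟩ : C)) fun a b h => Subtype.ext ?_
    have h' := congrArg Subtype.val h
    exact ((specializes_iff_closure_subset.2 h'.ge).antisymm (specializes_iff_closure_subset.2 h'.le)).eq
  let P : G → Y.Opens := fun η =>
    ⟨(⋃ ξ ∈ {ξ : G | ξ ≠ η}, closure {ξ.1})ᶜ,
      ((Set.toFinite _).isClosed_biUnion fun _ _ => isClosed_closure).isOpen_compl⟩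
  have hP : ∀ η : G, η.1 ∈ P η := fun η => by
    show η.1 ∉ ⋃ ξ ∈ {ξ : G | ξ ≠ η}, closure {ξ.1}
    simp only [Set.mem_iUnion, not_exists]
    exact fun ξ hξ hm => hξ (Subtype.ext (η.2.eq_of_specializes (specializes_iff_mem_closure.2 hm)))
  have hPspec : ∀ (η ξ : G) (z : Y), z ∈ P η → ξ.1 ⤳ z → ξ = η := fun η ξ z hz h => by
    by_contra hne
    exact hz (Set.mem_biUnion (show ξ ∈ {ξ : G | ξ ≠ η} from hne) h.mem_closure)
  have hchart : ∀ η : G, ∃ (N : Y.Opens) (l : Γ(L, f ⁻¹ᵁ N)), η.1 ∈ N ∧ N ≤ P η ∧ N ≤ V ∧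
      IsGen L (f ⁻¹ᵁ N) l := fun η => by
    obtain ⟨N, hηN, ⟨i⟩⟩ := FibreTriv.exists_free_preimage f (LocFree.of_isInvertible hL) η.1
    obtain ⟨e, he⟩ := Basis.exists_basis_of_iso i
    have hηV : η.1 ∈ V := by
      obtain ⟨z, hzP, hzV⟩ := hV.inter_open_nonempty _ (P η).2 ⟨η.1, hP η⟩
      obtain ⟨ξ, hξ, hξz⟩ := exists_gen_specializes z
      have := hPspec η ⟨ξ, hξ⟩ z hzP hξz
      subst this
      exact hξz.mem_open V.2 hzV
    refine ⟨N ⊓ P η ⊓ V, rs L (fun x hx => hx.1.1) (e 0), ⟨⟨hηN, hP η⟩, hηV⟩,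
      inf_le_left.trans inf_le_right, inf_le_right, (isGen_of_isBasis he).res _⟩
  choose N l hN hNP hNV hl using hchart
  let O : Y.Opens := iSup N
  have hOV : O ≤ V := iSup_le hNV
  have hNdisj : ∀ η ξ : G, η ≠ ξ → N η ⊓ N ξ = ⊥ := fun η ξ hne => eq_bot_iff.2 fun z hz => by
    obtain ⟨θ, hθ, hθz⟩ := exists_gen_specializes z
    exact absurd ((hPspec η ⟨θ, hθ⟩ z (hNP η hz.1) hθz).symm.trans
      (hPspec ξ ⟨θ, hθ⟩ z (hNP ξ hz.2) hθz)) hne
  -- a generator over `O`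
  obtain ⟨lO, hlO, -⟩ := TopCat.Sheaf.existsUnique_gluing'
    (⟨L.presheaf, L.isSheaf⟩ : TopCat.Sheaf Ab.{u} X) (fun η => f ⁻¹ᵁ N η) (f ⁻¹ᵁ O)
    (fun η => homOfLE fun x hx => le_iSup N η hx)
    (fun x hx => by
      obtain ⟨η, hη⟩ := Opens.mem_iSup.1 (show f x ∈ O from hx)
      exact Opens.mem_iSup.2 ⟨η, hη⟩) l fun η ξ => by
    by_cases h : η = ξ
    · subst h; rfl
    refine HomGlue.sections_ext_cover (fun e : PEmpty.{u + 1} => e.elim) L ?_ fun e => e.elim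
    intro x hx
    have : f x ∈ N η ⊓ N ξ := hx
    rw [hNdisj η ξ h] at this
    exact this.elim
  have hlOgen : IsGen L (f ⁻¹ᵁ O) lO := GenLocal.isGen_of_forall_exists fun x hx => by
    obtain ⟨η, hη⟩ := Opens.mem_iSup.1 (show f x ∈ O from hx)
    refine ⟨f ⁻¹ᵁ N η, fun z hz => le_iSup N η hz, hη, ?_⟩
    rw [show rs L (fun z hz => le_iSup N η hz : f ⁻¹ᵁ N η ≤ f ⁻¹ᵁ O) lO = l η from hlO η]
    exact hl η
  -- the complement consists of finitely many closed points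
  have hclosed : ∀ y : Y, y ∉ O → IsClosed ({y} : Set Y) := by
    intro y hy
    obtain ⟨η, hη, hηy⟩ := exists_gen_specializes y
    have hne : η ≠ y := fun h => hy (h ▸ Opens.mem_iSup.2 ⟨⟨η, hη⟩, hN _⟩)
    refine isClosed_of_closure_subset fun z hz => ?_
    have hyz : y ⤳ z := specializes_iff_mem_closure.2 hz
    by_contra hzy
    exact chain_false hdim hyz (Ne.symm hzy) hηy hne
  have hSfin : {y : Y | y ∉ O}.Finite := by
    obtain ⟨S, hS, hScl, hSirr, hSeq⟩ :=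
      NoetherianSpace.exists_finite_set_isClosed_irreducible O.2.isClosed_compl
    refine Set.Finite.subset (hS.biUnion fun Z hZ => ?_)
      (show {y : Y | y ∉ O} ⊆ ⋃ Z ∈ S, Z from fun y hy => ?_)
    · refine Set.Subsingleton.finite ?_
      obtain ⟨ξ, hξ⟩ := QuasiSober.sober (hSirr Z hZ) (hScl Z hZ)
      have hξO : ξ ∉ O := by
        have : ξ ∈ (O : Set Y)ᶜ := hSeq ▸ Set.mem_sUnion.2 ⟨Z, hZ, hξ.mem⟩
        exact this
      intro a ha b hb
      rw [← hξ.def, (hclosed ξ hξO).closure_eq] at ha hb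
      exact ha.trans hb.symm
    · have : y ∈ ⋃₀ S := hSeq ▸ (show y ∈ (O : Set Y)ᶜ from hy)
      rwa [Set.sUnion_eq_biUnion] at this
  have hdisc : DiscreteTopology ↥((O : Set Y)ᶜ) := by
    have : Finite ↥((O : Set Y)ᶜ) := hSfin.to_subtype
    have : T1Space ↥((O : Set Y)ᶜ) := ⟨fun y => by
      have := (hclosed y.1 y.2).preimage (f := (Subtype.val : ↥((O : Set Y)ᶜ) → Y)) continuous_subtype_val
      convert this using 1
      ext z; exact Subtype.ext_iff⟩
    infer_instance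
  have : QuasiCompact O.ι :=
    ⟨fun W _ _ => O.ι.isOpenEmbedding.isInducing.isCompact_iff.2 (NoetherianSpace.isCompact _)⟩
  have hpt : ∀ y : Y, y ∉ O → ∃ (W : Y.Opens) (g : Γ(Y, W ⊓ O)) (m : Γ(L, f ⁻¹ᵁ W)), y ∈ W ∧
      (∀ z ∈ W, z ∉ O → z = y) ∧ IsUnit g ∧ IsGen L (f ⁻¹ᵁ W) m ∧
      rs L (fun x hx => hx.1 : f ⁻¹ᵁ (W ⊓ O) ≤ f ⁻¹ᵁ W) m =
        f.app (W ⊓ O) g • rs L (fun x hx => hx.2 : f ⁻¹ᵁ (W ⊓ O) ≤ f ⁻¹ᵁ O) lO := by
    intro y hy
    have hTfin : {z : Y | z ⤳ y ∧ z ≠ y}.Finite := by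
      refine (Set.finite_range fun η : G => η.1).subset fun z hz => ?_
      have hzO : z ∈ O := by
        by_contra hzO
        exact hz.2 ((hclosed z hzO).closure_eq ▸ specializes_iff_mem_closure.1 hz.1 : y ∈ ({z} : Set Y)).symm
      obtain ⟨η, hη, hηz⟩ := exists_gen_specializes z
      by_cases h : η = z
      · exact ⟨⟨η, hη⟩, h⟩
      exfalso
      exact chain_false hdim hz.1 hz.2 hηz h
    obtain ⟨W₀, hyW₀, ⟨i⟩⟩ := FibreTriv.exists_free_preimage f (LocFree.of_isInvertible hL) y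
    obtain ⟨e, he⟩ := Basis.exists_basis_of_iso i
    obtain ⟨W₁, h, hW₁, hyW₁, -, hhO, honly, -, hgenT⟩ := exists_chart' O hdisc y hy hTfin
    obtain ⟨t, htW₀, hyt⟩ := hW₁.exists_basicOpen_le (⟨y, hyW₀⟩ : W₀) hyW₁
    let W₂ := Y.basicOpen t
    let D : Y.Opens := W₂ ⊓ O
    have hD : IsAffineOpen D := by
      have : D = Y.basicOpen (Y.presheaf.map (homOfLE (Y.basicOpen_le t)).op h) := by
        rw [Scheme.basicOpen_res, hhO]
        exact le_antisymm (le_inf inf_le_left (inf_le_inf_right _ (Y.basicOpen_le t)))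
          (inf_le_inf_left _ inf_le_right)
      rw [this]
      exact (hW₁.basicOpen t).basicOpen _
    have hgm := (isGen_of_isBasis he).res (fun x hx => htW₀ hx : f ⁻¹ᵁ W₂ ≤ f ⁻¹ᵁ W₀)
    set m := rs L (fun x hx => htW₀ hx : f ⁻¹ᵁ W₂ ≤ f ⁻¹ᵁ W₀) (e 0)
    obtain ⟨u, hu⟩ := (hlOgen (f ⁻¹ᵁ D) fun x hx => hx.2).2 (rs L (fun x hx => hx.1) m)
    obtain ⟨u', hu'⟩ := (hgm (f ⁻¹ᵁ D) fun x hx => hx.1).2 (rs L (fun x hx => hx.2) lO)
    have huu : IsUnit u := by
      refine IsUnit.of_mul_eq_one u' ((hgm (f ⁻¹ᵁ D) fun x hx => hx.1).1 ?_)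
      show (u * u') • _ = (1 : Γ(X, f ⁻¹ᵁ D)) • _
      rw [mul_smul, one_smul]
      exact (congrArg (u • ·) hu').trans hu
    obtain ⟨v, hv, hvT⟩ := exists_lift_unit f hD
      (app_surjective_of_restrict f V hD (inf_le_right.trans hOV)) hTfin.toFinset
      (fun z hz => by
        obtain ⟨hzy, hne⟩ := hTfin.mem_toFinset.1 hz
        have h1 := hgenT z hzy hne
        rw [hhO] at h1
        exact ⟨hzy.mem_open W₂.2 hyt, h1.2⟩)
      (fun a ha b hb hab => by
        obtain ⟨hay, hane⟩ := hTfin.mem_toFinset.1 ha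
        obtain ⟨hby, hbne⟩ := hTfin.mem_toFinset.1 hb
        by_contra hne
        exact chain_false hdim hby hbne hab hne) u huu
    obtain ⟨s, hys, hsO⟩ := exists_nbhd_inf_le (hW₁.basicOpen t) hyt O (Y.basicOpen v)
      (NoetherianSpace.isCompact _) fun z hz hzO =>
        hvT z (hTfin.mem_toFinset.2 ⟨hz, fun h => hy (h ▸ hzO)⟩)
    have hle : Y.basicOpen s ⊓ O ≤ D := inf_le_inf_right _ (Y.basicOpen_le s)
    refine ⟨Y.basicOpen s, rf hle v, rs L (fun x hx => Y.basicOpen_le s hx) m, hys,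
      fun z hz => honly z (Y.basicOpen_le t (Y.basicOpen_le s hz)), ?_, hgm.res _, ?_⟩
    · have hsv : Y.basicOpen s ⊓ O ≤ Y.basicOpen v := hsO
      have := (RingedSpace.isUnit_res_basicOpen _ v).map (Y.presheaf.map (homOfLE hsv).op).hom
      have h3 : IsUnit (rf hsv (rf (Y.basicOpen_le v) v)) := this
      rwa [rf_rf] at h3
    · have h1 := congrArg (rs L (fun x hx => hle hx : f ⁻¹ᵁ (Y.basicOpen s ⊓ O) ≤ f ⁻¹ᵁ D)) hu
      rw [← hv, rs_smul, rs_rs, rs_rs] at h1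
      rw [rs_rs]
      refine h1.symm.trans ?_
      congr 1
      exact (congr($(f.naturality (homOfLE hle).op) v)).symm
  choose W g m hyW honly hgu hm hgm using hpt
  -- the cover
  let ι := G ⊕ {y : Y // y ∉ O}
  let U : ι → Y.Opens := Sum.elim N fun y => W y.1 y.2
  have hU : iSup U = ⊤ := top_unique fun y _ => by
    by_cases hy : y ∈ O
    · obtain ⟨η, hη⟩ := Opens.mem_iSup.1 hy
      exact Opens.mem_iSup.2 ⟨Sum.inl η, hη⟩
    · exact Opens.mem_iSup.2 ⟨Sum.inr ⟨y, hy⟩, hyW y hy⟩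
  have hdisj : ∀ i j, i ≠ j → U i ⊓ U j ≤ O := by
    rintro (η | ⟨y, hy⟩) (ξ | ⟨z, hz⟩) hne w hw
    · exact le_iSup N η hw.1
    · exact le_iSup N η hw.1
    · exact le_iSup N ξ hw.2
    · by_contra hwO
      refine hne ?_
      obtain rfl : y = z := (honly y hy w hw.1 hwO).symm.trans (honly z hz w hw.2 hwO)
      rfl
  let gg : ∀ i, Γ(Y, U i ⊓ O) := fun i => match i with
    | .inl _ => 1
    | .inr y => g y.1 y.2
  have hgg : ∀ i, IsUnit (gg i) := by
    rintro (η | y)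
    exacts [isUnit_one, hgu y.1 y.2]
  let ll : ∀ i, Γ(L, f ⁻¹ᵁ U i) := fun i => match i with
    | .inl η => l η
    | .inr y => m y.1 y.2
  have hll : ∀ i, IsGen L (f ⁻¹ᵁ U i) (ll i) := by
    rintro (η | y)
    exacts [hl η, hm y.1 y.2]
  have hrel : ∀ i, rs L (fun x hx => hx.1 : f ⁻¹ᵁ (U i ⊓ O) ≤ f ⁻¹ᵁ U i) (ll i) =
      f.app (U i ⊓ O) (gg i) • rs L (fun x hx => hx.2 : f ⁻¹ᵁ (U i ⊓ O) ≤ f ⁻¹ᵁ O) lO := by
    rintro (η | y)
    · show rs L (fun x hx => hx.1 : f ⁻¹ᵁ (N η ⊓ O) ≤ f ⁻¹ᵁ N η) (l η) =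
        f.app (N η ⊓ O) 1 • rs L (fun x hx => hx.2 : f ⁻¹ᵁ (N η ⊓ O) ≤ f ⁻¹ᵁ O) lO
      rw [map_one, one_smul, ← hlO η]
      exact rs_rs L _ _ lO
    · exact hgm y.1 y.2
  obtain ⟨c, hc⟩ := exists_cocycle (M := Coh.structureModule Y) hdisj
    (fun i => gg i • one Y (U i ⊓ O)) fun i => GenLocal.isGen_smul (isGen_one _) (hgg i)
  refine ⟨glue c, isInvertible_glue c hU, nonempty_pullback_glue_iso f hU c L ll hll fun i j => ?_⟩
  by_cases hij : i = j
  · subst hij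
    rw [show c.u i i = 1 from (rf_self le_rfl _).symm.trans (c.self i _ le_rfl), map_one, one_smul]
  have hO : U i ⊓ U j ≤ O := hdisj i j hij
  have h1 : rf (le_inf inf_le_right hO : U i ⊓ U j ≤ U j ⊓ O) (gg j) =
      c.u i j * rf (le_inf inf_le_left hO : U i ⊓ U j ≤ U i ⊓ O) (gg i) := by
    have h := hc i j (U i ⊓ U j) inf_le_left inf_le_right hO
    have e : ∀ k (hk : U i ⊓ U j ≤ U k ⊓ O), rs (Coh.structureModule Y) hk (gg k • one Y (U k ⊓ O)) =
        (rf hk (gg k) : Γ(Y, U i ⊓ U j)) := fun k hk => by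
      show Y.presheaf.map (homOfLE hk).op (gg k * 1) = _
      rw [mul_one]
    rw [e j, e i, show c.tr i j inf_le_left inf_le_right = c.u i j from rf_self _ _] at h
    exact h
  have key : ∀ k (hk : U i ⊓ U j ≤ U k ⊓ O),
      rs L (fun x hx => (hk hx).1 : f ⁻¹ᵁ (U i ⊓ U j) ≤ f ⁻¹ᵁ U k) (ll k) =
        f.app (U i ⊓ U j) (rf hk (gg k)) •
          rs L (fun x hx => hO hx : f ⁻¹ᵁ (U i ⊓ U j) ≤ f ⁻¹ᵁ O) lO := fun k hk => by
    have h := congrArg (rs L (fun x hx => hk hx : f ⁻¹ᵁ (U i ⊓ U j) ≤ f ⁻¹ᵁ (U k ⊓ O))) (hrel k)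
    rw [rs_rs, rs_smul, rs_rs] at h
    rw [h]
    congr 1
    exact (congr($(f.naturality (homOfLE hk).op) (gg k))).symm
  rw [key j (le_inf inf_le_right hO), key i (le_inf inf_le_left hO), h1, map_mul, mul_smul]

end Groth.Agent.H97.PullbackLine
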