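import Groth.Agent.Lib.ProjMor.Embed
import Groth.Agent.Lib.Ample.RelAmple

/-! The locus of a section of an ample invertible sheaf on a scheme universally closed over an affine
scheme is affine. -/

set_option autoImplicit false
universe u
open CategoryTheory CategoryTheory.Limits AlgebraicGeometry TopologicalSpace Opposite

namespace Groth.Agent.H97.GenLocusAffine

open Groth.Agent.Lib TensorMod TensorMod.Basic TensorMod.Free Ample.GenLocus Ample.Pow

variable {X : Scheme.{u}}

theorem locus_sv {M : X.Modules} (s : Coh.structureModule X ⟶ M) :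
    ProjMor.Sec.locus (sv s ⊤) = CohB1.genLocus M s := by
  have h : Modules.Free.unitHom M (sv s ⊤) = s :=
    Modules.Free.unitHom_ext (Modules.Free.unitHom_app_one M _)
  rw [ProjMor.Sec.locus, h]

/-- One locus is affine as soon as the loci of sections of the same sheaf cover and are affine. -/
theorem isAffineOpen_locus_zero {R : Type u} [CommRing R] (q : X ⟶ Spec (CommRingCat.of R))
    [UniversallyClosed q] {M : X.Modules} (hM : PicF.IsInvertible M) {N : ℕ}
    (t : Fin (N + 1) → ProjUP.Γm M) (hcov : ∀ x, ∃ i : Fin N, x ∈ ProjMor.Sec.locus (t i.succ))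
    (haff : ∀ i : Fin N, IsAffineOpen (ProjMor.Sec.locus (t i.succ))) :
    IsAffineOpen (ProjMor.Sec.locus (t 0)) := by
  obtain ⟨r, hr, τ, hτ⟩ := ProjMor.Poly.exists_map N R q M hM t
    (ProjMor.Embed.generatedBy_of_locus t fun x => by
      obtain ⟨i, h⟩ := hcov x; exact ⟨i.succ, h⟩)
  let 𝒜 := CohB1.polyGrading N R
  let el : Fin (N + 1) → 𝒜 1 := fun i => ⟨MvPolynomial.X i, MvPolynomial.isHomogeneous_X R i⟩
  have hadj := ProjMor.Poly.adjoin_lin N R
  have hcv := ProjMor.Main.cover (ProjMor.Poly.lin_mem N R) hadj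
  have hinv : PicF.IsInvertible (Twist.twist 𝒜 1) :=
    Groth.Agent.Lib.ProjTilde.Invertible.twist_isInvertible_of_cover (fun x => by
      obtain ⟨c, hc⟩ := hcv x
      exact ⟨c, c.2, hc⟩) 1
  have hloc : ∀ i, ProjMor.Sec.locus (t i) =
      r ⁻¹ᵁ Proj.basicOpen 𝒜 (el i : MvPolynomial (Fin (N + 1)) R) := fun i => by
    rw [← ProjMor.Frame.locus_g hcv (el i)]
    exact (congrArg ProjMor.Sec.locus (hτ i)).symm.trans
      ((ProjMor.Sec.locus_iso τ _).trans (ProjMor.Sec.locus_pullback hinv r _))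
  have hD : ∀ i, IsAffineOpen (Proj.basicOpen 𝒜 (el i : MvPolynomial (Fin (N + 1)) R)) := fun i =>
    Proj.isAffineOpen_basicOpen 𝒜 _ (el i).2 one_pos
  haveI : IsSeparated (CohB1.ProjSpace.toSpec N R) := by
    haveI := Groth.Agent.Lib.ProjSpace.Basic.isProper_toSpec N R
    infer_instance
  haveI : UniversallyClosed (r ≫ CohB1.ProjSpace.toSpec N R) := by rw [hr]; infer_instance
  haveI : UniversallyClosed r := UniversallyClosed.of_comp_of_isSeparated r (CohB1.ProjSpace.toSpec N R)
  have hC : IsClosed (Set.range r.base) := r.isClosedMap.isClosed_range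
  have haffr : IsAffineHom r := by
    refine isAffineHom_of_forall_exists_isAffineOpen r fun y => ?_
    by_cases hy : y ∈ Set.range r.base
    · obtain ⟨x, rfl⟩ := hy
      obtain ⟨i, hi⟩ := hcov x
      refine ⟨_, ?_, hD i.succ, hloc i.succ ▸ haff i⟩
      rw [hloc] at hi
      exact hi
    · obtain ⟨W, hW, hyW, hWC⟩ := exists_isAffineOpen_mem_and_subset
        (U := ⟨(Set.range r.base)ᶜ, hC.isOpen_compl⟩) hy
      refine ⟨W, hyW, hW, ?_⟩
      have : r ⁻¹ᵁ W = ⊥ := le_bot_iff.1 fun x hx => hWC hx ⟨x, rfl⟩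
      rw [this]
      exact isAffineOpen_bot X
  rw [hloc]
  exact @IsAffineOpen.preimage _ _ _ (hD 0) r haffr

/-- EGA II: if `L` is ample and `X` universally closed over an affine scheme, every `X_s` is affine. -/
theorem isAffineOpen_genLocus {R : Type u} [CommRing R] (q : X ⟶ Spec (CommRingCat.of R))
    [UniversallyClosed q] {L : X.Modules} (hA : CohB1.IsAmple L) (s : Coh.structureModule X ⟶ L) :
    IsAffineOpen (CohB1.genLocus L s) := by
  classical
  obtain ⟨hL, hc, hx⟩ := isAmple_iff.1 hA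
  choose n hn σ hσ ha using hx
  obtain ⟨F, hF⟩ := isCompact_univ.elim_finite_subcover (fun x => (CohB1.genLocus _ (σ x) : Set X))
    (fun x => (CohB1.genLocus _ (σ x)).isOpen) fun x _ => Set.mem_iUnion.2 ⟨x, hσ x⟩
  let N₀ := ∏ x ∈ F, n x
  have hN₀ : 0 < N₀ := Finset.prod_pos fun x _ => hn x
  let E : Fin F.card ≃ F := F.equivFin.symm
  have hdvd : ∀ i, n (E i).1 ∣ N₀ := fun i => Finset.dvd_prod_of_mem n (E i).2
  choose c hc' using hdvd
  have hcpos : ∀ i, 0 < c i := fun i => by
    rcases Nat.eq_zero_or_pos (c i) with h | h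
    · rw [hc' i, h, Nat.mul_zero] at hN₀; exact absurd hN₀ (lt_irrefl 0)
    · exact h
  let φ : ∀ i, Coh.structureModule X ⟶ CohB1.tensorPow L N₀ := fun i =>
    SecTwist.powHom (σ (E i).1) (c i) ≫ (powMul L (n (E i).1) (c i) ≪≫ powCongr L (hc' i).symm).hom
  have hφ : ∀ i, CohB1.genLocus _ (φ i) = CohB1.genLocus _ (σ (E i).1) := fun i => by
    rw [genLocus_comp_iso, genLocus_powHom (Invertible.isInvertible_tensorPow hL _) _ _ (hcpos i)]
  let t : Fin (F.card + 1) → ProjUP.Γm (CohB1.tensorPow L N₀) :=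
    Fin.cons (sv (SecTwist.powHom s N₀) ⊤) fun i => sv (φ i) ⊤
  have hts : ∀ i : Fin F.card, ProjMor.Sec.locus (t i.succ) = CohB1.genLocus _ (σ (E i).1) := fun i => by
    rw [← hφ i]
    exact locus_sv (φ i)
  have h := isAffineOpen_locus_zero q (Invertible.isInvertible_tensorPow hL N₀) t
    (fun x => by
      obtain ⟨y, hy, hxy⟩ := Set.mem_iUnion₂.1 (hF (Set.mem_univ x))
      refine ⟨E.symm ⟨y, hy⟩, ?_⟩
      rw [hts, Equiv.apply_symm_apply]
      exact hxy)
    (fun i => by rw [hts]; exact ha _)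
  rw [← genLocus_powHom hL s N₀ hN₀, ← locus_sv]
  exact h

end Groth.Agent.H97.GenLocusAffine
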