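import Mathlib.Algebra.MvPolynomial.Funext
import Mathlib.Algebra.BigOperators.Ring.Finset
import Mathlib.Data.Rat.Cast.Order
import Mathlib.Tactic

/-! The coefficient of `X₁⋯X_d` in a numerical polynomial of degree at most `d`. -/

set_option autoImplicit false

namespace Groth.Agent.H97.MvCoeff

open Finset

/-- Two polynomials agreeing on `ℕ^n` are equal. -/
theorem eq_of_eval_nat {n : ℕ} {P Q : MvPolynomial (Fin n) ℚ}
    (h : ∀ m : Fin n → ℕ, MvPolynomial.eval (fun i => (m i : ℚ)) P = MvPolynomial.eval (fun i => (m i : ℚ)) Q) :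
    P = Q := by
  refine MvPolynomial.funext_set (fun _ => Set.range ((↑) : ℕ → ℚ))
    (fun _ => Set.infinite_range_of_injective Nat.cast_injective) fun x hx => ?_
  choose m hm using fun i => hx i (Set.mem_univ i)
  have := h m
  simpa [hm] using this

/-- The alternating sum over the unit cube extracts the top square-free coefficient. -/
theorem coeff_ones {d : ℕ} {Q : MvPolynomial (Fin d) ℚ} (hQ : Q.totalDegree ≤ d) :
    ∑ S ∈ (univ : Finset (Fin d)).powerset, (-1 : ℚ) ^ (Sᶜ).card *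
        MvPolynomial.eval (fun i => ((if i ∈ S then 1 else 0 : ℕ) : ℚ)) Q =
      MvPolynomial.coeff (Finsupp.equivFunOnFinite.symm fun _ : Fin d => 1) Q := by
  classical
  set e := Finsupp.equivFunOnFinite.symm fun _ : Fin d => 1
  simp_rw [MvPolynomial.eval_eq' _ Q, Finset.mul_sum]
  rw [Finset.sum_comm]
  have key : ∀ m : Fin d →₀ ℕ, ∑ S ∈ (univ : Finset (Fin d)).powerset,
      (-1 : ℚ) ^ (Sᶜ).card * (Q.coeff m * ∏ i, ((if i ∈ S then 1 else 0 : ℕ) : ℚ) ^ m i) =
      Q.coeff m * ∏ i, (1 - (0 : ℚ) ^ m i) := by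
    intro m
    have hsplit : ∏ i : Fin d, (1 - (0 : ℚ) ^ m i) =
        ∑ S ∈ (univ : Finset (Fin d)).powerset, (∏ i ∈ S, (1 : ℚ)) * ∏ i ∈ univ \ S, -((0 : ℚ) ^ m i) := by
      rw [← Finset.prod_add]
      exact Finset.prod_congr rfl fun i _ => by ring
    rw [hsplit, Finset.mul_sum]
    refine Finset.sum_congr rfl fun S _ => ?_
    rw [Finset.prod_neg, Finset.prod_const_one, one_mul]
    have : ∏ i, ((if i ∈ S then 1 else 0 : ℕ) : ℚ) ^ m i = ∏ i ∈ univ \ S, (0 : ℚ) ^ m i := by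
      rw [← Finset.prod_sdiff (Finset.subset_univ S)]
      rw [Finset.prod_eq_one (s := S) fun i hi => by simp [hi], mul_one]
      exact Finset.prod_congr rfl fun i hi => by simp [(Finset.mem_sdiff.1 hi).2]
    rw [this, Finset.compl_eq_univ_sdiff]
    ring
  simp_rw [key]
  have hz : ∀ m : Fin d →₀ ℕ, (∃ i, m i = 0) → ∏ i, (1 - (0 : ℚ) ^ m i) = 0 := fun m ⟨i, hi⟩ =>
    Finset.prod_eq_zero (Finset.mem_univ i) (by simp [hi])
  rw [Finset.sum_eq_single e]
  · simp [e, MvPolynomial.coeff]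
  · intro m hm hne
    rw [hz m ?_, mul_zero]
    by_contra hcon
    push Not at hcon
    refine hne (Finsupp.ext fun i => ?_)
    have hsum : ∑ i, m i ≤ d := by
      refine le_trans ?_ ((MvPolynomial.le_totalDegree hm).trans hQ)
      rw [Finsupp.sum_fintype _ _ (fun _ => rfl)]
    have h1 : ∀ j ∈ (univ : Finset (Fin d)), 1 ≤ m j := fun j _ => Nat.one_le_iff_ne_zero.2 (hcon j)
    have h2 : ∑ _j : Fin d, 1 = ∑ j, m j := le_antisymm (Finset.sum_le_sum h1) (by simpa using hsum)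
    simpa [e] using ((Finset.sum_eq_sum_iff_of_le h1).1 h2 i (Finset.mem_univ i)).symm
  · intro he
    rw [MvPolynomial.notMem_support_iff.1 he, zero_mul]

/-- The coefficient of `X₁⋯X_d` of an integer valued polynomial of degree `≤ d` is an integer. -/
theorem exists_int_coeff_ones {d : ℕ} {Q : MvPolynomial (Fin d) ℚ} (hQ : Q.totalDegree ≤ d)
    (f : (Fin d → ℕ) → ℤ) (hf : ∀ m, (f m : ℚ) = MvPolynomial.eval (fun i => (m i : ℚ)) Q) :
    ∃ z : ℤ, MvPolynomial.coeff (Finsupp.equivFunOnFinite.symm fun _ : Fin d => 1) Q = (z : ℚ) := by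
  classical
  refine ⟨∑ S ∈ (univ : Finset (Fin d)).powerset, (-1) ^ (Sᶜ).card * f (fun i => if i ∈ S then 1 else 0), ?_⟩
  rw [← coeff_ones hQ]
  push_cast
  exact Finset.sum_congr rfl fun S _ => by rw [hf]; simp

end Groth.Agent.H97.MvCoeff
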