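import Groth.Agent.Lib.Snapper.IntNum
import Groth.Agent.Lib.Snapper.Poly
import Groth.Agent.Lib.Snapper.Finite
import Groth.Agent.Lib.Snapper.DimBound
import Groth.Agent.Lib.Ample.Pow
import Groth.Agent.S1528
import Groth.Agent.H97.MvCoeff

/-! Intersection numbers as iterated differences of Euler characteristics, and their decomposition over
top-dimensional points. -/

set_option autoImplicit false
set_option linter.style.haveILetI false
universe u
open CategoryTheory CategoryTheory.Limits AlgebraicGeometry TopologicalSpace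

namespace Groth.Agent.H97.IntMult

open Groth.Agent.Lib Groth.Agent.Lib.Snapper Groth.Agent.Lib.TensorMod.Basic

variable {k : Type u} [Field k] {X : Scheme.{u}} [X.Over (Spec (CommRingCat.of k))]

/-- The first powers on `S`, zeroth powers elsewhere. -/
theorem exists_listIso {d : ℕ} (L : Fin d → X.Modules) (S : Finset (Fin d)) :
    ∀ l : List (Fin d), Nonempty
      (FGA.tensorList (l.map fun i => CohB1.tensorPow (L i) (if i ∈ S then 1 else 0)) ≅
        FGA.tensorList ((l.filter fun i => decide (i ∈ S)).map L))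
  | [] => ⟨Iso.refl _⟩
  | a :: l => by
    obtain ⟨e⟩ := exists_listIso L S l
    by_cases h : a ∈ S
    · rw [List.map_cons, List.filter_cons_of_pos (by simpa using h), List.map_cons, if_pos h]
      exact ⟨tensorIso (Ample.Pow.powOne (L a)) e⟩
    · rw [List.map_cons, List.filter_cons_of_neg (by simpa using h), if_neg h]
      exact ⟨leftUnit _ ≪≫ e⟩

variable [IsProper (X ↘ (Spec (CommRingCat.of k)))]

/-- The coefficient of `n₁⋯n_d` is `(-1)^d` times the iterated difference. -/
theorem coeff_eq_sym {N : ℕ} (hN : topologicalKrullDim X ≤ N) {F : X.Modules} (hF : Coh.IsCoh F) {d : ℕ}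
    (hd : topologicalKrullDim (CohB1.support F) ≤ d) {L : Fin d → X.Modules} (hL : ∀ i, PicF.IsInvertible (L i))
    {P : MvPolynomial (Fin d) ℚ}
    (hP : ∀ n : Fin d → ℕ, (Curv2.euler k X (Curv2.tensorPows F d L n) : ℚ) = MvPolynomial.eval (fun i => (n i : ℚ)) P) :
    MvPolynomial.coeff (Finsupp.equivFunOnFinite.symm fun _ : Fin d => 1) P =
      (((-1 : ℤ) ^ d * Vanish.sym k X N (List.ofFn L) F : ℤ) : ℚ) := by
  classical
  haveI := Curves.GlobalSections.isNoetherian_of_proper k X
  obtain ⟨Q, hQ, hQe⟩ := Groth.Agent.S1528.result k X F hF d hd d L hL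
  obtain rfl : P = Q := MvCoeff.eq_of_eval_nat fun m => by rw [← hP m, ← hQe m]
  rw [← MvCoeff.coeff_ones hQ, ← IntNum.intNum_eq_sym]
  unfold FGA.intNum
  rw [Finset.mul_sum, Int.cast_sum, Finset.powerset_univ]
  refine Finset.sum_congr rfl fun S _ => ?_
  let m : Fin d → ℕ := fun i => if i ∈ S then 1 else 0
  have hval : (MvPolynomial.eval (fun i => ((if i ∈ S then 1 else 0 : ℕ) : ℚ))) P =
      (FGA.eulerCharLE k X (CohB1.tensorMod (FGA.tensorList ((S.sort (· ≤ ·)).map L)) F) N : ℚ) := by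
    rw [← hP m, Chi.euler_eq_eulerCharLE hN, Int.cast_inj]
    obtain ⟨e⟩ := Poly.exists_tensorPowsIso F d L m
    obtain ⟨e'⟩ := exists_listIso L S (List.finRange d)
    have hperm : ((List.finRange d).filter fun i => decide (i ∈ S)).Perm (S.sort (· ≤ ·)) :=
      (List.perm_ext_iff_of_nodup ((List.nodup_finRange d).filter _) (S.sort_nodup (· ≤ ·))).2 fun i => by simp
    obtain ⟨e''⟩ := IntNum.tensorList_perm (hperm.map L)
    exact Chi.eulerCharLE_of_iso (e ≪≫ tensorIso (e' ≪≫ e'') (Iso.refl F)) N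
  rw [hval]
  have hpar : (-1 : ℚ) ^ (Sᶜ).card = (-1) ^ d * (-1) ^ S.card := by
    rw [← pow_add]
    have : (Sᶜ).card + S.card = d := by rw [Finset.card_compl_add_card, Fintype.card_fin]
    have he : d + S.card = (Sᶜ).card + 2 * S.card := by omega
    rw [he, pow_add, pow_mul]
    simp
  rw [hpar]
  push_cast
  ring

/-- The points of a closed set with closure of dimension `d`. -/
def topPts (T : Set X) (d : ℕ) : Set X :=
  {ξ | ξ ∈ T ∧ topologicalKrullDim (closure ({ξ} : Set X)) = (d : WithBot ℕ∞)}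

omit [X.Over (Spec (CommRingCat.of k))] [IsProper (X ↘ (Spec (CommRingCat.of k)))] in
theorem eq_of_mem_topPts {T : Set X} (hT : IsClosed T) {d : ℕ} (hd : topologicalKrullDim T ≤ d) {ξ g : X}
    (hξ : ξ ∈ topPts T d) (hg : g ∈ T) (h : g ⤳ ξ) : ξ = g :=
  (Devissage.Dim.eq_of_specializes h hξ.2 ((Devissage.Dim.dim_closure_le hT hg).trans hd)).symm

omit [X.Over (Spec (CommRingCat.of k))] [IsProper (X ↘ (Spec (CommRingCat.of k)))] in
theorem finite_topPts [NoetherianSpace X] {T : Set X} (hT : IsClosed T) {d : ℕ} (hd : topologicalKrullDim T ≤ d) :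
    (topPts T d).Finite := by
  obtain ⟨S, hSf, hS₁, hS₂, hTS⟩ := NoetherianSpace.exists_finite_set_isClosed_irreducible hT
  have : ∀ ξ ∈ topPts T d, ∃ t ∈ S, closure ({ξ} : Set X) = t := by
    intro ξ hξ
    have hξ' := hξ.1
    rw [hTS] at hξ'
    obtain ⟨t, ht, hξt⟩ := hξ'
    obtain ⟨g, hg⟩ := QuasiSober.sober (hS₂ t ht) (hS₁ t ht)
    have hgT : g ∈ T := hTS ▸ ⟨t, ht, hg.mem⟩
    obtain rfl := eq_of_mem_topPts hT hd hξ hgT (hg.specializes hξt)
    exact ⟨t, ht, hg⟩
  refine Set.Finite.of_finite_image (f := fun ξ => closure ({ξ} : Set X)) (hSf.subset ?_) fun a _ b _ h => ?_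
  · rintro _ ⟨ξ, hξ, rfl⟩
    obtain ⟨t, ht, e⟩ := this ξ hξ
    show closure ({ξ} : Set X) ∈ S
    rw [e]; exact ht
  · exact ((specializes_iff_closure_subset.2 h.ge).antisymm (specializes_iff_closure_subset.2 h.le)).eq

/-- The iterated difference decomposes over the top-dimensional points of the support. -/
theorem sym_eq_sum {N : ℕ} (hN : topologicalKrullDim X ≤ N) {l : List X.Modules}
    (hl : ∀ M ∈ l, PicF.IsInvertible M) {T : Closeds X} (hd : topologicalKrullDim (T : Set X) ≤ l.length)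
    (S : Finset X) (hS : ∀ ξ, ξ ∈ S ↔ ξ ∈ topPts (T : Set X) l.length)
    (G : X.Modules) (hG : Devissage.Basic.CohIn (T : Set X) G) :
    Vanish.sym k X N l G = ∑ ξ ∈ S, ((Module.length (X.presheaf.stalk ξ) (G.presheaf.stalk ξ)).toNat : ℤ) *
      Vanish.sym k X N l (Cyc.closureStructureSheaf ξ) := by
  classical
  haveI := Curves.GlobalSections.isNoetherian_of_proper k X
  have hfin := Finite.cohFinite k X
  have hlen : ∀ H : X.Modules, Devissage.Basic.CohIn (T : Set X) H → ∀ ξ ∈ S,
      Module.length (X.presheaf.stalk ξ) (H.presheaf.stalk ξ) ≠ ⊤ := fun H hH ξ hξ =>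
    Cyc.SheafLen.length_ne_top hH.1 ξ fun z hzξ hz =>
      (eq_of_mem_topPts T.isClosed hd ((hS ξ).1 hξ) (hH.2 (not_subsingleton_iff_nontrivial.mpr hz)) hzξ).symm
  refine ProperFin.Devissage.devissage
    (fun H => Vanish.sym k X N l H = ∑ ξ ∈ S, ((Module.length (X.presheaf.stalk ξ) (H.presheaf.stalk ξ)).toNat : ℤ) *
      Vanish.sym k X N l (Cyc.closureStructureSheaf ξ))
    T ⟨fun H hH => ?_, fun Q hQ h₁ h₂ h₃ => ?_⟩ (fun y hy => ?_) G hG
  · rw [Vanish.sym_isZero l hl hH]
    refine (Finset.sum_eq_zero fun ξ _ => ?_).symm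
    have : Subsingleton (H.presheaf.stalk ξ) := Modules.Support.not_mem_support_iff.mp
      (show ξ ∉ CohB1.support H by rw [(Modules.Support.support_eq_empty_iff).mpr hH]; simp)
    simp [Module.length_eq_zero]
  · have e := Vanish.sym_add hfin hN l hl hQ h₁.1 h₂.1 h₃.1
    have e' : ∑ ξ ∈ S, ((Module.length (X.presheaf.stalk ξ) (Q.X₂.presheaf.stalk ξ)).toNat : ℤ) *
          Vanish.sym k X N l (Cyc.closureStructureSheaf ξ) =
        ∑ ξ ∈ S, ((Module.length (X.presheaf.stalk ξ) (Q.X₁.presheaf.stalk ξ)).toNat : ℤ) *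
          Vanish.sym k X N l (Cyc.closureStructureSheaf ξ) +
        ∑ ξ ∈ S, ((Module.length (X.presheaf.stalk ξ) (Q.X₃.presheaf.stalk ξ)).toNat : ℤ) *
          Vanish.sym k X N l (Cyc.closureStructureSheaf ξ) := by
      rw [← Finset.sum_add_distrib]
      refine Finset.sum_congr rfl fun ξ hξ => ?_
      rw [Cyc.SheafLen.length_additive Q hQ ξ, ENat.toNat_add (hlen _ h₁ ξ hξ) (hlen _ h₃ ξ hξ)]
      push_cast
      ring
    refine ⟨fun a b => ?_, fun a b => ?_, fun a b => ?_⟩ <;> linarith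
  · refine ⟨Cyc.closureStructureSheaf y, Devissage.Closure.cohIn_closureStructureSheaf y,
      Devissage.Closure.length_closureStructureSheaf y, ?_⟩
    have hz : ∀ ξ ∈ S, ξ ≠ y → Module.length (X.presheaf.stalk ξ) ((Cyc.closureStructureSheaf y).presheaf.stalk ξ) = 0 := by
      intro ξ hξ hne
      have : ξ ∉ CohB1.support (Cyc.closureStructureSheaf y) := fun h => hne (eq_of_mem_topPts T.isClosed hd
        ((hS ξ).1 hξ) hy (specializes_iff_mem_closure.2 (Devissage.Closure.support_closureStructureSheaf y h)))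
      haveI := Modules.Support.not_mem_support_iff.mp this
      exact Module.length_eq_zero
    by_cases hyS : y ∈ S
    · rw [Finset.sum_eq_single y (fun ξ hξ hne => by rw [hz ξ hξ hne]; simp) (fun h => absurd hyS h),
        Devissage.Closure.length_closureStructureSheaf y]
      simp
    · rw [Finset.sum_eq_zero fun ξ hξ => by rw [hz ξ hξ (fun e => hyS (e ▸ hξ))]; simp]
      refine Vanish.sym_eq_zero hfin hN l hl _ (Devissage.Closure.isCoh_closureStructureSheaf y) ?_
      refine lt_of_le_of_lt (Devissage.Dim.dim_mono (Devissage.Closure.support_closureStructureSheaf y)) ?_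
      exact lt_of_le_of_ne ((Devissage.Dim.dim_closure_le T.isClosed hy).trans hd) fun e => hyS ((hS y).2 ⟨hy, e⟩)

end Groth.Agent.H97.IntMult
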