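import Groth.Agent.Lib.IntTheory.Positive
import Groth.Agent.Lib.SurfInt.AmpleVanish
import Groth.Agent.H97.IntMult

/-! Asymptotic Riemann-Roch for an ample invertible module. -/

set_option autoImplicit false
set_option linter.style.haveILetI false
universe u
open CategoryTheory CategoryTheory.Limits AlgebraicGeometry TopologicalSpace

namespace Groth.Agent.H97.AsympRR

open Groth.Agent.Lib Groth.Agent.Lib.Snapper Groth.Agent.Lib.TensorMod.Basic

/-- A polynomial of degree at most `e` is `O((m+1)^e)`. -/
theorem exists_bound (p : Polynomial ℚ) {e : ℕ} (he : p.natDegree ≤ e) :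
    ∃ C : ℚ, ∀ m : ℕ, |p.eval (m : ℚ)| ≤ C * ((m : ℚ) + 1) ^ e := by
  refine ⟨∑ i ∈ Finset.range (p.natDegree + 1), |p.coeff i|, fun m => ?_⟩
  rw [Polynomial.eval_eq_sum_range, Finset.sum_mul]
  refine (Finset.abs_sum_le_sum_abs _ _).trans (Finset.sum_le_sum fun i hi => ?_)
  rw [abs_mul]
  refine mul_le_mul_of_nonneg_left ?_ (abs_nonneg _)
  rw [abs_of_nonneg (by positivity)]
  exact (pow_le_pow_left₀ (by positivity) (by simp) i).trans
    (pow_le_pow_right₀ (by simp) ((Nat.le_of_lt_succ (Finset.mem_range.1 hi)).trans he))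

variable (k : Type u) [Field k] {X : Scheme.{u}} [X.Over (Spec (CommRingCat.of k))]
  [IsProper (X ↘ (Spec (CommRingCat.of k)))]

/-- Inverting all entries. -/
theorem sym_replicate_inverse {N : ℕ} (hN : topologicalKrullDim X ≤ N) {L M : X.Modules}
    (hL : PicF.IsInvertible L) (hM : PicF.IsInvertible M)
    (e : CohB1.tensorMod L M ≅ Coh.structureModule X) {F : X.Modules} (hF : Coh.IsCoh F) :
    ∀ (d : ℕ) (l : List X.Modules), (∀ N ∈ l, PicF.IsInvertible N) →
      topologicalKrullDim (CohB1.support F) ≤ (l.length + d : ℕ) →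
      Vanish.sym k X N (List.replicate d M ++ l) F = (-1) ^ d * Vanish.sym k X N (List.replicate d L ++ l) F := by
  have := Curves.GlobalSections.isNoetherian_of_proper k X
  intro d
  induction d with
  | zero => intro l _ _; simp
  | succ d ih =>
    intro l hl hd
    have h1 : Vanish.sym k X N (List.replicate (d + 1) M ++ l) F =
        - Vanish.sym k X N (L :: (List.replicate d M ++ l)) F := by
      refine IntNum.sym_inverse (Finite.cohFinite k X) hN hL hM e (List.replicate d M ++ l) (fun P hP => ?_) hF
        (lt_of_le_of_lt hd ?_)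
      · rcases List.mem_append.1 hP with h | h
        · rw [List.eq_of_mem_replicate h]; exact hM
        · exact hl P h
      · simp only [List.length_append, List.length_replicate]
        exact_mod_cast (show l.length + (d + 1) < d + l.length + 2 by omega)
    have h2 := ih (L :: l) (fun P hP => (List.mem_cons.1 hP).elim (fun h => h ▸ hL) (hl P))
      (hd.trans (by simp only [List.length_cons]; exact_mod_cast (show l.length + (d + 1) ≤ l.length + 1 + d by omega)))
    rw [h1, IntNum.sym_perm (List.perm_middle (a := L) (l₁ := List.replicate d M) (l₂ := l)).symm, h2,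
      show List.replicate d L ++ L :: l = List.replicate (d + 1) L ++ l by
        rw [List.replicate_succ', List.append_assoc]; rfl, pow_succ]
    ring

theorem dim_support_structureModule :
    topologicalKrullDim (CohB1.support (Coh.structureModule X)) = topologicalKrullDim X := by
  have : CohB1.support (Coh.structureModule X) = Set.univ := Set.eq_univ_of_forall fun x => by
    obtain ⟨e⟩ := Cyc.SheafLen.exists_unit_stalk_equiv x
    exact fun h => absurd (@Equiv.subsingleton _ _ e.toEquiv.symm h) (not_subsingleton _)
  rw [this]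
  exact (Homeomorph.Set.univ X).isHomeomorph.topologicalKrullDim_eq _

/-- Positivity of the top self-intersection of an ample module. -/
theorem pos {d : ℕ} (hX : topologicalKrullDim X = d) {L : X.Modules} (hA : CohB1.IsAmple L) :
    0 < (-1 : ℤ) ^ d * Vanish.sym k X d (List.replicate d L) (Coh.structureModule X) := by
  have := Curves.GlobalSections.isNoetherian_of_proper k X
  obtain ⟨M, hM, ⟨e⟩⟩ := TensorMod.Invertible.exists_inverse hA.1
  have hO := Twist.isCoh_structureModule X
  have hfin := Finite.cohFinite k X
  have hd := dim_support_structureModule (X := X)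
  rw [hX] at hd
  have h := sym_replicate_inverse k hX.le hA.1 hM e hO d [] (by simp) (by simpa using hd.le)
  simp only [List.append_nil] at h
  rw [← h]
  have hl : ∀ N ∈ List.replicate d M, PicF.IsInvertible N := fun N hN => List.eq_of_mem_replicate hN ▸ hM
  exact IntTheory.Additive.pos (X ↘ Spec (CommRingCat.of k)) (IntTheory.Additive.isAdd_sym hfin hX.le hl)
    (IntTheory.Additive.vanishBelow_sym hfin hX.le hl List.length_replicate) hO hd fun y hy =>
      IntTheory.Positive.sym_closure_pos hX.le _ hl
        (fun N hN => ⟨L, hA, List.eq_of_mem_replicate hN ▸ ⟨e⟩⟩) y (by rw [List.length_replicate]; exact hy.2)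

/-- The Euler characteristic of powers. -/
theorem euler_pow {d : ℕ} (hX : topologicalKrullDim X = d) {L : X.Modules} (hL : PicF.IsInvertible L) (m : ℕ) :
    Curv2.euler k X (CohB1.tensorPow L m) = ∑ i ∈ Finset.range (d + 1), (-1 : ℤ) ^ i * (m.choose i : ℤ) *
      Vanish.sym k X d (List.replicate i L) (Coh.structureModule X) := by
  have := Curves.GlobalSections.isNoetherian_of_proper k X
  rw [Chi.euler_eq_eulerCharLE hX.le, ← Chi.eulerCharLE_of_iso (rightUnit (CohB1.tensorPow L m)) d]
  change Vanish.sym k X d [] _ = _
  rw [Poly.sym_pow_expansion]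
  simp only [List.append_nil]
  have h0 : ∀ i, d < i → Vanish.sym k X d (List.replicate i L) (Coh.structureModule X) = 0 := fun i hi =>
    Vanish.sym_eq_zero (Finite.cohFinite k X) hX.le _ (fun N hN => List.eq_of_mem_replicate hN ▸ hL) _
      (Twist.isCoh_structureModule X) (by
        rw [dim_support_structureModule (X := X), hX, List.length_replicate]; exact_mod_cast hi)
  rcases le_total m d with h | h
  · refine Finset.sum_subset (Finset.range_mono (by omega)) fun i _ hi => ?_
    rw [Finset.mem_range] at hi
    simp [Nat.choose_eq_zero_of_lt (show m < i by omega)]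
  · refine (Finset.sum_subset (Finset.range_mono (by omega)) fun i _ hi => ?_).symm
    rw [Finset.mem_range] at hi
    simp [h0 i (by omega)]

/-- Asymptotic Riemann-Roch. -/
theorem asymptotic {d : ℕ} (hX : topologicalKrullDim X = d) {L : X.Modules} (hA : CohB1.IsAmple L) :
    ∃ C : ℚ, ∀ n : ℕ, |(Module.finrank k (Coh.HH X (CohB1.tensorPow L n) 0) : ℚ) -
        ((((-1 : ℤ) ^ d * Vanish.sym k X d (List.replicate d L) (Coh.structureModule X) : ℤ)) : ℚ) / (d.factorial : ℚ) *
          (n : ℚ) ^ d| ≤ C * ((n : ℚ) + 1) ^ (d - 1) := by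
  have := Curves.GlobalSections.isNoetherian_of_proper k X
  obtain ⟨n₀, hn₀⟩ := SurfInt.AmpleVanish.exists_subsingleton k hA (Twist.isCoh_structureModule X)
  let a : ℕ → ℚ := fun i => (((-1 : ℤ) ^ i * Vanish.sym k X d (List.replicate i L) (Coh.structureModule X) : ℤ) : ℚ) /
    (i.factorial : ℚ)
  let p : Polynomial ℚ := (∑ i ∈ Finset.range (d + 1), Polynomial.C (a i) * descPochhammer ℚ i) -
    Polynomial.C (a d) * Polynomial.X ^ d
  have hp : p.natDegree ≤ d - 1 := by
    refine Polynomial.natDegree_le_iff_coeff_eq_zero.2 fun N hN => ?_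
    have hNd : d ≤ N := by omega
    simp only [p, Polynomial.coeff_sub, Polynomial.finsetSum_coeff, Polynomial.coeff_C_mul, Polynomial.coeff_X_pow]
    rw [Finset.sum_range_succ, Finset.sum_eq_zero fun i hi => ?_]
    · rcases hNd.eq_or_lt with rfl | hlt
      · have := (monic_descPochhammer ℚ d).coeff_natDegree
        rw [descPochhammer_natDegree] at this
        simp [this]
      · have : (descPochhammer ℚ d).coeff N = 0 :=
          Polynomial.coeff_eq_zero_of_natDegree_lt (by rw [descPochhammer_natDegree]; exact hlt)
        simp [this, hlt.ne']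
    · rw [Finset.mem_range] at hi
      rw [Polynomial.coeff_eq_zero_of_natDegree_lt (by rw [descPochhammer_natDegree]; omega), mul_zero]
  obtain ⟨C, hC⟩ := exists_bound p hp
  let err : ℕ → ℚ := fun n => |(Module.finrank k (Coh.HH X (CohB1.tensorPow L n) 0) : ℚ) - a d * (n : ℚ) ^ d|
  let B := ∑ j ∈ Finset.range n₀, err j
  refine ⟨max C B, fun n => ?_⟩
  change err n ≤ _
  have h1 : (1 : ℚ) ≤ ((n : ℚ) + 1) ^ (d - 1) := one_le_pow₀ (by simp)
  by_cases hn : n < n₀
  · calc err n ≤ B := Finset.single_le_sum (f := err) (fun j _ => abs_nonneg _) (Finset.mem_range.2 hn)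
      _ ≤ max C B := le_max_right _ _
      _ ≤ max C B * ((n : ℚ) + 1) ^ (d - 1) := le_mul_of_one_le_right
          ((Finset.sum_nonneg fun j _ => abs_nonneg _).trans (le_max_right C B)) h1
  · have hh : (Module.finrank k (Coh.HH X (CohB1.tensorPow L n) 0) : ℚ) - a d * (n : ℚ) ^ d = p.eval (n : ℚ) := by
      have hvan : ∀ q : ℕ, Subsingleton (Coh.HH X (CohB1.tensorPow L n) (q + 1)) := fun q =>
        haveI := hn₀ n (not_lt.1 hn) q
        (Curves.LES.isoK k (leftUnit (CohB1.tensorPow L n)) (q + 1)).symm.toEquiv.subsingleton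
      have he : Curv2.euler k X (CohB1.tensorPow L n) = (Module.finrank k (Coh.HH X (CohB1.tensorPow L n) 0) : ℤ) := by
        unfold Curv2.euler
        rw [finsum_eq_single _ 0 fun q hq => ?_]
        · simp
        · obtain ⟨q, rfl⟩ := Nat.exists_eq_succ_of_ne_zero hq
          haveI := hvan q
          simp [Module.finrank_zero_of_subsingleton]
      have he' := congrArg (fun z : ℤ => (z : ℚ)) (he.symm.trans (euler_pow k hX hA.1 n))
      simp only [Int.cast_natCast, Int.cast_sum] at he'
      rw [he']
      simp only [p, Polynomial.eval_sub, Polynomial.eval_finsetSum, Polynomial.eval_mul, Polynomial.eval_C,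
        Polynomial.eval_pow, Polynomial.eval_X]
      congr 1
      refine Finset.sum_congr rfl fun i _ => ?_
      simp only [a, Int.cast_mul, Int.cast_pow, Int.cast_neg, Int.cast_one, Int.cast_natCast]
      rw [Nat.cast_choose_eq_descPochhammer_div]
      ring
    simp only [err]
    rw [hh]
    exact (hC n).trans (mul_le_mul_of_nonneg_right (le_max_left _ _) (by positivity))

end Groth.Agent.H97.AsympRR
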