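import Groth.Agent.Lib.IntTheory.Push
import Groth.Agent.Lib.Cyc.PP.FinStalk
import Groth.Agent.Lib.Cyc.FieldDim
import Groth.Agent.H75.RedKer
import Groth.Agent.H97.IntMult

/-! The degree formula for intersection symbols. -/

set_option autoImplicit false
set_option linter.style.haveILetI false
universe u
open CategoryTheory CategoryTheory.Limits AlgebraicGeometry TopologicalSpace

namespace Groth.Agent.H97.PushInt

open Groth.Agent.Lib Groth.Agent.Lib.Snapper

/-- The ideal of an integral closed subscheme is the ideal of its generic point. -/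
theorem eq_ptIdeal {Y : Scheme.{u}} (Z : Y.IdealSheafData) [IsIntegral Z.subscheme] :
    Z = _root_.IntMult.ptIdeal (Z.subschemeι (genericPoint Z.subscheme)) := by
  have h := H75.RedKer.ker_eq_vanishingIdeal Z.subschemeι
  rw [Scheme.IdealSheafData.ker_subschemeι] at h
  refine h.trans (congrArg Scheme.IdealSheafData.vanishingIdeal (Closeds.ext ?_))
  have hg := (genericPoint_spec Z.subscheme).image Z.subschemeι.continuous
  rw [Set.image_univ] at hg
  exact hg.def.symm

/-- The ideal of the scheme theoretic image of an integral scheme. -/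
theorem ker_eq_ptIdeal {W X : Scheme.{u}} [IsIntegral W] (h : W ⟶ X) :
    h.ker = _root_.IntMult.ptIdeal (h (genericPoint W)) := by
  refine (H75.RedKer.ker_eq_vanishingIdeal h).trans
    (congrArg Scheme.IdealSheafData.vanishingIdeal (Closeds.ext ?_))
  have hg := (genericPoint_spec W).image h.continuous
  rw [Set.image_univ] at hg
  exact hg.def.symm

/-- The residue degree at the generic point of a closed subscheme. -/
theorem residueDegree_subschemeι_comp {Y X : Scheme.{u}} (f : Y ⟶ X) (Z : Y.IdealSheafData) (w : Z.subscheme) :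
    (Z.subschemeι ≫ f).residueDegree w = f.residueDegree (Z.subschemeι w) := by
  rw [Cyc.Residue.residueDegree_comp,
    Cyc.Residue.residueDegree_eq_one_of_surjective w (Cyc.FieldDim.residueFieldMap_surjective Z.subschemeι w),
    mul_one]

variable {k : Type u} [Field k] {X Y : Scheme.{u}} (pX : X ⟶ Spec (CommRingCat.of k))
  (pY : Y ⟶ Spec (CommRingCat.of k)) [LocallyOfFiniteType pX] [LocallyOfFiniteType pY]

omit [LocallyOfFiniteType pX] in
theorem deltaCompat (f : Y ⟶ X) (hf : f ≫ pX = pY) :
    _root_.Cyc.DeltaCompat f (Cyc.FieldDim.fdelta pY) (Cyc.FieldDim.fdelta pX) := fun y => by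
  subst hf
  refine ⟨VarDim.Basic.tdAt f y, ?_, ?_⟩
  · have hlt : Cyc.Residue.trdegAt f y < Cardinal.aleph0 := by
      refine lt_of_le_of_lt (le_add_self (b := Cyc.Residue.trdegAt pX (f y))) ?_
      rw [← Cyc.Residue.trdegAt_comp, VarDim.Basic.trdegAt_eq_pdim]
      exact Cardinal.natCast_lt_aleph0
    exact (Cardinal.cast_toNat_of_lt_aleph0 hlt).symm
  · rw [VarDim.Basic.fdelta_eq, VarDim.Basic.fdelta_eq, VarDim.Fibre.pdim_eq_add (f ≫ pX) pX f rfl y]
    push_cast
    rfl

/-- The residue degree vanishes when the dimension drops. -/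
theorem residueDegree_eq_zero (f : Y ⟶ X) (hf : f ≫ pX = pY) {y : Y}
    (h : VarDim.Basic.pdim pX (f y) ≠ VarDim.Basic.pdim pY y) : f.residueDegree y = 0 := by
  haveI : LocallyOfFiniteType f := by
    have : LocallyOfFiniteType (f ≫ pX) := by rw [hf]; infer_instance
    exact locallyOfFiniteType_of_comp f pX
  by_contra hne
  refine h ?_
  let := (f.residueFieldMap y).hom.toAlgebra
  have hfin : (f.residueFieldMap y).hom.Finite := Module.finite_of_finrank_pos (Nat.pos_of_ne_zero hne)
  have h0 := (Cyc.Residue.trdegAt_eq_zero_iff_eq (deltaCompat pX pY f hf) y).1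
    (Cyc.Residue.trdegAt_eq_zero_of_finite y hfin)
  rw [VarDim.Basic.fdelta_eq, VarDim.Basic.fdelta_eq] at h0
  exact_mod_cast h0.symm

omit pX pY in
/-- The symbol of the direct image of the structure sheaf of an integral closed subscheme. -/
theorem sym_push_closure [X.Over (Spec (CommRingCat.of k))] [Y.Over (Spec (CommRingCat.of k))]
    [IsProper (X ↘ Spec (CommRingCat.of k))] [IsProper (Y ↘ Spec (CommRingCat.of k))]
    (f : Y ⟶ X) (hf : f ≫ (X ↘ Spec (CommRingCat.of k)) = Y ↘ Spec (CommRingCat.of k))
    {N : ℕ} (hN : topologicalKrullDim X ≤ N) {l : List X.Modules} (hl : ∀ M ∈ l, PicF.IsInvertible M)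
    {y : Y} (hy : VarDim.Basic.pdim (Y ↘ Spec (CommRingCat.of k)) y = l.length) :
    Vanish.sym k X N l ((Coh.push f).obj (_root_.Cyc.closureStructureSheaf y)) =
      (f.residueDegree y : ℤ) * Vanish.sym k X N l (_root_.Cyc.closureStructureSheaf (f y)) := by
  let pX := X ↘ Spec (CommRingCat.of k)
  let pY := Y ↘ Spec (CommRingCat.of k)
  haveI := Curves.GlobalSections.isNoetherian_of_proper k X
  haveI := Curves.GlobalSections.isNoetherian_of_proper k Y
  haveI := IntTheory.Push.isProper f hf
  have hfin := Finite.cohFinite k X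
  let F := _root_.Cyc.closureStructureSheaf y
  have hF : Coh.IsCoh F := Devissage.Closure.isCoh_closureStructureSheaf y
  have hG := Cyc.PP.Push.isCoh_push f hF
  let T : Closeds X := ⟨closure {f y}, isClosed_closure⟩
  have hsupp : CohB1.support ((Coh.push f).obj F) ⊆ T :=
    IntTheory.Push.support_push_subset f isClosed_closure fun w hw =>
      specializes_iff_mem_closure.1
        ((specializes_iff_mem_closure.2 (Devissage.Closure.support_closureStructureSheaf y hw)).map f.continuous)
  have hT : topologicalKrullDim (T : Set X) = VarDim.Basic.pdim pX (f y) :=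
    VarDim.Basic.topologicalKrullDim_isGenericPoint pX (isGenericPoint_closure (x := f y))
  have hle : VarDim.Basic.pdim pX (f y) ≤ l.length := hy ▸ VarDim.Fibre.pdim_apply_le pY pX f hf y
  rcases hle.lt_or_eq with hlt | heq
  · rw [residueDegree_eq_zero pX pY f hf (y := y) (by rw [hy]; exact hlt.ne), Nat.cast_zero, zero_mul]
    refine Vanish.sym_eq_zero hfin hN l hl _ hG (lt_of_le_of_lt (Devissage.Dim.dim_mono hsupp) ?_)
    rw [hT]
    exact_mod_cast hlt
  · have hd : topologicalKrullDim (T : Set X) ≤ l.length := by rw [hT, heq]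
    rw [IntTheory.Additive.eq_sum (IntTheory.Additive.isAdd_sym hfin hN hl)
      (IntTheory.Additive.vanishBelow_sym hfin hN hl rfl) hG hsupp hd,
      Finset.sum_eq_single (f y)]
    · congr 2
      have hle' : _root_.Cyc.CohLe (Cyc.FieldDim.fdelta pY) (l.length : ℤ) F := ⟨hF, fun w hw => by
        rw [VarDim.Basic.fdelta_eq]
        exact_mod_cast hy ▸ VarDim.Basic.pdim_le pY (specializes_iff_mem_closure.2
          (Devissage.Closure.support_closureStructureSheaf y (not_subsingleton_iff_nontrivial.2 hw)))⟩
      rw [Cyc.PP.FinStalk.length_push f F (Cyc.FieldDim.isDimFun_fdelta pY) (deltaCompat pX pY f hf) hle'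
        (by rw [VarDim.Basic.fdelta_eq, heq]), Finset.sum_eq_single y]
      · rw [Devissage.Closure.length_closureStructureSheaf y]; simp
      · intro w hw hne
        rw [Set.Finite.mem_toFinset] at hw
        have h1 := Cyc.PP.Iso.delta_eq f (deltaCompat pX pY f hf) hle' (by rw [VarDim.Basic.fdelta_eq, heq]) hw
        rw [VarDim.Basic.fdelta_eq] at h1
        refine absurd (VarDim.Basic.eq_of_pdim_le pY (specializes_iff_mem_closure.2
          (Devissage.Closure.support_closureStructureSheaf y (not_subsingleton_iff_nontrivial.2 hw.2))) ?_).symm hne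
        rw [hy]; exact_mod_cast h1.ge
      · intro hnm
        rw [Set.Finite.mem_toFinset] at hnm
        by_cases hs : Nontrivial (F.presheaf.stalk y)
        · exact absurd ⟨rfl, hs⟩ hnm
        · haveI := not_nontrivial_iff_subsingleton.1 hs
          rw [Module.length_eq_zero, zero_mul]
    · intro z hz hne
      rw [Set.Finite.mem_toFinset] at hz
      refine absurd (IntTheory.Additive.maximal_of_topPts T.isClosed hd hz (f y) (subset_closure rfl)
        (specializes_iff_mem_closure.2 hz.1)).symm hne
    · intro hnm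
      rw [Set.Finite.mem_toFinset] at hnm
      exact absurd ⟨subset_closure rfl, hT.trans (by rw [heq])⟩ hnm

end Groth.Agent.H97.PushInt
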