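import Groth.Agent.H97.CurveProj
import Groth.Agent.H97.GenLocusAffine
import Groth.Agent.H97.CurvePositivity
import Groth.Agent.S7669

/-! A curve is affine or projective. -/

set_option autoImplicit false
universe u
open CategoryTheory CategoryTheory.Limits AlgebraicGeometry TopologicalSpace

namespace Groth.Agent.H97.CurveDicho

open Groth.Agent.Lib TensorMod Ample.GenLocus

/-- A nonzero section with a zero has positive degree. -/
theorem deg_pos_of_section (k : Type u) [Field k] {X : Scheme.{u}} [X.Over (Spec (CommRingCat.of k))]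
    [IsIntegral X] [IsProper (X ↘ (Spec (CommRingCat.of k)))] (hdim : topologicalKrullDim X ≤ 1)
    {L : X.Modules} (hL : PicF.IsInvertible L) {s : Coh.structureModule X ⟶ L} (hs : s ≠ 0)
    {z : X} (hz : z ∉ CohB1.genLocus L s) : 0 < Curv2.deg k X L 1 := by
  haveI := Curves.GlobalSections.noetherianSpace_of_proper k X
  have gO := Curves.Degree.isGood_structureModule (k := k) (X := X) hdim
  have gL := Curves.Degree.isGood (k := k) hdim hL
  have hO := PicLoc.isInvertible_structureModule X
  have hle := Curves.Positivity.deg_le_of_ne_zero hdim hO hL gO gL hs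
  rw [Curves.Degree.deg_structureModule] at hle
  rcases eq_or_lt_of_le hle with h | h
  · exfalso
    haveI := Curves.Positivity.isIso_of_deg_eq hdim hO hL gO gL hs
      (by rw [Curves.Degree.deg_structureModule]; exact h)
    refine hz ?_
    have htop : CohB1.genLocus L s = ⊤ := by
      rw [← genLocus_id, ← genLocus_comp_iso (𝟙 (Coh.structureModule X)) (asIso s)]
      simp
    rw [htop]
    trivial
  · exact h

theorem affine_or_projective (k : Type u) [Field k] (X : Scheme.{u}) [X.Over (Spec (CommRingCat.of k))] [IsIntegral X]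
    [IsSeparated (X ↘ (Spec (CommRingCat.of k)))] [LocallyOfFiniteType (X ↘ (Spec (CommRingCat.of k)))]
    [QuasiCompact (X ↘ (Spec (CommRingCat.of k)))] (hdim : topologicalKrullDim X = 1) :
    IsAffine X ∨ ∃ (d : ℕ) (c : X ⟶ CohB1.ProjSpace d k), IsClosedImmersion c ∧
      c ≫ CohB1.ProjSpace.toSpec d k = X ↘ (Spec (CommRingCat.of k)) := by
  obtain ⟨d, Y, c, j, hc, hj, hjk, hdense, hstd, hfin, hclosed⟩ := CurveProj.exists_completion k X hdim.le
  by_cases hsurj : Set.range j.base = Set.univ
  · right
    haveI : Surjective j := ⟨Set.range_eq_univ.1 hsurj⟩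
    haveI : Epi j.base := (TopCat.epi_iff_surjective _).2 (Set.range_eq_univ.1 hsurj)
    haveI : IsIso j := IsOpenImmersion.isIso j
    exact ⟨d, j ≫ c, inferInstance, by rw [Category.assoc, hjk]⟩
  left
  letI : Y.Over (Spec (CommRingCat.of k)) := ⟨c ≫ CohB1.ProjSpace.toSpec d k⟩
  haveI := Groth.Agent.Lib.ProjSpace.Basic.isProper_toSpec d k
  haveI : IsProper (Y ↘ (Spec (CommRingCat.of k))) := inferInstanceAs (IsProper (c ≫ CohB1.ProjSpace.toSpec d k))
  haveI := Curves.GlobalSections.isNoetherian_of_proper k Y
  haveI : IrreducibleSpace Y := by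
    haveI : PreirreducibleSpace Y := ⟨by
      rw [← hdense.closure_eq]
      exact ((IrreducibleSpace.isIrreducible_univ (X := X)).image j.base (by fun_prop)).isPreirreducible.closure
        |> fun h => by rwa [Set.image_univ] at h⟩
    exact { toNonempty := ⟨j.base (Classical.arbitrary X)⟩ }
  haveI : QuasiCompact j := by
    haveI : QuasiCompact (j ≫ c ≫ CohB1.ProjSpace.toSpec d k) := by rw [hjk]; infer_instance
    exact QuasiCompact.of_comp j (c ≫ CohB1.ProjSpace.toSpec d k)
  haveI : IsReduced Y := IsSchemeTheoreticallyDominant.isReduced j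
  haveI : IsIntegral Y := isIntegral_of_irreducibleSpace_of_isReduced Y
  -- dimension one
  have hdY : topologicalKrullDim Y = 1 := by
    have hg : j.base (genericPoint X) = genericPoint Y := ((genericPoint_spec X).image j.continuous).eq
      (by rw [Set.image_univ, hdense.closure_eq]; exact genericPoint_spec Y)
    have e1 := PointDim.Basic.topologicalKrullDim_closure_singleton (Y ↘ (Spec (CommRingCat.of k))) (genericPoint Y)
    have e2 := PointDim.Basic.topologicalKrullDim_closure_singleton (X ↘ (Spec (CommRingCat.of k))) (genericPoint X)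
    rw [genericPoint_closure, IsHomeomorph.topologicalKrullDim_eq _ (Homeomorph.Set.univ _).isHomeomorph] at e1 e2
    rw [e1, PointDim.Basic.natTdeg, ← hg, ← PointDim.Basic.tdeg_openImmersion j (Y ↘ (Spec (CommRingCat.of k))) (X ↘ (Spec (CommRingCat.of k))) hjk (genericPoint X),
      ← PointDim.Basic.natTdeg, ← e2, hdim]
  let U := j.opensRange
  have hUset : ((U : Y.Opens) : Set Y) = Set.range j.base := rfl
  haveI : T1Space ↥((U : Set Y)ᶜ) := ⟨fun y => by
    have h := (hclosed y.1 y.2).preimage (continuous_subtype_val (p := (· ∈ (U : Set Y)ᶜ)))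
    convert h using 1
    ext z
    simp [Subtype.ext_iff]⟩
  haveI : Finite ↥((U : Set Y)ᶜ) := hfin.to_subtype
  obtain ⟨⟨L, s, hL, hs⟩, -⟩ := Groth.Agent.S7669.result Y U inferInstance fun y hy =>
    ⟨inferInstance, DimOneSetup.ringKrullDim_stalk_le_one hdY.le y⟩
  obtain ⟨z, hz⟩ := (Set.ne_univ_iff_exists_notMem _).1 hsurj
  have hz' : z ∉ CohB1.genLocus L s := by rw [hs]; exact hz
  have hs0 : s ≠ 0 := CurvePositivity.ne_zero_of_mem_genLocus hL
    (x := j.base (genericPoint X)) (by rw [hs]; exact ⟨_, rfl⟩)
  have hA := CurvePositivity.isAmple_of_deg_pos k hdY hL (deg_pos_of_section k hdY.le hL hs0 hz')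
  have h := GenLocusAffine.isAffineOpen_genLocus (Y ↘ (Spec (CommRingCat.of k))) hA s
  rw [hs] at h
  haveI : IsAffine (U : Scheme.{u}) := h
  exact IsAffine.of_isIso j.isoOpensRange.hom

end Groth.Agent.H97.CurveDicho
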