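import Groth.Agent.Lib.Snapper.Finite
import Groth.Agent.Lib.Snapper.DimBound
import Groth.Agent.Lib.Devissage.Closure
import Groth.Agent.Lib.Modules.DualAdj
import Groth.Agent.Lib.Modules.ProjFormula
import Groth.Agent.Lib.ParBun.Proper
import Groth.Agent.Lib.KRes.CohP
import Groth.Agent.Lib.Perfect.PCCoh

/-! Euler characteristics of twists of coherent sheaves with finite support. -/

set_option autoImplicit false
universe u
open CategoryTheory CategoryTheory.Limits AlgebraicGeometry TopologicalSpace

namespace Groth.Agent.H97.EulerFinite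

open Groth.Agent.Lib

variable {k : Type u} [Field k] {X : Scheme.{u}} [X.Over (Spec (CommRingCat.of k))]
  [IsProper (X ↘ (Spec (CommRingCat.of k)))]

/-- A closed point as a closed subscheme: locally free sheaves on it are free. -/
theorem exists_iso_free {n : ℕ} {Z : Scheme.{u}} [Subsingleton Z] {N : Z.Modules}
    (hN : FlatMod.IsFinLocFreeOfRank n N) : Nonempty (N ≅ FlatMod.freeMod Z n) ∨ IsEmpty Z := by
  rcases isEmpty_or_nonempty Z with h | ⟨⟨z⟩⟩
  · exact Or.inr h
  left
  obtain ⟨U, hz, ⟨e⟩⟩ := hN z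
  obtain rfl : U = ⊤ := top_unique fun w _ => Subsingleton.elim z w ▸ hz
  haveI : IsIso (Scheme.Opens.ι (⊤ : Z.Opens)) := inferInstanceAs (IsIso (Scheme.topIso Z).hom)
  let F := Scheme.Modules.pullback (inv (Scheme.Opens.ι (⊤ : Z.Opens)))
  let e1 := F.mapIso ((Scheme.Modules.restrictFunctorIsoPullback _).symm.app N ≪≫ e)
  exact ⟨((Scheme.Modules.pullbackId Z).app N).symm ≪≫
    ((Scheme.Modules.pullbackCongr (IsIso.inv_hom_id (Scheme.Opens.ι (⊤ : Z.Opens))).symm).app N) ≪≫
    ((Scheme.Modules.pullbackComp _ _).app N).symm ≪≫ e1 ≪≫ TensorMod.LocFree.pullbackFreeModIso _ n⟩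

/-- Euler characteristic of the push of a free module. -/
theorem euler_push_free {Z : Scheme.{u}} (i : Z ⟶ X) [IsClosedImmersion i] :
    ∀ n : ℕ, Coh.IsCoh ((Coh.push i).obj (FlatMod.freeMod Z n)) ∧
      Curv2.euler k X ((Coh.push i).obj (FlatMod.freeMod Z n)) =
        n * Curv2.euler k X ((Coh.push i).obj (Coh.structureModule Z)) := by
  haveI := Curves.GlobalSections.isNoetherian_of_proper k X
  haveI : (Coh.push i).Additive := inferInstanceAs (Scheme.Modules.pushforward i).Additive
  intro n
  induction n with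
  | zero =>
    have hz : IsZero ((Coh.push i).obj (FlatMod.freeMod Z 0)) := Functor.map_isZero _ <| by
      rw [IsZero.iff_id_eq_zero]; exact Sigma.hom_ext _ _ fun j => j.elim0
    have hc : Coh.IsCoh ((Coh.push i).obj (FlatMod.freeMod Z 0)) := KRes.CohP.isCoh_of_isZero (hZ := hz)
    refine ⟨hc, ?_⟩
    obtain ⟨d, hd⟩ := Snapper.DimBound.exists_dim_bound k X
    rw [Snapper.Chi.euler_eq_eulerCharLE hd, Snapper.Chi.eulerCharLE_isZero hz]
    simp
  | succ n ih =>
    obtain ⟨hc, he⟩ := ih
    let O := Coh.structureModule Z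
    let S : ShortComplex Z.Modules := ShortComplex.mk (Sigma.ι (fun _ : Fin (n + 1) => O) 0)
      (Sigma.desc (Fin.cases (0 : O ⟶ FlatMod.freeMod Z n) fun j => Sigma.ι (fun _ : Fin n => O) j))
      (by simp)
    let σ : S.Splitting :=
      { r := Sigma.desc (Fin.cases (𝟙 O) fun _ => 0)
        s := Sigma.desc fun j => Sigma.ι (fun _ : Fin (n + 1) => O) j.succ
        f_r := by simp [S]
        s_g := by refine Sigma.hom_ext _ _ fun j => ?_; simp [S, O]
        id := by
          refine Sigma.hom_ext _ _ fun j => ?_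
          refine Fin.cases ?_ (fun j => ?_) j <;> simp [S] <;> exact Sigma.ι_desc _ _ }
    have hS := (σ.map (Coh.push i)).shortExact
    have h1 : Coh.IsCoh ((Coh.push i).obj O) := Devissage.Closure.isCoh_push_structureModule i
    have h2 : Coh.IsCoh ((Coh.push i).obj (FlatMod.freeMod Z (n + 1))) :=
      Perfect.PCCoh.isCoh_of_extension hS h1 hc
    refine ⟨h2, ?_⟩
    have h3 := ParBun.Proper.euler_add (k := k) hS h1 h2 hc
    change Curv2.euler k X ((Coh.push i).obj (FlatMod.freeMod Z (n + 1))) =
      Curv2.euler k X ((Coh.push i).obj O) + Curv2.euler k X ((Coh.push i).obj (FlatMod.freeMod Z n)) at h3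
    rw [h3, he]
    push_cast
    ring

theorem ShortExact'.map {E : X.Modules} (hE' : Modules.DualBasis.HasDBases E) {S : ShortComplex X.Modules}
    (hS : S.ShortExact) : (S.map (Modules.DualAdj.tensorL E)).ShortExact := by
  haveI : PreservesLimitsOfSize.{0, 0} (Modules.DualAdj.tensorL E) :=
    (Modules.DualAdj.adjunction hE').rightAdjoint_preservesLimits
  haveI : PreservesFiniteLimits (Modules.DualAdj.tensorL E) := PreservesLimitsOfSize0.preservesFiniteLimits _
  haveI : PreservesColimitsOfSize.{0, 0} (Modules.DualAdj.tensorL E) := preservesColimitsOfSize_shrink _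
  haveI : PreservesFiniteColimits (Modules.DualAdj.tensorL E) := PreservesColimitsOfSize0.preservesFiniteColimits _
  exact hS.map_of_exact _

/-- `χ(G ⊗ E) = n χ(G)` when `G` has finite support. -/
theorem euler_tensor {n : ℕ} {E : X.Modules} (hE : FlatMod.IsFinLocFreeOfRank n E) {G : X.Modules}
    (hG : Coh.IsCoh G) (hsupp : ∀ y ∈ CohB1.support G, IsClosed ({y} : Set X)) :
    Curv2.euler k X (CohB1.tensorMod E G) = n * Curv2.euler k X G := by
  haveI := Curves.GlobalSections.isNoetherian_of_proper k X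
  have hE' := Modules.DualBasis.hasDBases_of_isFinLocFree (TensorMod.LocFree.of_rank hE)
  haveI := Modules.DualAdj.tensorL_preservesHomology hE'
  obtain ⟨d, hd⟩ := Snapper.DimBound.exists_dim_bound k X
  have hEc : Coh.IsCoh E := Perfect.Coherent.isCoh_of_isFinLocFree (TensorMod.LocFree.of_rank hE)
  have hcoh : ∀ {M : X.Modules}, Coh.IsCoh M → Coh.IsCoh (CohB1.tensorMod E M) := fun h => by
    obtain ⟨h1, h2⟩ := hEc
    obtain ⟨h3, h4⟩ := h
    exact ⟨TensorMod.TensorQCoh.isQCoh_tensorMod E _, TensorMod.TensorQCoh.isFiniteType_tensorMod E _⟩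
  have hz : ∀ {M : X.Modules}, IsZero M → IsZero (CohB1.tensorMod E M) := fun h =>
    Functor.map_isZero (Modules.DualAdj.tensorL E) h
  refine ProperFin.Devissage.devissage
    (fun M => Curv2.euler k X (CohB1.tensorMod E M) = n * Curv2.euler k X M)
    ⟨CohB1.support G, haveI := hG.2; Modules.Support.isClosed_support G⟩
    ⟨fun M hM => ?_, fun S hS h₁ h₂ h₃ => ?_⟩ (fun y hy => ?_) G ⟨hG, subset_rfl⟩
  · rw [Snapper.Chi.euler_eq_eulerCharLE hd, Snapper.Chi.euler_eq_eulerCharLE hd,
      Snapper.Chi.eulerCharLE_isZero hM, Snapper.Chi.eulerCharLE_isZero (hz hM), mul_zero]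
  · have e := ParBun.Proper.euler_add (k := k) (ShortExact'.map hE' hS)
      (hcoh h₁.1) (hcoh h₂.1) (hcoh h₃.1)
    have e' := ParBun.Proper.euler_add (k := k) hS h₁.1 h₂.1 h₃.1
    change Curv2.euler k X (CohB1.tensorMod E S.X₂) =
      Curv2.euler k X (CohB1.tensorMod E S.X₁) + Curv2.euler k X (CohB1.tensorMod E S.X₃) at e
    exact ⟨fun a b => by rw [e, a, b, e']; ring, fun a b => by rw [e', mul_add] at a; linarith,
      fun a b => by rw [e', mul_add] at b; linarith⟩
  · refine ⟨Cyc.closureStructureSheaf y, Devissage.Closure.cohIn_closureStructureSheaf y,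
      Devissage.Closure.length_closureStructureSheaf y, ?_⟩
    let i := (IntMult.ptIdeal y).subschemeι
    haveI : Subsingleton (IntMult.ptIdeal y).subscheme := ⟨fun a b => i.isClosedEmbedding.injective (by
      have h : ∀ a, i a = y := fun a => by
        have : i a ∈ closure ({y} : Set X) := Devissage.Closure.range_ptIdeal y ▸ Set.mem_range_self a
        rwa [(hsupp y hy).closure_eq] at this
      rw [h a, h b])⟩
    have hP : FlatMod.IsFinLocFreeOfRank n ((Scheme.Modules.pullback i).obj E) :=
      TensorMod.LocFree.rank_pullback i hE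
    have hne : Nonempty (IntMult.ptIdeal y).subscheme := by
      have : y ∈ Set.range i := by rw [Devissage.Closure.range_ptIdeal]; exact subset_closure rfl
      exact ⟨this.choose⟩
    obtain ⟨e⟩ := (exists_iso_free hP).resolve_right (not_isEmpty_of_nonempty _)
    let α : CohB1.tensorMod E (Cyc.closureStructureSheaf y) ≅
        (Coh.push i).obj (FlatMod.freeMod _ n) :=
      ((Modules.ProjFormula.projIso i (E := E) hE').app (Coh.structureModule _)) ≪≫
        (Coh.push i).mapIso (TensorMod.Basic.rightUnit _ ≪≫ e)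
    exact (Curves.Euler.euler_eq_of_iso α).trans (euler_push_free i n).2

end Groth.Agent.H97.EulerFinite
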