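import Groth.Agent.Lib.Snapper.Twist
import Groth.Agent.Lib.Ample.Basis
import Groth.Agent.Lib.Ample.QAffCrit
import Groth.Agent.Lib.Ample.GG
import Groth.Agent.Lib.RefHull.SecHom
import Groth.Agent.Lib.ClSub.Quot
import Groth.Agent.H34.HOne
import Groth.Agent.H34.UFDExt.Gen

/-! Vanishing of `H¹` of twisted ideals implies ampleness. -/

set_option autoImplicit false
set_option linter.style.haveILetI false
universe u
open CategoryTheory CategoryTheory.Limits AlgebraicGeometry TopologicalSpace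

namespace Groth.Agent.H97.AmpleH1

open Groth.Agent.Lib Groth.Agent.Lib.Modules Groth.Agent.Lib.Ample.GenLocus
open Groth.Agent.Lib.TensorMod.Basic (rightUnit comm)
open Groth.Agent.Lib.Ample.GG (gm)

variable {X : Scheme.{u}}

/-- A section of a quotient of an invertible module kills the stalk where it is zero and its lift generates. -/
theorem subsingleton_of_gen {M Q : X.Modules} (g : M ⟶ Q) [Epi g] {U : X.Opens} {e : Γ(M, U)}
    (he : TensorMod.Gen.IsGen M U e) {x : X} (hx : x ∈ U)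
    (h : StalkModule.stalkMapₗ g x (gm hx e) = 0) : Subsingleton (Q.presheaf.stalk x) := by
  refine subsingleton_of_forall_eq 0 fun q => ?_
  obtain ⟨w, rfl⟩ := (StalkModule.epi_iff_stalkMapₗ_surjective g).1 inferInstance x q
  obtain ⟨a, rfl⟩ := (H34.UFDExt.Gen.IsGen.stalk_bijective (M := M) he hx).2 w
  exact (map_smul _ _ _).trans (by rw [show StalkModule.stalkMapₗ g x (M.presheaf.germ U x hx e) = 0 from h, smul_zero])

/-- **`H¹`-vanishing of twisted ideals implies ampleness.** -/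
theorem affineAt {L : X.Modules} (hL : PicF.IsInvertible L) {x : X} (hx : IsClosed ({x} : Set X))
    (h : ∀ (I : X.Modules) (i : I ⟶ Coh.structureModule X), Mono i → Coh.IsQCoh I →
      ∃ n : ℕ, Subsingleton (Coh.HH X (CohB1.tensorMod I (CohB1.tensorPow L (n + 1))) 1)) :
    Ample.Pow.AffineAt L x := by
  classical
  obtain ⟨_, ⟨U, hU, rfl⟩, hxU, -⟩ := X.isBasis_affineOpens.exists_subset_of_mem_open (Set.mem_univ x) isOpen_univ
  let Z : Closeds X := ⟨(U : Set X)ᶜ ∪ {x}, U.isOpen.isClosed_compl.union hx⟩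
  let I := Scheme.IdealSheafData.vanishingIdeal Z
  haveI : (_root_.ClSub.idealMod I).IsQuasicoherent := Ample.QAffCrit.isQCoh_idealMod I
  obtain ⟨n, hn⟩ := h (_root_.ClSub.idealMod I) (_root_.ClSub.idealModι I)
    (inferInstanceAs (Mono (kernel.ι _))) ‹_›
  let M := CohB1.tensorPow L (n + 1)
  have hM : PicF.IsInvertible M := TensorMod.Invertible.isInvertible_tensorPow hL (n + 1)
  let S := Snapper.Twist.twistSeq M (ClSub.Quot.idealSeq I)
  have hS : S.ShortExact := Snapper.Twist.twistSeq_shortExact hM (ClSub.Quot.idealSeq_shortExact I)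
  haveI := hS.epi_g
  haveI hS1 : Subsingleton (Coh.HH X S.X₁ 1) := H34.HOne.h1_of_iso (comm _ _) hn
  have hsupp : CohB1.support S.X₃ = (Z : Set X) := by
    rw [show S.X₃ = CohB1.tensorMod M (_root_.ClSub.quotMod I) from rfl, Snapper.Twist.support_twist hM,
      ClSub.Quot.support_quotMod, Scheme.IdealSheafData.coe_support_vanishingIdeal]
  -- trivialise near `x`
  obtain ⟨V, e₀, hxV, he₀⟩ := TensorMod.Gen.isInvertible_iff.1 hM x
  let φ : S.X₂ ≅ M := rightUnit M
  obtain ⟨W, hxW, hWU, hWV, hW⟩ : ∃ W : X.Opens, x ∈ W ∧ W ≤ U ∧ W ≤ V ∧ IsAffineOpen W := by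
    obtain ⟨_, ⟨W, hW, rfl⟩, hxW, hsub⟩ :=
      X.isBasis_affineOpens.exists_subset_of_mem_open (show x ∈ (U ⊓ V : X.Opens) from ⟨hxU, hxV⟩) (U ⊓ V).isOpen
    exact ⟨W, hxW, fun z hz => (hsub hz).1, fun z hz => (hsub hz).2, hW⟩
  have he := he₀.res hWV
  set e := TensorMod.Dual.rs M hWV e₀
  let g : M ⟶ S.X₃ := φ.inv ≫ S.g
  haveI : Epi g := epi_comp _ _
  -- the section of the quotient
  let v : ∀ z : (⊤ : X.Opens), S.X₃.presheaf.stalk z.1 := fun z =>
    if hz : z.1 = x then S.X₃.presheaf.germ W z.1 (hz ▸ hxW) (g.app W e) else 0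
  have hzero : ∀ z : X, z ≠ x → z ∈ U → ∀ w : S.X₃.presheaf.stalk z, w = 0 := fun z hzx hzU w => by
    haveI := Modules.Support.not_mem_support_iff.mp
      (show z ∉ CohB1.support S.X₃ by rw [hsupp]; exact fun hc => hc.elim (fun h => h hzU) hzx)
    exact Subsingleton.elim _ _
  obtain ⟨σ, hσ⟩ := RefHull.SecHom.exists_glue ⊤ v fun z => by
    by_cases hz : z.1 = x
    · refine ⟨W, hz ▸ hxW, le_top, g.app W e, fun y => ?_⟩
      by_cases hy : y.1 = x
      · simp only [v]; rw [dif_pos hy]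
      · simp only [v]; rw [dif_neg hy]
        exact (hzero y.1 hy (hWU y.2) _).symm
    · refine ⟨⟨({x} : Set X)ᶜ, hx.isOpen_compl⟩, hz, le_top, 0, fun y => ?_⟩
      simp only [v]; rw [dif_neg (show y.1 ≠ x from y.2)]
      exact (map_zero _).symm
  obtain ⟨s₀, hs₀⟩ := H34.HOne.app_top_surjective hS hS1 σ
  obtain ⟨s, hs⟩ := exists_hom_of_sec (φ.hom.app ⊤ s₀)
  have hgs : g.app ⊤ (sv s ⊤) = σ := by
    rw [hs, ← hs₀]
    change ((φ.hom ≫ φ.inv ≫ S.g).app ⊤) s₀ = _
    rw [Iso.hom_inv_id_assoc]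
  have key : ∀ {A : X.Opens} (z : X) (hz : z ∈ A),
      StalkModule.stalkMapₗ g z (gm hz (sv s A)) = v ⟨z, trivial⟩ := fun {A} z hz => by
    rw [← hσ ⟨z, trivial⟩, ← hgs]
    refine Eq.trans ?_ (StalkModule.stalkMapₗ_germ g (show z ∈ (⊤ : X.Opens) from trivial) (sv s ⊤))
    exact congrArg _ (((congrArg (gm hz) (rs_sv s (le_top : A ≤ ⊤))).symm.trans
      (RefHull.SecHom.germ_rs (le_top : A ≤ ⊤) hz (sv s ⊤))))
  -- `x` is in the locus
  have hxs : x ∈ CohB1.genLocus M s := by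
    obtain ⟨a, ha⟩ := exists_coord he (sv s W)
    refine ((genLocus_inf_eq he s ha).ge ((Scheme.mem_basicOpen _ _ _ hxW).2 ?_)).1
    by_contra hnu
    have h1 := key x hxW
    rw [show v ⟨x, trivial⟩ = S.X₃.presheaf.germ W x hxW (g.app W e) by simp [v]] at h1
    rw [ha, gm] at h1
    erw [StalkModule.germ_smul, map_smul, ← StalkModule.stalkMapₗ_germ g hxW e] at h1
    have hu := IsLocalRing.isUnit_one_sub_self_of_mem_nonunits _ hnu
    have h0 : StalkModule.stalkMapₗ g x (gm hxW e) = 0 := by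
      rw [← hu.smul_eq_zero, sub_smul, one_smul, sub_eq_zero]
      exact h1.symm
    have := subsingleton_of_gen g he hxW h0
    exact (show x ∈ CohB1.support S.X₃ by rw [hsupp]; exact Or.inr rfl) this
  -- the locus avoids the complement of `U`
  have hsub : CohB1.genLocus M s ≤ U := fun z hz => by
    by_contra hzU
    have hzx : z ≠ x := fun e => hzU (e ▸ hxU)
    obtain ⟨A, hzA, hA⟩ := (mem_genLocus_iff s).1 hz
    have := subsingleton_of_gen g hA hzA ((key z hzA).trans (by simp [v, hzx]))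
    exact (show z ∈ CohB1.support S.X₃ by rw [hsupp]; exact Or.inl hzU) this
  have haff := Ample.Basis.isAffineOpen_genLocus_inf hM s hU
  rw [inf_eq_left.2 hsub] at haff
  exact Ample.Pow.AffineAt.mk (Nat.succ_pos n) (Iso.refl _) s hxs haff

theorem isAmple [CompactSpace X] {L : X.Modules} (hL : PicF.IsInvertible L)
    (h : ∀ (I : X.Modules) (i : I ⟶ Coh.structureModule X), Mono i → Coh.IsQCoh I →
      ∃ n : ℕ, Subsingleton (Coh.HH X (CohB1.tensorMod I (CohB1.tensorPow L (n + 1))) 1)) :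
    CohB1.IsAmple L := by
  refine Ample.Pow.isAmple_iff.2 ⟨hL, inferInstance, fun z => ?_⟩
  obtain ⟨x, hxcl, hx⟩ := IsClosed.exists_closed_singleton (isClosed_closure (s := ({z} : Set X)))
    ⟨z, subset_closure rfl⟩
  obtain ⟨n, hn, s, hxs, hs⟩ := affineAt hL hx h
  exact ⟨n, hn, s, (specializes_iff_mem_closure.2 hxcl).mem_open (Opens.isOpen _) hxs, hs⟩

end Groth.Agent.H97.AmpleH1
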