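import Mathlib.AlgebraicGeometry.Morphisms.QuasiSeparated
import Mathlib.AlgebraicGeometry.Morphisms.Affine
import Mathlib.AlgebraicGeometry.Stalk
import Mathlib.Topology.Sober
import Mathlib.AlgebraicGeometry.Properties
import Mathlib.AlgebraicGeometry.Noetherian

/-! Images of finitely many points at which a birational-like morphism from an affine scheme is a
local isomorphism are contained in an affine open (reduced case). -/

set_option autoImplicit false
universe u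
open CategoryTheory AlgebraicGeometry TopologicalSpace

namespace Groth.Agent.H97.AffineImages

/-- `x` is the generic point of an irreducible component. -/
def IsGen {X : Scheme.{u}} (x : X) : Prop := closure ({x} : Set X) ∈ irreducibleComponents (X : Type u)

theorem IsGen.eq_of_specializes {X : Scheme.{u}} {x y : X} (hx : IsGen x) (h : y ⤳ x) : y = x := by
  have h1 : closure ({x} : Set X) ⊆ closure {y} :=
    closure_minimal (Set.singleton_subset_iff.2 h.mem_closure) isClosed_closure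
  exact ((specializes_iff_closure_subset.2
    (hx.2 isIrreducible_singleton.closure h1)).antisymm h).eq.symm

theorem exists_gen_specializes {X : Scheme.{u}} (x : X) : ∃ ξ : X, IsGen ξ ∧ ξ ⤳ x := by
  obtain ⟨C, hC, hsub⟩ := exists_mem_irreducibleComponents_subset_of_isIrreducible
    (closure {x}) isIrreducible_singleton.closure
  have hg := genericPoints.isGenericPoint_ofComponent ⟨C, hC⟩
  refine ⟨_, ?_, hg.specializes (hsub (subset_closure rfl))⟩
  show closure _ ∈ _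
  rw [hg.def]
  exact hC

theorem eq_zero_of_gen {X : Scheme.{u}} [IsReduced X] {U : X.Opens} (d : Γ(X, U))
    (h : ∀ ξ, IsGen ξ → ξ ∉ X.basicOpen d) : d = 0 := by
  refine eq_zero_of_basicOpen_eq_bot d (eq_bot_iff.2 fun y hy => ?_)
  obtain ⟨ξ, hξ, hξy⟩ := exists_gen_specializes y
  exact absurd (hξy.mem_open (X.basicOpen d).2 hy) (h ξ hξ)

/-- The prime ideal of sections not invertible at a point. -/
noncomputable def pt {X : Scheme.{u}} {U : X.Opens} (x : X) (hx : x ∈ U) : Ideal Γ(X, U) :=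
  (IsLocalRing.maximalIdeal (X.presheaf.stalk x)).comap (X.presheaf.germ U x hx).hom

instance {X : Scheme.{u}} {U : X.Opens} (x : X) (hx : x ∈ U) : (pt x hx).IsPrime :=
  Ideal.IsPrime.comap _

theorem mem_basicOpen_iff_notMem {X : Scheme.{u}} {U : X.Opens} (g : Γ(X, U)) (x : X)
    (hx : x ∈ U) : x ∈ X.basicOpen g ↔ g ∉ pt x hx := by
  rw [X.mem_basicOpen g x hx]
  simp [pt, Ideal.mem_comap, IsLocalRing.mem_maximalIdeal, mem_nonunits_iff]

theorem exists_mem_forall_basicOpen {X : Scheme.{u}} {U : X.Opens} (I : Ideal Γ(X, U))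
    (S : Finset X) (hS : ∀ x ∈ S, ∃ g ∈ I, x ∈ X.basicOpen g) :
    ∃ g ∈ I, ∀ x ∈ S, x ∈ X.basicOpen g := by
  classical
  have hU : ∀ x ∈ S, x ∈ U := fun x hx =>
    let ⟨g, _, hg⟩ := hS x hx; X.basicOpen_le g hg
  by_contra hcon
  push Not at hcon
  let p : X → Ideal Γ(X, U) := fun x => if h : x ∈ U then pt x h else ⊥
  have hp : ∀ x ∈ S, (p x).IsPrime := fun x hx => by
    simp only [p, dif_pos (hU x hx)]; infer_instance
  have hsub : (I : Set Γ(X, U)) ⊆ ⋃ x ∈ (S : Set X), p x := fun g hg => by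
    obtain ⟨x, hx, hxg⟩ := hcon g hg
    refine Set.mem_biUnion hx ?_
    simp only [p, dif_pos (hU x hx), SetLike.mem_coe]
    by_contra hn
    exact hxg ((mem_basicOpen_iff_notMem g x (hU x hx)).2 hn)
  rcases S.eq_empty_or_nonempty with rfl | ⟨x₀, hx₀⟩
  · obtain ⟨x, hx, -⟩ := hcon 0 I.zero_mem
    simp at hx
  obtain ⟨x, hx, hle⟩ := (Ideal.subset_union_prime x₀ x₀ fun x hx _ _ => hp x hx).1 hsub
  obtain ⟨g, hg, hxg⟩ := hS x hx
  have := hle hg
  simp only [p, dif_pos (hU x hx)] at this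
  exact (mem_basicOpen_iff_notMem g x (hU x hx)).1 hxg this

/-- The ideal of sections vanishing outside an open. -/
noncomputable def vanishOff {X : Scheme.{u}} (U O : X.Opens) : Ideal Γ(X, U) :=
  ⨅ (y : X) (hy : y ∈ U) (_ : y ∉ O), pt y hy

theorem basicOpen_le_of_mem_vanishOff {X : Scheme.{u}} {U O : X.Opens} {g : Γ(X, U)}
    (hg : g ∈ vanishOff U O) : X.basicOpen g ≤ O := by
  intro y hy
  by_contra hn
  simp only [vanishOff, Ideal.mem_iInf] at hg
  exact (mem_basicOpen_iff_notMem g y (X.basicOpen_le g hy)).1 hy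
    (hg y (X.basicOpen_le g hy) hn)

theorem mem_vanishOff {X : Scheme.{u}} {U O : X.Opens} {g : Γ(X, U)}
    (hg : X.basicOpen g ≤ O) : g ∈ vanishOff U O := by
  simp only [vanishOff, Ideal.mem_iInf]
  intro y hy hyO
  by_contra hn
  exact hyO (hg ((mem_basicOpen_iff_notMem g y hy).2 hn))

theorem exists_basicOpen {X : Scheme.{u}} {U : X.Opens} (hU : IsAffineOpen U) (O : X.Opens)
    (S : Finset X) (hSU : ∀ x ∈ S, x ∈ U) (hSO : ∀ x ∈ S, x ∈ O) :
    ∃ g : Γ(X, U), X.basicOpen g ≤ O ∧ ∀ x ∈ S, x ∈ X.basicOpen g := by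
  obtain ⟨g, hg, hg'⟩ := exists_mem_forall_basicOpen (vanishOff U O) S fun x hx => by
    obtain ⟨g, h1, h2⟩ := hU.exists_basicOpen_le (⟨x, hSO x hx⟩ : O) (hSU x hx)
    exact ⟨g, mem_vanishOff h1, h2⟩
  exact ⟨g, basicOpen_le_of_mem_vanishOff hg, hg'⟩

variable {T X : Scheme.{u}} (f : T ⟶ X)

/-- `x` is the image of a point at which `f` is a local isomorphism. -/
def IsGood (x : X) : Prop := ∃ t : T, f t = x ∧ IsIso (f.stalkMap t)

/-- Every generic point in `N` is the image of a generic point. -/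
def Covered (N : X.Opens) : Prop := ∀ ξ : X, IsGen ξ → ξ ∈ N → ∃ η : T, IsGen η ∧ f η = ξ

/-- `σ` pulls back to the global section `b`. -/
def Good (N : X.Opens) (σ : Γ(X, N)) (b : Γ(T, ⊤)) : Prop :=
  f.app N σ = T.presheaf.map (homOfLE le_top).op b

theorem app_res {N M : X.Opens} (h : M ≤ N) (σ : Γ(X, N)) :
    f.app M (X.presheaf.map (homOfLE h).op σ) =
      T.presheaf.map (homOfLE (fun _ hy => h hy) : f ⁻¹ᵁ M ⟶ f ⁻¹ᵁ N).op (f.app N σ) :=
  congr($(f.naturality (homOfLE h).op) σ)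

theorem res_res {Y : Scheme.{u}} {U V W : Y.Opens} (i : V ⟶ U) (j : W ⟶ V) (s : Γ(Y, U)) :
    Y.presheaf.map j.op (Y.presheaf.map i.op s) = Y.presheaf.map (j ≫ i).op s := by
  rw [op_comp, Functor.map_comp]; rfl

theorem Good.res {N M : X.Opens} {σ : Γ(X, N)} {b : Γ(T, ⊤)} (h : Good f N σ b) (hMN : M ≤ N) :
    Good f M (X.presheaf.map (homOfLE hMN).op σ) b := by
  unfold Good at h ⊢
  rw [app_res, h, res_res]
  rfl

theorem Good.preimage_basicOpen {N : X.Opens} {σ : Γ(X, N)} {b : Γ(T, ⊤)} (h : Good f N σ b) :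
    f ⁻¹ᵁ X.basicOpen σ = f ⁻¹ᵁ N ⊓ T.basicOpen b := by
  rw [Scheme.preimage_basicOpen, h, Scheme.basicOpen_res]

theorem Covered.mono {N M : X.Opens} (h : Covered f N) (hMN : M ≤ N) : Covered f M :=
  fun ξ hξ hξM => h ξ hξ (hMN hξM)

theorem Covered.iSup {ι : Type*} {N : ι → X.Opens} (h : ∀ i, Covered f (N i)) :
    Covered f (iSup N) := fun ξ hξ hξN =>
  let ⟨i, hi⟩ := Opens.mem_iSup.1 hξN; h i ξ hξ hi

theorem app_injective [IsReduced X] {N : X.Opens} (hN : Covered f N) :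
    Function.Injective (f.app N) := by
  rw [injective_iff_map_eq_zero]
  intro d hd
  refine eq_zero_of_gen d fun ξ hξ hξd => ?_
  obtain ⟨η, -, rfl⟩ := hN ξ hξ (X.basicOpen_le d hξd)
  have : η ∈ f ⁻¹ᵁ X.basicOpen d := hξd
  rw [Scheme.preimage_basicOpen, hd, Scheme.basicOpen_zero] at this
  exact this.elim

theorem exists_glue [IsReduced X] {ι : Type u} (N : ι → X.Opens) (hN : ∀ i, Covered f (N i))
    (b : Γ(T, ⊤)) (σ : ∀ i, Γ(X, N i)) (hσ : ∀ i, Good f (N i) (σ i) b) :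
    ∃ G : Γ(X, iSup N), Good f (iSup N) G b ∧
      ∀ i, X.presheaf.map (homOfLE (le_iSup N i)).op G = σ i := by
  have hcomp : TopCat.Presheaf.IsCompatible X.sheaf.1 N σ := by
    intro i j
    show X.presheaf.map (Opens.infLELeft (N i) (N j)).op (σ i) =
      X.presheaf.map (Opens.infLERight (N i) (N j)).op (σ j)
    refine app_injective f ((hN i).mono f inf_le_left) ?_
    exact (((hσ i).res f (inf_le_left : N i ⊓ N j ≤ N i))).trans
      ((hσ j).res f (inf_le_right : N i ⊓ N j ≤ N j)).symm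
  obtain ⟨G, hG, -⟩ := X.sheaf.existsUnique_gluing' N (iSup N) (fun i => homOfLE (le_iSup N i))
    le_rfl σ hcomp
  refine ⟨G, ?_, hG⟩
  unfold Good
  refine T.sheaf.eq_of_locally_eq' (fun i => f ⁻¹ᵁ N i) (f ⁻¹ᵁ iSup N)
    (fun i => homOfLE fun y hy => le_iSup N i hy)
    (by
      intro y hy
      obtain ⟨i, hi⟩ := Opens.mem_iSup.1 (show f y ∈ iSup N from hy)
      exact Opens.mem_iSup.2 ⟨i, hi⟩) _ _ fun i => ?_
  show T.presheaf.map _ _ = T.presheaf.map _ _
  rw [res_res, ← app_res f (le_iSup N i)]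
  have := hσ i
  rw [← hG i] at this
  exact this

variable (hgen : ∀ η : T, IsGen η → IsGen (f η))
  (hinj : ∀ η η' : T, IsGen η → IsGen η' → f η = f η' → η = η')
  (hX : (irreducibleComponents (X : Type u)).Finite)

theorem exists_specializes_lift (t : T) [IsIso (f.stalkMap t)] {y : X} (hy : y ⤳ f t) :
    ∃ t', t' ⤳ t ∧ f t' = y := by
  have : y ∈ Set.range (X.fromSpecStalk (f t)) := by rw [Scheme.range_fromSpecStalk]; exact hy
  obtain ⟨p, rfl⟩ := this
  obtain ⟨q, rfl⟩ := (Spec.map (f.stalkMap t)).surjective p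
  refine ⟨T.fromSpecStalk t q, ?_, ?_⟩
  · have : T.fromSpecStalk t q ∈ Set.range (T.fromSpecStalk t) := ⟨q, rfl⟩
    rwa [Scheme.range_fromSpecStalk] at this
  · rw [← Scheme.Hom.comp_apply, ← Scheme.Hom.comp_apply, Scheme.SpecMap_stalkMap_fromSpecStalk]

include hgen hinj hX in
theorem exists_nbhd [IsReduced T] (b : Γ(T, ⊤)) {x : X} (hx : IsGood f x) :
    ∃ (N : X.Opens) (σ : Γ(X, N)), x ∈ N ∧ Covered f N ∧ Good f N σ b := by
  obtain ⟨t, rfl, ht⟩ := hx
  let Z : Set X := ⋃ C ∈ {C ∈ irreducibleComponents (X : Type u) | f t ∉ C}, C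
  have hZ : IsClosed Z := (hX.subset fun C hC => hC.1).isClosed_biUnion fun C hC =>
    isClosed_of_mem_irreducibleComponents C hC.1
  have hspec : ∀ ξ, IsGen ξ → ξ ∉ Z → ξ ⤳ f t := fun ξ hξ hξZ => by
    refine specializes_iff_mem_closure.2 ?_
    by_contra hn
    exact hξZ (Set.mem_biUnion (x := closure {ξ}) ⟨hξ, hn⟩ (subset_closure rfl))
  have htZ : f t ∉ Z := by
    simp only [Z, Set.mem_iUnion, not_exists]
    exact fun C hC h => hC.2 h
  obtain ⟨y, hy⟩ := (ConcreteCategory.bijective_of_isIso (f.stalkMap t)).2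
    (T.presheaf.germ ⊤ t trivial b)
  obtain ⟨M, hM, σ, rfl⟩ := X.presheaf.exists_germ_eq y
  let N : X.Opens := M ⊓ ⟨Zᶜ, hZ.isOpen_compl⟩
  refine ⟨N, X.presheaf.map (homOfLE inf_le_left).op σ, ⟨hM, htZ⟩, fun ξ hξ hξN => ?_, ?_⟩
  · obtain ⟨t', -, rfl⟩ := exists_specializes_lift f t (hspec ξ hξ hξN.2)
    obtain ⟨η, hη, hηt⟩ := exists_gen_specializes t'
    exact ⟨η, hη, hξ.eq_of_specializes (hηt.map f.continuous)⟩
  · unfold Good
    rw [← sub_eq_zero]
    have htN : t ∈ f ⁻¹ᵁ N := ⟨hM, htZ⟩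
    have hgerm : T.presheaf.germ (f ⁻¹ᵁ N) t htN (f.app N (X.presheaf.map (homOfLE inf_le_left).op σ)) =
        T.presheaf.germ (f ⁻¹ᵁ N) t htN (T.presheaf.map (homOfLE le_top).op b) := by
      rw [← Scheme.Hom.germ_stalkMap_apply f N t htN, TopCat.Presheaf.germ_res_apply,
        TopCat.Presheaf.germ_res_apply]
      exact hy
    refine eq_zero_of_gen _ fun η hη hηd => ?_
    have hηN : f η ∈ N := T.basicOpen_le _ hηd
    obtain ⟨t', ht', he⟩ := exists_specializes_lift f t (hspec _ (hgen η hη) hηN.2)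
    obtain ⟨η', hη', hη't⟩ := exists_gen_specializes t'
    have : η' = η := hinj η' η hη' hη
      ((hgen η hη).eq_of_specializes (he ▸ hη't.map f.continuous))
    subst this
    have hsp : η' ⤳ t := hη't.trans ht'
    rw [T.mem_basicOpen _ η' hηN, ← TopCat.Presheaf.germ_stalkSpecializes_apply T.presheaf htN hsp,
      map_sub, hgerm, sub_self, map_zero] at hηd
    exact not_isUnit_zero hηd

include hgen hinj hX in
theorem exists_section [IsReduced T] [IsReduced X] (b : Γ(T, ⊤)) (S : Finset X)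
    (hS : ∀ x ∈ S, IsGood f x) :
    ∃ (N : X.Opens) (σ : Γ(X, N)), (∀ x ∈ S, x ∈ N) ∧ Covered f N ∧ Good f N σ b := by
  choose N σ hxN hcov hgood using fun x : S => exists_nbhd f hgen hinj hX b (hS x x.2)
  obtain ⟨G, hG, -⟩ := exists_glue f N hcov b σ hgood
  exact ⟨iSup N, G, fun x hx => Opens.mem_iSup.2 ⟨⟨x, hx⟩, hxN ⟨x, hx⟩⟩, Covered.iSup f hcov, hG⟩

include hgen hinj hX in
/-- Given affine opens `U ∋ S₁` and `V ∋ S₂`, shrink them so that some section on the union has an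
affine non-vanishing locus around `S₁` inside the first. -/
theorem step [IsAffine T] [IsReduced T] [IsReduced X] {U V : X.Opens} (hU : IsAffineOpen U)
    (hV : IsAffineOpen V) (S₁ S₂ : Finset X) (h₁ : ∀ x ∈ S₁, x ∈ U ∧ IsGood f x)
    (h₂ : ∀ x ∈ S₂, x ∈ V ∧ IsGood f x) :
    ∃ (a : Γ(X, U)) (e : Γ(X, V)) (G : Γ(X, X.basicOpen a ⊔ X.basicOpen e)),
      (∀ x ∈ S₁, x ∈ X.basicOpen G) ∧ (∀ x ∈ S₂, x ∈ X.basicOpen e) ∧
      X.basicOpen G ≤ X.basicOpen a ∧ IsAffineOpen (X.basicOpen G) := by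
  classical
  choose tt htt hiso using fun x : S₁ => (h₁ x x.2).2
  obtain ⟨g, hgU, hgS⟩ := exists_basicOpen (isAffineOpen_top T) (f ⁻¹ᵁ U) (Finset.univ.image tt)
    (fun _ _ => trivial) (fun t ht => by
      obtain ⟨x, -, rfl⟩ := Finset.mem_image.1 ht
      show f (tt x) ∈ U
      rw [htt]; exact (h₁ x x.2).1)
  obtain ⟨N, σ, hSN, hcovN, hσ⟩ := exists_section f hgen hinj hX g S₁ fun x hx => (h₁ x hx).2
  obtain ⟨a, haN, haS⟩ := exists_basicOpen hU N S₁ (fun x hx => (h₁ x hx).1) hSN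
  let α : Γ(T, T.basicOpen g) := f.appLE U (T.basicOpen g) hgU a
  have := (isAffineOpen_top T).isLocalization_basicOpen g
  obtain ⟨⟨c, _, n, rfl⟩, hc⟩ := IsLocalization.surj (Submonoid.powers g) α
  replace hc : α * (T.presheaf.map (homOfLE (T.basicOpen_le g)).op g) ^ n =
      T.presheaf.map (homOfLE (T.basicOpen_le g)).op c := by
    rw [← map_pow]; exact hc
  let b : Γ(T, ⊤) := c * g
  set U' := X.basicOpen a with hU'
  let τ₁ : Γ(X, U') := X.presheaf.map (homOfLE (X.basicOpen_le a)).op a *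
    (X.presheaf.map (homOfLE haN).op σ) ^ (n + 1)
  have hτ₁ : Good f U' τ₁ b := by
    unfold Good
    have hσ' := hσ.res f haN
    unfold Good at hσ'
    simp only [τ₁, map_mul, map_pow, b]
    rw [hσ']
    rw [app_res f (X.basicOpen_le a)]
    set g' := T.presheaf.map (homOfLE le_top : f ⁻¹ᵁ U' ⟶ ⊤).op g with hg'
    set a' := T.presheaf.map (homOfLE _ : f ⁻¹ᵁ U' ⟶ f ⁻¹ᵁ U).op (f.app U a) with ha'
    set c' := T.presheaf.map (homOfLE le_top : f ⁻¹ᵁ U' ⟶ ⊤).op c with hc'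
    rw [← sub_eq_zero, show a' * g' ^ (n + 1) - c' * g' = (a' * g' ^ n - c') * g' by ring]
    refine eq_zero_of_basicOpen_eq_bot _ (eq_bot_iff.2 fun y hy => ?_)
    rw [Scheme.basicOpen_mul] at hy
    have hyg : y ∈ T.basicOpen g := by
      have := hy.2; rw [hg', Scheme.basicOpen_res] at this; exact this.2
    have hyU : y ∈ f ⁻¹ᵁ U' := T.basicOpen_le _ hy.1
    have h0 : T.presheaf.map (homOfLE inf_le_left : f ⁻¹ᵁ U' ⊓ T.basicOpen g ⟶ _).op
        (a' * g' ^ n - c') = 0 := by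
      have := congrArg (T.presheaf.map (homOfLE inf_le_right : f ⁻¹ᵁ U' ⊓ T.basicOpen g ⟶ _).op) hc
      simp only [α, map_mul, map_pow, Scheme.Hom.appLE, CommRingCat.comp_apply, res_res] at this
      rw [map_sub, map_mul, map_pow, ha', hg', hc', res_res, res_res, res_res, sub_eq_zero]
      exact this
    have := Scheme.basicOpen_res T (a' * g' ^ n - c')
      (homOfLE inf_le_left : f ⁻¹ᵁ U' ⊓ T.basicOpen g ⟶ _).op
    rw [h0, Scheme.basicOpen_zero] at this
    rw [this]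
    exact ⟨⟨hyU, hyg⟩, hy.1⟩
  obtain ⟨M, τ, hSM, hcovM, hτ⟩ := exists_section f hgen hinj hX b S₂ fun x hx => (h₂ x hx).2
  obtain ⟨s₀, hs₀M, hs₀S⟩ := exists_basicOpen hV M S₂ (fun x hx => (h₂ x hx).1) hSM
  have hV₁ := hV.basicOpen s₀
  set V₁ := X.basicOpen s₀ with hV₁def
  let τ' : Γ(X, V₁) := X.presheaf.map (homOfLE hs₀M).op τ
  have hτ' : Good f V₁ τ' b := hτ.res f hs₀M
  have key : ∀ x ∈ S₂, ∃ O : X.Opens, x ∈ O ∧ O ≤ V₁ ∧ O ⊓ X.basicOpen τ' ≤ U' := by
    intro x hx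
    have hxV₁ : x ∈ V₁ := hs₀S x hx
    by_cases hex : ∃ s : Γ(X, V₁), s ∉ pt x hxV₁ ∧ ∃ k, s * τ' ^ k ∈ vanishOff V₁ U'
    · obtain ⟨s, hs, k, hk⟩ := hex
      refine ⟨X.basicOpen s, (mem_basicOpen_iff_notMem s x hxV₁).2 hs, X.basicOpen_le s, ?_⟩
      rintro y ⟨hys, hyτ⟩
      have hy := X.basicOpen_le τ' hyτ
      refine basicOpen_le_of_mem_vanishOff hk ((mem_basicOpen_iff_notMem _ y hy).2 fun hm => ?_)
      rcases (inferInstance : (pt y hy).IsPrime).mem_or_mem hm with h | h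
      · exact (mem_basicOpen_iff_notMem s y hy).1 hys h
      · exact (mem_basicOpen_iff_notMem τ' y hy).1 hyτ (Ideal.IsPrime.mem_of_pow_mem (inferInstance : (pt y hy).IsPrime) k h)
    · exfalso
      push Not at hex
      obtain ⟨q, hq, hIq, hdisj⟩ := Ideal.exists_le_prime_disjoint (vanishOff V₁ U')
        ((pt x hxV₁).primeCompl ⊔ Submonoid.powers τ') (Set.disjoint_left.2 fun r hr hr' => by
          obtain ⟨s, hs, _, ⟨k, rfl⟩, rfl⟩ := Submonoid.mem_sup.1 hr'
          exact hex s hs k hr)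
      let q' : PrimeSpectrum Γ(X, V₁) := ⟨q, hq⟩
      let y : X := hV₁.fromSpec q'
      have hyV : y ∈ V₁ := by
        rw [← SetLike.mem_coe, ← hV₁.range_fromSpec]; exact ⟨q', rfl⟩
      have hmem : ∀ r : Γ(X, V₁), y ∈ X.basicOpen r ↔ r ∉ q := fun r => by
        show q' ∈ hV₁.fromSpec ⁻¹ᵁ X.basicOpen r ↔ _
        rw [hV₁.fromSpec_preimage_basicOpen]
        rfl
      have hyτ : y ∈ X.basicOpen τ' := (hmem τ').2 fun h =>
        Set.disjoint_left.1 hdisj h (Submonoid.mem_sup_right (Submonoid.mem_powers τ'))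
      have hyx : y ⤳ x := by
        suffices h2 : q' ⤳ hV₁.primeIdealOf ⟨x, hxV₁⟩ by
          have h3 := h2.map hV₁.fromSpec.continuous
          rwa [hV₁.fromSpec_primeIdealOf] at h3
        refine (PrimeSpectrum.le_iff_specializes q' _).1 ?_
        intro r hr
        by_contra hr'
        refine Set.disjoint_left.1 hdisj hr (Submonoid.mem_sup_left
          ((mem_basicOpen_iff_notMem r x hxV₁).1 ?_))
        have h4 : hV₁.primeIdealOf ⟨x, hxV₁⟩ ∈ hV₁.fromSpec ⁻¹ᵁ X.basicOpen r := by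
          rw [hV₁.fromSpec_preimage_basicOpen]
          exact hr'
        have h5 : hV₁.fromSpec (hV₁.primeIdealOf ⟨x, hxV₁⟩) ∈ X.basicOpen r := h4
        rwa [hV₁.fromSpec_primeIdealOf] at h5
      have hyU' : y ∉ U' := fun hy => by
        obtain ⟨r, hr, hyr⟩ := hV₁.exists_basicOpen_le (⟨y, hy⟩ : U') hyV
        exact (hmem r).1 hyr (hIq (mem_vanishOff hr))
      obtain ⟨t, rfl, ht⟩ := (h₂ x hx).2
      obtain ⟨t', -, ht'⟩ := exists_specializes_lift f t hyx
      have ht'b : t' ∈ T.basicOpen b := by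
        have : t' ∈ f ⁻¹ᵁ X.basicOpen τ' := by show f t' ∈ X.basicOpen τ'; rw [ht']; exact hyτ
        rw [hτ'.preimage_basicOpen f] at this
        exact this.2
      simp only [b, Scheme.basicOpen_mul] at ht'b
      have htc : t' ∈ T.basicOpen (T.presheaf.map (homOfLE (T.basicOpen_le g)).op c) := by
        rw [Scheme.basicOpen_res]; exact ⟨ht'b.2, ht'b.1⟩
      rw [← hc, Scheme.basicOpen_mul] at htc
      refine hyU' ?_
      rw [← ht']
      have := htc.1
      simp only [α, Scheme.Hom.appLE, CommRingCat.comp_apply, Scheme.basicOpen_res] at this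
      have h' := this.2
      rw [← Scheme.preimage_basicOpen] at h'
      exact h'
  choose O hxO hOV hOU using fun x : S₂ => key x x.2
  obtain ⟨e, heO, heS⟩ := exists_basicOpen hV (iSup O) S₂ (fun x hx => (h₂ x hx).1)
    fun x hx => Opens.mem_iSup.2 ⟨⟨x, hx⟩, hxO _⟩
  have heV₁ : X.basicOpen e ≤ V₁ := heO.trans (iSup_le hOV)
  let NN : ULift.{u} Bool → X.Opens := fun i => bif i.down then U' else X.basicOpen e
  have hsup : iSup NN = U' ⊔ X.basicOpen e := by
    refine le_antisymm (iSup_le ?_) (sup_le (le_iSup NN ⟨true⟩) (le_iSup NN ⟨false⟩))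
    rintro ⟨_ | _⟩
    exacts [le_sup_right, le_sup_left]
  let σσ : ∀ i, Γ(X, NN i) := fun i => match i with
    | ⟨true⟩ => τ₁
    | ⟨false⟩ => X.presheaf.map (homOfLE heV₁).op τ'
  obtain ⟨G₀, -, hG₀⟩ := exists_glue f NN (by
      rintro ⟨_ | _⟩
      exacts [hcovM.mono f (heV₁.trans hs₀M), hcovN.mono f haN]) b σσ (by
      rintro ⟨_ | _⟩
      exacts [hτ'.res f heV₁, hτ₁])
  let G := X.presheaf.map (eqToHom hsup.symm).op G₀
  have hres₁ : X.presheaf.map (homOfLE (le_sup_left : U' ≤ U' ⊔ X.basicOpen e)).op G = τ₁ := by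
    simp only [G, res_res]; exact hG₀ ⟨true⟩
  have hres₂ : X.presheaf.map (homOfLE (le_sup_right : X.basicOpen e ≤ U' ⊔ X.basicOpen e)).op G =
      X.presheaf.map (homOfLE heV₁).op τ' := by
    simp only [G, res_res]; exact hG₀ ⟨false⟩
  have hle : X.basicOpen G ≤ U' := fun y hy => by
    rcases (X.basicOpen_le G hy : y ∈ U' ⊔ X.basicOpen e) with h | h
    · exact h
    have h2 := X.basicOpen_res G (homOfLE (le_sup_right : X.basicOpen e ≤ U' ⊔ X.basicOpen e)).op
    rw [hres₂, Scheme.basicOpen_res] at h2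
    have hyτ : y ∈ X.basicOpen τ' := (h2.ge ⟨h, hy⟩).2
    obtain ⟨i, hi⟩ := Opens.mem_iSup.1 (heO h)
    exact hOU i ⟨hi, hyτ⟩
  have hG : X.basicOpen G = X.basicOpen τ₁ := by
    have h := X.basicOpen_res G (homOfLE (le_sup_left : U' ≤ U' ⊔ X.basicOpen e)).op
    rw [hres₁] at h
    exact (h.trans (inf_eq_right.2 hle)).symm
  refine ⟨a, e, G, fun x hx => ?_, heS, hle, hG ▸ (hU.basicOpen a).basicOpen τ₁⟩
  rw [hG]
  simp only [τ₁]
  rw [Scheme.basicOpen_mul, X.basicOpen_pow _ (Nat.succ_pos n : 0 < n + 1), Scheme.basicOpen_res,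
    Scheme.basicOpen_res]
  refine ⟨⟨haS x hx, haS x hx⟩, haS x hx, ?_⟩
  have : tt ⟨x, hx⟩ ∈ f ⁻¹ᵁ X.basicOpen σ := by
    rw [hσ.preimage_basicOpen f]
    refine ⟨?_, hgS _ (Finset.mem_image.2 ⟨_, Finset.mem_univ _, rfl⟩)⟩
    show f _ ∈ N
    rw [htt]; exact hSN x hx
  have h' : f (tt ⟨x, hx⟩) ∈ X.basicOpen σ := this
  rw [htt] at h'
  exact h'

include hgen hinj hX in
theorem combine [IsAffine T] [IsReduced T] [IsReduced X] [QuasiSeparatedSpace X] {U V : X.Opens}
    (hU : IsAffineOpen U) (hV : IsAffineOpen V) (S₁ S₂ : Finset X)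
    (h₁ : ∀ x ∈ S₁, x ∈ U ∧ IsGood f x) (h₂ : ∀ x ∈ S₂, x ∈ V ∧ IsGood f x) :
    ∃ W : X.Opens, IsAffineOpen W ∧ (∀ x ∈ S₁, x ∈ W) ∧ ∀ x ∈ S₂, x ∈ W := by
  classical
  obtain ⟨a, e, G, hS₁, hS₂, -, hA⟩ := step f hgen hinj hX hU hV S₁ S₂ h₁ h₂
  let W : X.Opens := X.basicOpen a ⊔ X.basicOpen e
  obtain ⟨a₂, e₂, G₂, hS₂', hS₁', hG₂le, hA₂⟩ := step f hgen hinj hX (hV.basicOpen e) hA S₂ S₁
    (fun x hx => ⟨hS₂ x hx, (h₂ x hx).2⟩) (fun x hx => ⟨hS₁ x hx, (h₁ x hx).2⟩)
  have hWc : IsCompact (W : Set X) := by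
    rw [Opens.coe_sup]; exact (hU.basicOpen a).isCompact.union (hV.basicOpen e).isCompact
  have := isLocalization_basicOpen_of_qcqs hWc (IsQuasiSeparated.of_quasiSeparatedSpace _) G
  obtain ⟨⟨c, _, k, rfl⟩, hc⟩ := IsLocalization.surj (Submonoid.powers G) e₂
  have hW₂ : X.basicOpen a₂ ⊔ X.basicOpen e₂ ≤ W :=
    sup_le ((X.basicOpen_le a₂).trans le_sup_right) ((X.basicOpen_le e₂).trans (X.basicOpen_le G))
  let G' := X.presheaf.map (homOfLE hW₂).op (c * G)
  have hG' : X.basicOpen G' = X.basicOpen e₂ := by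
    have : X.basicOpen (c * G) = X.basicOpen e₂ := by
      have h1 : X.basicOpen (algebraMap Γ(X, W) Γ(X, X.basicOpen G) c) =
          X.basicOpen e₂ ⊓ X.basicOpen (algebraMap Γ(X, W) Γ(X, X.basicOpen G) (G ^ k)) := by
        rw [← Scheme.basicOpen_mul]; exact congrArg _ hc.symm
      simp only [RingHom.algebraMap_toAlgebra, Scheme.basicOpen_res] at h1
      rw [Scheme.basicOpen_mul, inf_comm]
      refine le_antisymm (h1.trans_le inf_le_left) ?_
      refine le_of_le_of_eq (le_inf le_rfl (le_inf (X.basicOpen_le e₂) ?_)) h1.symm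
      rcases Nat.eq_zero_or_pos k with rfl | hk
      · rw [pow_zero, X.basicOpen_of_isUnit isUnit_one]
        exact (X.basicOpen_le e₂).trans (X.basicOpen_le G)
      · rw [X.basicOpen_pow _ hk]; exact X.basicOpen_le e₂
    simp only [G', Scheme.basicOpen_res, this]
    exact inf_eq_right.2 le_sup_right
  obtain ⟨h, hh, hhS⟩ := exists_mem_forall_basicOpen (Ideal.span {G', G₂}) (S₁ ∪ S₂) fun x hx => by
    rcases Finset.mem_union.1 hx with hx | hx
    · exact ⟨G', Ideal.subset_span (by simp), hG'.symm ▸ hS₁' x hx⟩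
    · exact ⟨G₂, Ideal.subset_span (by simp), hS₂' x hx⟩
  refine ⟨X.basicOpen h, ?_, fun x hx => hhS x (Finset.mem_union_left _ hx),
    fun x hx => hhS x (Finset.mem_union_right _ hx)⟩
  let r := (X.presheaf.map (homOfLE (X.basicOpen_le h)).op).hom
  refine isAffineOpen_of_isAffineOpen_basicOpen _ (r '' {G', G₂}) ?_ ?_
  · rw [← Ideal.map_span, Ideal.eq_top_iff_one]
    have hu : IsUnit (r h) := RingedSpace.isUnit_res_basicOpen _ h
    exact (Ideal.eq_top_iff_one _).1 (Ideal.eq_top_of_isUnit_mem _ (Ideal.mem_map_of_mem r hh) hu)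
  · rintro _ ⟨z, hz, rfl⟩
    show IsAffineOpen (X.basicOpen (X.presheaf.map (homOfLE (X.basicOpen_le h)).op z))
    rw [Scheme.basicOpen_res]
    have hzA : IsAffineOpen (X.basicOpen z) := by
      rcases hz with hz | hz <;> rw [hz]
      · rw [hG']; exact hA.basicOpen e₂
      · exact hA₂
    rw [inf_comm, ← X.basicOpen_res h (homOfLE (X.basicOpen_le z)).op]
    exact hzA.basicOpen _

include hgen hinj hX in
theorem exists_affineOpen [IsAffine T] [IsReduced T] [IsReduced X] [QuasiSeparatedSpace X]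
    (S : Finset X) (hS : ∀ x ∈ S, IsGood f x) :
    ∃ U : X.Opens, IsAffineOpen U ∧ ∀ x ∈ S, x ∈ U := by
  classical
  induction S using Finset.induction with
  | empty => exact ⟨⊥, isAffineOpen_bot X, by simp⟩
  | insert x S _ ih =>
    obtain ⟨U, hU, hSU⟩ := ih fun y hy => hS y (Finset.mem_insert_of_mem hy)
    obtain ⟨V, hV, hxV, -⟩ := exists_isAffineOpen_mem_and_subset (U := (⊤ : X.Opens))
      (trivial : x ∈ (⊤ : X.Opens))
    obtain ⟨W, hW, h1, h2⟩ := combine f hgen hinj hX hU hV S {x}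
      (fun y hy => ⟨hSU y hy, hS y (Finset.mem_insert_of_mem hy)⟩)
      (fun y hy => by
        rw [Finset.mem_singleton] at hy; subst hy
        exact ⟨hxV, hS y (Finset.mem_insert_self _ _)⟩)
    refine ⟨W, hW, fun y hy => ?_⟩
    rcases Finset.mem_insert.1 hy with rfl | hy
    exacts [h2 y (Finset.mem_singleton_self _), h1 y hy]

end Groth.Agent.H97.AffineImages
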