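import Groth.Agent.S1551
import Groth.Agent.S9710
import Groth.Agent.H97.FiniteAffine
import Groth.Agent.H97.DimOneSetup
import Groth.Agent.Lib.SchTopo.Basic
import Groth.Agent.Lib.Ample.RelAmple
import Groth.Agent.Lib.ProjSpace.BaseChange
import Groth.Agent.Lib.RefHull.DivSheaf
import Groth.Agent.Lib.PointDim.Basic
import Groth.Agent.Lib.ModPair.Basic

/-! Curves over a field are quasi-projective. -/

set_option autoImplicit false
universe u
open CategoryTheory CategoryTheory.Limits AlgebraicGeometry TopologicalSpace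

namespace Groth.Agent.H97.CurveProj

theorem exists_isAmple {X : Scheme.{u}} [IsNoetherian X] [X.IsSeparated] (hdim : topologicalKrullDim X ≤ 1) :
    ∃ P : X.Modules, CohB1.IsAmple P := by
  rcases eq_or_lt_of_le hdim with h | h
  · exact Groth.Agent.S1551.result X h
  · have hfin := DimOneSetup.finite_gen (X := X)
    obtain ⟨U, hU, hgU⟩ := FiniteAffine.exists_affineOpen (NoetherianSpace.finite_irreducibleComponents (α := X))
      hfin.toFinset fun x _ => DimOneSetup.ringKrullDim_stalk_le_one hdim x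
    have h0 : Order.krullDim X ≤ 0 := by
      rw [← Lib.SchTopo.Basic.topologicalKrullDim_eq_krullDim_scheme]
      exact Order.le_of_lt_succ h
    have htop : U = ⊤ := top_unique fun z _ => by
      obtain ⟨η, hη, hηz⟩ := AffineImages.exists_gen_specializes z
      have : η = z := (hηz.antisymm ((Order.krullDim_nonpos_iff_forall_isMin.1 h0 η) hηz)).eq
      exact hgU z (hfin.mem_toFinset.2 (this ▸ hη))
    have : IsAffine X := by
      rw [htop] at hU
      haveI : IsAffine ((⊤ : X.Opens) : Scheme.{u}) := hU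
      exact IsAffine.of_isIso X.topIso.inv
    exact ⟨Coh.structureModule X, Lib.Ample.RelAmple.isAmple_of_isAffine Lib.RefHull.DivSheaf.isInvertible_structure⟩

theorem exists_immersion (k : Type u) [Field k] (X : Scheme.{u}) [X.Over (Spec (CommRingCat.of k))]
    [IsSeparated (X ↘ (Spec (CommRingCat.of k)))] [LocallyOfFiniteType (X ↘ (Spec (CommRingCat.of k)))]
    [QuasiCompact (X ↘ (Spec (CommRingCat.of k)))] (hdim : topologicalKrullDim X ≤ 1) :
    ∃ (n : ℕ) (i : X ⟶ CohB1.ProjSpace n k), IsImmersion i ∧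
      i ≫ CohB1.ProjSpace.toSpec n k = X ↘ (Spec (CommRingCat.of k)) := by
  haveI : IsLocallyNoetherian X := LocallyOfFiniteType.isLocallyNoetherian (X ↘ (Spec (CommRingCat.of k)))
  haveI : CompactSpace X := QuasiCompact.compactSpace_of_compactSpace (X ↘ (Spec (CommRingCat.of k)))
  haveI : IsNoetherian X := {}
  haveI : X.IsSeparated := ⟨by
    rw [← terminal.comp_from (X ↘ (Spec (CommRingCat.of k)))]; infer_instance⟩
  obtain ⟨L, hL⟩ := exists_isAmple hdim
  obtain ⟨d₀, -, h⟩ := Groth.Agent.S9710.result (X ↘ (Spec (CommRingCat.of k))) L hL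
  obtain ⟨n, i, hi, hif, -⟩ := h d₀ le_rfl
  refine ⟨n, i ≫ (Groth.Agent.Lib.ProjSpace.BaseChange.overSpecIso n k).hom, inferInstance, ?_⟩
  rw [Category.assoc, Groth.Agent.Lib.ProjSpace.BaseChange.overSpecIso_hom_toSpec]
  exact hif

end Groth.Agent.H97.CurveProj

namespace Groth.Agent.H97.CurveProj

open Groth.Agent.H97.AffineImages Groth.Agent.Lib.PointDim.Basic

/-- A closed subset of a noetherian scheme all of whose points are closed is finite. -/
theorem finite_of_forall_isClosed {Y : Scheme.{u}} [IsNoetherian Y] {C : Set Y} (hC : IsClosed C)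
    (h : ∀ y ∈ C, IsClosed ({y} : Set Y)) : C.Finite := by
  obtain ⟨S, hSf, hS₁, hS₂, rfl⟩ := NoetherianSpace.exists_finite_set_isClosed_irreducible hC
  refine hSf.sUnion fun t ht => ?_
  obtain ⟨g, hg⟩ := QuasiSober.sober (hS₂ t ht) (hS₁ t ht)
  have hgt : g ∈ t := hg.mem
  have : t = {g} := by
    rw [← hg.def, (h g ⟨t, ht, hgt⟩).closure_eq]
  rw [this]
  exact Set.finite_singleton g

theorem two_le_dim {Y : Scheme.{u}} {a b c : Y} (hab : a ⤳ b) (hab' : a ≠ b) (hbc : b ⤳ c) (hbc' : b ≠ c)
    (T : Set Y) (ha : a ∈ T) (hb : b ∈ T) (hc : c ∈ T) : 2 ≤ topologicalKrullDim T := by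
  let cl : T → IrreducibleCloseds T := fun x => ⟨closure {x}, isIrreducible_singleton.closure, isClosed_closure⟩
  have hlt : ∀ x y : T, (x : Y) ⤳ y → (x : Y) ≠ y → cl y < cl x := fun x y h h' => by
    refine lt_of_le_not_ge ?_ fun hle => h' ?_
    · change closure {y} ⊆ closure {x}
      exact closure_minimal (Set.singleton_subset_iff.2 ((subtype_specializes_iff x y).2 h).mem_closure) isClosed_closure
    · have : y ⤳ x := specializes_iff_closure_subset.2 hle
      exact (h.antisymm ((subtype_specializes_iff y x).1 this)).eq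
  let p : LTSeries (IrreducibleCloseds T) :=
    ((RelSeries.singleton _ (cl ⟨c, hc⟩)).snoc (cl ⟨b, hb⟩) (hlt ⟨b, hb⟩ ⟨c, hc⟩ hbc hbc')).snoc
      (cl ⟨a, ha⟩) (by rw [RelSeries.last_snoc]; exact hlt ⟨a, ha⟩ ⟨b, hb⟩ hab hab')
  exact le_trans (by simp [p]) (Order.LTSeries.length_le_krullDim p)

/-- A generic point of a noetherian space lies in every dense open. -/
theorem gen_mem_of_dense {Y : Scheme.{u}} [IsNoetherian Y] {O : Set Y} (hO : IsOpen O) (hd : Dense O)
    {η : Y} (hη : IsGen η) : η ∈ O := by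
  let C := closure ({η} : Set Y)
  let U := (⋃₀ (irreducibleComponents (Y : Type u) \ {C}))ᶜ
  have hU : IsOpen U := (by rw [Set.sUnion_eq_biUnion]; exact (NoetherianSpace.finite_irreducibleComponents.diff).isClosed_biUnion fun T hT => isClosed_of_mem_irreducibleComponents T hT.1 : IsClosed (⋃₀ (irreducibleComponents (Y : Type u) \ {C}))).isOpen_compl
  have hηU : η ∈ U := by
    rintro ⟨T, ⟨hT, hne⟩, hηT⟩
    exact hne (Maximal.eq_of_subset hη hT.1 (closure_minimal (Set.singleton_subset_iff.2 hηT)
      (isClosed_of_mem_irreducibleComponents T hT))).symm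
  obtain ⟨w, hwU, hwO⟩ := hd.inter_open_nonempty U hU ⟨η, hηU⟩
  have hwC : w ∈ C := by
    have hcov : w ∈ ⋃₀ irreducibleComponents (Y : Type u) := by
      rw [sUnion_irreducibleComponents]; trivial
    obtain ⟨T, hT, hwT⟩ := hcov
    by_cases e : T = C
    · exact e ▸ hwT
    · exact absurd ⟨T, ⟨hT, e⟩, hwT⟩ hwU
  exact (specializes_iff_mem_closure.2 hwC).mem_open hO hwO

/-- Projective completion of a curve. -/
theorem exists_completion (k : Type u) [Field k] (X : Scheme.{u}) [X.Over (Spec (CommRingCat.of k))]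
    [IsSeparated (X ↘ (Spec (CommRingCat.of k)))] [LocallyOfFiniteType (X ↘ (Spec (CommRingCat.of k)))]
    [QuasiCompact (X ↘ (Spec (CommRingCat.of k)))] (hdim : topologicalKrullDim X ≤ 1) :
    ∃ (d : ℕ) (Y : Scheme.{u}) (c : Y ⟶ CohB1.ProjSpace d k) (j : X ⟶ Y), IsClosedImmersion c ∧ IsOpenImmersion j ∧
      j ≫ c ≫ CohB1.ProjSpace.toSpec d k = X ↘ (Spec (CommRingCat.of k)) ∧ Dense (Set.range j.base) ∧
      IsSchemeTheoreticallyDominant j ∧
      (Set.range j.base)ᶜ.Finite ∧ ∀ y ∈ (Set.range j.base)ᶜ, IsClosed ({y} : Set Y) := by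
  obtain ⟨d, i, hi, hik⟩ := exists_immersion k X hdim
  haveI := Groth.Agent.Lib.ProjSpace.Basic.isProper_toSpec d k
  haveI : QuasiCompact (i ≫ CohB1.ProjSpace.toSpec d k) := by rw [hik]; infer_instance
  haveI : QuasiCompact i := QuasiCompact.of_comp i (CohB1.ProjSpace.toSpec d k)
  let c := i.imageι
  let j := i.toImage
  haveI : IsOpenImmersion j := inferInstanceAs (IsOpenImmersion i.toImage)
  have hjk : j ≫ c ≫ CohB1.ProjSpace.toSpec d k = X ↘ (Spec (CommRingCat.of k)) := by
    rw [← Category.assoc, Scheme.Hom.toImage_imageι, hik]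
  let fY : i.image ⟶ Spec (CommRingCat.of k) := c ≫ CohB1.ProjSpace.toSpec d k
  haveI : IsProper fY := inferInstanceAs (IsProper (i.imageι ≫ CohB1.ProjSpace.toSpec d k))
  haveI : IsLocallyNoetherian i.image := LocallyOfFiniteType.isLocallyNoetherian fY
  haveI : CompactSpace i.image := QuasiCompact.compactSpace_of_compactSpace fY
  haveI : IsNoetherian i.image := {}
  have hdense : Dense (Set.range j.base) := i.toImage.denseRange
  have hopen : IsOpen (Set.range j.base) := j.isOpenEmbedding.isOpen_range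
  have hclosed : ∀ y ∈ (Set.range j.base)ᶜ, IsClosed ({y} : Set i.image) := by
    intro y hy
    by_contra hyc
    obtain ⟨z, hz, hzy⟩ : ∃ z, z ∈ closure ({y} : Set i.image) ∧ z ≠ y := by
      by_contra hcon
      push Not at hcon
      exact hyc (closure_eq_iff_isClosed.1 (subset_antisymm (fun z hz => hcon z hz) subset_closure))
    obtain ⟨η, hη, hηy⟩ := exists_gen_specializes y
    obtain ⟨x, hx⟩ : η ∈ Set.range j.base := by
      exact gen_mem_of_dense hopen hdense hη
    have hyz : y ⤳ z := specializes_iff_mem_closure.2 hz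
    have hne1 : η ≠ y := fun e => hy ⟨x, hx.trans e⟩
    -- chain `η ⤳ y ⤳ z` inside the closure of `η`
    let C := closure ({η} : Set i.image)
    have hηC : η ∈ C := subset_closure rfl
    have hyC : y ∈ C := hηy.mem_closure
    have hzC : z ∈ C := (hηy.trans hyz).mem_closure
    have h2 : (2 : WithBot ℕ∞) ≤ topologicalKrullDim C :=
      two_le_dim hηy hne1 hyz hzy.symm C hηC hyC hzC
    rw [topologicalKrullDim_closure_singleton fY η, natTdeg, ← hx,
      ← tdeg_openImmersion j fY (X ↘ (Spec (CommRingCat.of k))) hjk x, ← natTdeg,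
      ← topologicalKrullDim_closure_singleton (X ↘ (Spec (CommRingCat.of k))) x] at h2
    have := h2.trans ((Topology.IsInducing.subtypeVal.topologicalKrullDim_le).trans hdim)
    exact absurd this (by norm_num)
  exact ⟨d, i.image, c, j, inferInstance, inferInstance, hjk, hdense,
    Groth.Agent.Lib.ModPair.std_toImage i, finite_of_forall_isClosed hopen.isClosed_compl hclosed, hclosed⟩

end Groth.Agent.H97.CurveProj
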