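import Groth.Agent.S1557
import Groth.Agent.H97.EulerFinite
import Groth.Agent.H75.RedSub
import Groth.Agent.H34.DimOne
import Groth.Agent.Lib.SurfInt.Push
import Groth.Agent.Lib.SchTopo.Basic
import Groth.Agent.Lib.Snapper.Twist
import Groth.Agent.Lib.Modules.SupportOps

/-! Euler characteristics of twists on a proper scheme of dimension at most one. -/

set_option autoImplicit false
set_option linter.style.haveILetI false
universe u
open CategoryTheory CategoryTheory.Limits AlgebraicGeometry TopologicalSpace

namespace Groth.Agent.H97.CurveEuler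

open Groth.Agent.Lib

theorem isIntegral_ptIdeal {X : Scheme.{u}} (y : X) : IsIntegral (IntMult.ptIdeal y).subscheme := by
  haveI : IsReduced (IntMult.ptIdeal y).subscheme := H75.RedSub.isReduced_vanishingIdeal _
  have hr := Devissage.Closure.range_ptIdeal y
  haveI : IrreducibleSpace (IntMult.ptIdeal y).subscheme := by
    let e := ((IntMult.ptIdeal y).subschemeι.isClosedEmbedding.isEmbedding.toHomeomorph.trans
      (Homeomorph.setCongr hr)).symm
    haveI : IrreducibleSpace (closure ({y} : Set X)) := Subtype.irreducibleSpace isIrreducible_singleton.closure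
    exact e.surjective.irreducibleSpace e.continuous
  exact isIntegral_of_irreducibleSpace_of_isReduced _

variable {X : Scheme.{u}}

theorem isCoh_tensor {n : ℕ} {E M : X.Modules} (hE : FlatMod.IsFinLocFreeOfRank n E) [IsLocallyNoetherian X]
    (hM : Coh.IsCoh M) : Coh.IsCoh (CohB1.tensorMod E M) := by
  obtain ⟨h1, h2⟩ := Perfect.Coherent.isCoh_of_isFinLocFree (TensorMod.LocFree.of_rank hE)
  obtain ⟨h3, h4⟩ := hM
  exact ⟨TensorMod.TensorQCoh.isQCoh_tensorMod E _, TensorMod.TensorQCoh.isFiniteType_tensorMod E _⟩

variable {k : Type u} [Field k] [X.Over (Spec (CommRingCat.of k))] [IsProper (X ↘ (Spec (CommRingCat.of k)))]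

theorem euler_tensor_push {Z : Scheme.{u}} [Z.Over (Spec (CommRingCat.of k))] (i : Z ⟶ X) [IsClosedImmersion i]
    (hi : i ≫ (X ↘ (Spec (CommRingCat.of k))) = Z ↘ (Spec (CommRingCat.of k))) {n : ℕ} {E : X.Modules}
    (hE : FlatMod.IsFinLocFreeOfRank n E) (M : Z.Modules)
    (hq : Coh.IsQCoh (CohB1.tensorMod ((Scheme.Modules.pullback i).obj E) M)) :
    Curv2.euler k X (CohB1.tensorMod E ((Coh.push i).obj M)) =
      Curv2.euler k Z (CohB1.tensorMod ((Scheme.Modules.pullback i).obj E) M) := by
  have hE' := Modules.DualBasis.hasDBases_of_isFinLocFree (TensorMod.LocFree.of_rank hE)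
  exact (Curves.Euler.euler_eq_of_iso ((Modules.ProjFormula.projIso i (E := E) hE').app M)).trans
    (@SurfInt.Push.euler_push _ _ _ _ _ _ i _ hi (CohB1.tensorMod ((Scheme.Modules.pullback i).obj E) M) hq)

/-- `χ(E ⊗ V ⊗ M) - n χ(V ⊗ M) = m (χ(E ⊗ M) - n χ(M))`. -/
theorem euler_tensor_tensor (hdim : topologicalKrullDim X ≤ 1) {n m : ℕ} {E V : X.Modules}
    (hE : FlatMod.IsFinLocFreeOfRank n E) (hV : FlatMod.IsFinLocFreeOfRank m V) (M : X.Modules)
    (hM : Coh.IsCoh M) :
    Curv2.euler k X (CohB1.tensorMod E (CohB1.tensorMod V M)) - n * Curv2.euler k X (CohB1.tensorMod V M) =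
      m * (Curv2.euler k X (CohB1.tensorMod E M) - n * Curv2.euler k X M) := by
  haveI := Curves.GlobalSections.isNoetherian_of_proper k X
  obtain ⟨d, hd⟩ := Snapper.DimBound.exists_dim_bound k X
  have hE' := Modules.DualBasis.hasDBases_of_isFinLocFree (TensorMod.LocFree.of_rank hE)
  have hV' := Modules.DualBasis.hasDBases_of_isFinLocFree (TensorMod.LocFree.of_rank hV)
  have h0 : ∀ {N : X.Modules}, IsZero N → Curv2.euler k X N = 0 := fun h => by
    rw [Snapper.Chi.euler_eq_eulerCharLE hd, Snapper.Chi.eulerCharLE_isZero h]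
  refine ProperFin.Devissage.devissage
    (fun M => Curv2.euler k X (CohB1.tensorMod E (CohB1.tensorMod V M)) - n * Curv2.euler k X (CohB1.tensorMod V M) =
      m * (Curv2.euler k X (CohB1.tensorMod E M) - n * Curv2.euler k X M))
    ⊤ ⟨fun N hN => ?_, fun S hS h₁ h₂ h₃ => ?_⟩ (fun y _ => ?_) M ⟨hM, fun _ _ => trivial⟩
  · have h1 : IsZero (CohB1.tensorMod V N) := Functor.map_isZero (Modules.DualAdj.tensorL V) hN
    have h2 : IsZero (CohB1.tensorMod E (CohB1.tensorMod V N)) := Functor.map_isZero (Modules.DualAdj.tensorL E) h1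
    have h3 : IsZero (CohB1.tensorMod E N) := Functor.map_isZero (Modules.DualAdj.tensorL E) hN
    rw [h0 hN, h0 h1, h0 h2, h0 h3]
    ring
  · have hVS := EulerFinite.ShortExact'.map hV' hS
    have e1 := ParBun.Proper.euler_add (k := k) hS h₁.1 h₂.1 h₃.1
    have e2 := ParBun.Proper.euler_add (k := k) hVS (isCoh_tensor hV h₁.1) (isCoh_tensor hV h₂.1) (isCoh_tensor hV h₃.1)
    have e3 := ParBun.Proper.euler_add (k := k) (EulerFinite.ShortExact'.map hE' hS)
      (isCoh_tensor hE h₁.1) (isCoh_tensor hE h₂.1) (isCoh_tensor hE h₃.1)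
    have e4 := ParBun.Proper.euler_add (k := k) (EulerFinite.ShortExact'.map hE' hVS)
      (isCoh_tensor hE (isCoh_tensor hV h₁.1)) (isCoh_tensor hE (isCoh_tensor hV h₂.1)) (isCoh_tensor hE (isCoh_tensor hV h₃.1))
    change Curv2.euler k X (CohB1.tensorMod V S.X₂) = Curv2.euler k X (CohB1.tensorMod V S.X₁) +
      Curv2.euler k X (CohB1.tensorMod V S.X₃) at e2
    change Curv2.euler k X (CohB1.tensorMod E S.X₂) = Curv2.euler k X (CohB1.tensorMod E S.X₁) +
      Curv2.euler k X (CohB1.tensorMod E S.X₃) at e3
    change Curv2.euler k X (CohB1.tensorMod E (CohB1.tensorMod V S.X₂)) =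
      Curv2.euler k X (CohB1.tensorMod E (CohB1.tensorMod V S.X₁)) +
      Curv2.euler k X (CohB1.tensorMod E (CohB1.tensorMod V S.X₃)) at e4
    refine ⟨fun a b => ?_, fun a b => ?_, fun a b => ?_⟩ <;>
      · simp only [e1, e2, e3, e4] at *; linarith
  · refine ⟨Cyc.closureStructureSheaf y, Devissage.Closure.cohIn_closureStructureSheaf y,
      Devissage.Closure.length_closureStructureSheaf y, ?_⟩
    let i := (IntMult.ptIdeal y).subschemeι
    let G := Cyc.closureStructureSheaf y
    have hGc : Coh.IsCoh G := Devissage.Closure.isCoh_closureStructureSheaf y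
    rcases H34.DimOne.isClosed_or_component hdim y with hy | hy
    · have hs : ∀ z ∈ CohB1.support G, IsClosed ({z} : Set X) := fun z hz => by
        have := Devissage.Closure.support_closureStructureSheaf y hz
        rw [hy.closure_eq, Set.mem_singleton_iff] at this
        exact this ▸ hy
      have hsV : ∀ z ∈ CohB1.support (CohB1.tensorMod V G), IsClosed ({z} : Set X) := fun z hz => hs z (by
        haveI := (Perfect.Coherent.isCoh_of_isFinLocFree (TensorMod.LocFree.of_rank hV)).2
        haveI := hGc.2
        rw [Modules.SupportOps.support_tensorMod] at hz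
        exact hz.2)
      rw [EulerFinite.euler_tensor hE hGc hs, EulerFinite.euler_tensor hE (isCoh_tensor hV hGc) hsV]
      ring
    · letI : (IntMult.ptIdeal y).subscheme.Over (Spec (CommRingCat.of k)) := ⟨i ≫ (X ↘ Spec (CommRingCat.of k))⟩
      haveI : IsProper ((IntMult.ptIdeal y).subscheme ↘ Spec (CommRingCat.of k)) :=
        inferInstanceAs (IsProper (i ≫ (X ↘ Spec (CommRingCat.of k))))
      haveI := isIntegral_ptIdeal y
      haveI := Curves.GlobalSections.isNoetherian_of_proper k (IntMult.ptIdeal y).subscheme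
      let Z := (IntMult.ptIdeal y).subscheme
      have hEi := TensorMod.LocFree.rank_pullback i hE
      have hVi := TensorMod.LocFree.rank_pullback i hV
      have hOc := Snapper.Twist.isCoh_structureModule Z
      have hVc := isCoh_tensor hVi hOc
      let φ : CohB1.tensorMod V G ≅ (Coh.push i).obj (CohB1.tensorMod ((Scheme.Modules.pullback i).obj V) (Coh.structureModule Z)) :=
        (Modules.ProjFormula.projIso i (E := V) hV').app (Coh.structureModule Z)
      have hVq : Coh.IsQCoh (CohB1.tensorMod ((Scheme.Modules.pullback i).obj V) (Coh.structureModule Z)) := hVc.1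
      haveI := hVc.1
      have eV : Curv2.euler k X (CohB1.tensorMod V G) =
          Curv2.euler k Z (CohB1.tensorMod ((Scheme.Modules.pullback i).obj V) (Coh.structureModule Z)) :=
        euler_tensor_push i rfl hV _ hVq
      have eEV : Curv2.euler k X (CohB1.tensorMod E (CohB1.tensorMod V G)) =
          Curv2.euler k Z (CohB1.tensorMod ((Scheme.Modules.pullback i).obj E)
            (CohB1.tensorMod ((Scheme.Modules.pullback i).obj V) (Coh.structureModule Z))) :=
        (Curves.Euler.euler_eq_of_iso (Functor.mapIso (Modules.DualAdj.tensorL E) φ)).trans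
          (euler_tensor_push i rfl hE _ (isCoh_tensor hEi hVc).1)
      have eE : Curv2.euler k X (CohB1.tensorMod E G) =
          Curv2.euler k Z (CohB1.tensorMod ((Scheme.Modules.pullback i).obj E) (Coh.structureModule Z)) :=
        euler_tensor_push i rfl hE _ (isCoh_tensor hEi hOc).1
      haveI := hOc.1
      have eG : Curv2.euler k X G = Curv2.euler k Z (Coh.structureModule Z) := SurfInt.Push.euler_push i rfl _
      have hZ1 : topologicalKrullDim Z ≤ 1 :=
        (Topology.IsInducing.topologicalKrullDim_le i.isClosedEmbedding.isInducing).trans hdim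
      rw [eV, eEV, eE, eG]
      rcases eq_or_lt_of_le hZ1 with hZ1 | hZ1
      · have k1 := Groth.Agent.S1557.result k Z hZ1 n _ hEi _ hOc
        have k2 := Groth.Agent.S1557.result k Z hZ1 n _ hEi _ hVc
        have g1 : Module.finrank (Z.presheaf.stalk (genericPoint Z))
            ((Coh.structureModule Z).presheaf.stalk (genericPoint Z)) = 1 :=
          CurveBundle.Rank.grank_eq_of_rank (TensorMod.LocFree.of_isInvertible (PicLoc.isInvertible_structureModule Z))
        have g2 : Module.finrank (Z.presheaf.stalk (genericPoint Z))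
            ((CohB1.tensorMod ((Scheme.Modules.pullback i).obj V) (Coh.structureModule Z)).presheaf.stalk (genericPoint Z)) = m :=
          CurveBundle.Rank.grank_eq_of_rank (TensorMod.LocFree.rank_of_iso (TensorMod.Basic.rightUnit _).symm hVi)
        rw [g1] at k1
        rw [g2] at k2
        rw [k1, k2]
        push_cast
        ring
      · have hcl : ∀ z : Z, IsClosed ({z} : Set Z) := fun z =>
          (H34.DimOne.isClosed_or_component hZ1.le z).elim id fun hz => by
            have h0 : Order.krullDim Z ≤ 0 := by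
              rw [← SchTopo.Basic.topologicalKrullDim_eq_krullDim_scheme]
              exact Order.le_of_lt_succ hZ1
            rw [← closure_subset_iff_isClosed]
            intro w hw
            exact ((specializes_iff_mem_closure.2 hw).antisymm
              ((Order.krullDim_nonpos_iff_forall_isMin.1 h0 z) (specializes_iff_mem_closure.2 hw))).eq.symm
        rw [EulerFinite.euler_tensor hEi hOc (fun z _ => hcl z), EulerFinite.euler_tensor hEi hVc (fun z _ => hcl z)]
        ring

theorem deg_tensor (hdim : topologicalKrullDim X ≤ 1) {n m : ℕ} {E V : X.Modules}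
    (hE : FlatMod.IsFinLocFreeOfRank n E) (hV : FlatMod.IsFinLocFreeOfRank m V) :
    Curv2.deg k X (CohB1.tensorMod E V) (n * m) = n * Curv2.deg k X V m + m * Curv2.deg k X E n := by
  haveI := Curves.GlobalSections.isNoetherian_of_proper k X
  have key := euler_tensor_tensor (k := k) hdim hE hV (Coh.structureModule X) (Snapper.Twist.isCoh_structureModule X)
  have e1 : Curv2.euler k X (CohB1.tensorMod E (CohB1.tensorMod V (Coh.structureModule X))) =
      Curv2.euler k X (CohB1.tensorMod E V) :=
    Curves.Euler.euler_eq_of_iso (Functor.mapIso (Modules.DualAdj.tensorL E) (TensorMod.Basic.rightUnit V))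
  rw [e1,
    Curves.Euler.euler_eq_of_iso (TensorMod.Basic.rightUnit V),
    Curves.Euler.euler_eq_of_iso (TensorMod.Basic.rightUnit E)] at key
  unfold Curv2.deg
  push_cast
  linarith

end Groth.Agent.H97.CurveEuler
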