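import Groth.Agent.H97.PushInt
import Groth.Agent.H97.CurveEuler
import Groth.Agent.Lib.VarDim.Fibre
import Groth.Agent.Lib.IntTheory.Curves

/-! Lifting curves along surjective morphisms, and the degree formula for a line bundle on curves. -/

set_option autoImplicit false
set_option linter.style.haveILetI false
universe u
open CategoryTheory CategoryTheory.Limits AlgebraicGeometry TopologicalSpace

namespace Groth.Agent.H97.CurveLift

open Groth.Agent.Lib Groth.Agent.Lib.Snapper

variable {k : Type u} [Field k]

set_option backward.isDefEq.respectTransparency.types false in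
/-- A point over `x` of the same dimension. -/
theorem exists_point {X Y : Scheme.{u}} (pX : X ⟶ Spec (CommRingCat.of k)) (pY : Y ⟶ Spec (CommRingCat.of k))
    [LocallyOfFiniteType pX] [LocallyOfFiniteType pY] (f : Y ⟶ X) [QuasiCompact f] [Surjective f]
    (hf : f ≫ pX = pY) (x : X) :
    ∃ y : Y, f y = x ∧ VarDim.Basic.pdim pY y = VarDim.Basic.pdim pX x := by
  haveI : LocallyOfFiniteType f := by
    have : LocallyOfFiniteType (f ≫ pX) := by rw [hf]; infer_instance
    exact locallyOfFiniteType_of_comp f pX
  have : LocallyOfFiniteType (X := f.fiber x) (Y := Spec (CommRingCat.of (X.residueField x)))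
      (f.fiberToSpecResidueField x) :=
    inferInstanceAs (LocallyOfFiniteType (Limits.pullback.snd f (X.fromSpecResidueField x)))
  obtain ⟨y₀, hy₀⟩ := f.surjective x
  obtain ⟨z₀, -⟩ := Cyc.FieldDim.exists_fiberι_eq f y₀ x hy₀
  haveI : Nonempty (f.fiber x) := ⟨z₀⟩
  obtain ⟨z, -, hz⟩ := (isClosed_univ (X := f.fiber x)).exists_closed_singleton (Set.univ_nonempty)
  refine ⟨f.fiberι x z, Cyc.FieldDim.apply_fiberι f x z, ?_⟩
  have h0 : VarDim.Basic.tdAt f (f.fiberι x z) = 0 := by
    have h1 := (VarDim.Basic.pdim_eq_zero_iff (K := X.residueField x) (f.fiberToSpecResidueField x) z).2 hz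
    exact (congrArg Cardinal.toNat (Cyc.FieldDim.trdegAt_fiber f x z)).symm.trans h1
  rw [VarDim.Fibre.pdim_eq_add pY pX f hf, h0, add_zero, Cyc.FieldDim.apply_fiberι f x z]

/-- An integral closed subscheme, its generic point and its dimension. -/
theorem genPt {X : Scheme.{u}} (pX : X ⟶ Spec (CommRingCat.of k)) [LocallyOfFiniteType pX]
    (C : X.IdealSheafData) [IsIntegral C.subscheme] {d : ℕ} (hC : topologicalKrullDim (C.support : Set X) = d) :
    let x := C.subschemeι (genericPoint C.subscheme)
    C = _root_.IntMult.ptIdeal x ∧ (C.support : Set X) = closure {x} ∧ VarDim.Basic.pdim pX x = d := by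
  have hg := (genericPoint_spec C.subscheme).image C.subschemeι.continuous
  rw [Set.image_univ, C.range_subschemeι, C.support.isClosed.closure_eq] at hg
  refine ⟨PushInt.eq_ptIdeal C, hg.def.symm, ?_⟩
  rw [VarDim.Basic.topologicalKrullDim_isGenericPoint pX hg] at hC
  exact_mod_cast hC

theorem dim_support_ptIdeal {X : Scheme.{u}} (pX : X ⟶ Spec (CommRingCat.of k)) [LocallyOfFiniteType pX] (y : X) :
    topologicalKrullDim ((_root_.IntMult.ptIdeal y).support : Set X) = VarDim.Basic.pdim pX y := by
  rw [← Scheme.IdealSheafData.range_subschemeι, Devissage.Closure.range_ptIdeal]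
  exact VarDim.Basic.topologicalKrullDim_isGenericPoint pX isGenericPoint_closure

variable {X Y : Scheme.{u}} [X.Over (Spec (CommRingCat.of k))] [IsProper (X ↘ Spec (CommRingCat.of k))]
  [Y.Over (Spec (CommRingCat.of k))] [IsProper (Y ↘ Spec (CommRingCat.of k))]

theorem exists_curve (f : Y ⟶ X) (hf : f ≫ (X ↘ Spec (CommRingCat.of k)) = Y ↘ Spec (CommRingCat.of k))
    [Surjective f] (C : X.IdealSheafData) [IsIntegral C.subscheme] {d : ℕ}
    (hC : topologicalKrullDim (C.support : Set X) = d) :
    ∃ C' : Y.IdealSheafData, IsIntegral C'.subscheme ∧ topologicalKrullDim (C'.support : Set Y) = d ∧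
      f.base '' (C'.support : Set Y) = (C.support : Set X) := by
  haveI := Curves.GlobalSections.isNoetherian_of_proper k X
  haveI := Curves.GlobalSections.isNoetherian_of_proper k Y
  haveI := IntTheory.Push.isProper f hf
  obtain ⟨-, hsupp, hd⟩ := genPt (X ↘ Spec (CommRingCat.of k)) C hC
  obtain ⟨y, hy, hyd⟩ := exists_point (X ↘ Spec (CommRingCat.of k)) (Y ↘ Spec (CommRingCat.of k)) f hf
    (C.subschemeι (genericPoint C.subscheme))
  refine ⟨_root_.IntMult.ptIdeal y, IntTheory.Curves.isIntegral_ptIdeal y, ?_, ?_⟩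
  · rw [dim_support_ptIdeal (Y ↘ Spec (CommRingCat.of k)) y, hyd, hd]
  · rw [hsupp, ← hy, ← Scheme.IdealSheafData.range_subschemeι, Devissage.Closure.range_ptIdeal,
      ← (f.isClosedMap).closure_image_eq_of_continuous f.continuous, Set.image_singleton]

/-- Twice the symbol. -/
theorem euler_diff (M : X.Modules) {N : ℕ} (hN : topologicalKrullDim X ≤ N) (y : X) :
    Curv2.euler k X (CohB1.tensorMod (Cyc.closureStructureSheaf y) M) -
        Curv2.euler k X (Cyc.closureStructureSheaf y) =
      - Vanish.sym k X N [M] (Cyc.closureStructureSheaf y) := by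
  haveI := Curves.GlobalSections.isNoetherian_of_proper k X
  rw [Curves.Euler.euler_eq_of_iso (TensorMod.Basic.comm (Cyc.closureStructureSheaf y) M),
    Chi.euler_eq_eulerCharLE hN, Chi.euler_eq_eulerCharLE hN]
  exact (neg_sub _ _).symm

/-- The degree formula for a line bundle on the curve `closure {y}`. -/
theorem euler_diff_pullback (f : Y ⟶ X)
    (hf : f ≫ (X ↘ Spec (CommRingCat.of k)) = Y ↘ Spec (CommRingCat.of k)) {L : X.Modules}
    (hL : PicF.IsInvertible L) {y : Y} (hy : VarDim.Basic.pdim (Y ↘ Spec (CommRingCat.of k)) y = 1) :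
    Curv2.euler k Y (CohB1.tensorMod (Cyc.closureStructureSheaf y) ((Scheme.Modules.pullback f).obj L)) -
        Curv2.euler k Y (Cyc.closureStructureSheaf y) =
      (f.residueDegree y : ℤ) *
        (Curv2.euler k X (CohB1.tensorMod (Cyc.closureStructureSheaf (f y)) L) -
          Curv2.euler k X (Cyc.closureStructureSheaf (f y))) := by
  haveI := Curves.GlobalSections.isNoetherian_of_proper k X
  haveI := Curves.GlobalSections.isNoetherian_of_proper k Y
  obtain ⟨N, hN⟩ := DimBound.exists_dim_bound k X
  obtain ⟨N', hN'⟩ := DimBound.exists_dim_bound k Y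
  rw [euler_diff _ hN', euler_diff _ hN]
  have hl : ∀ M ∈ [L], PicF.IsInvertible M := fun M hM => by rw [List.mem_singleton.1 hM]; exact hL
  have hdim : topologicalKrullDim (CohB1.support (Cyc.closureStructureSheaf y)) ≤ ([L].length : ℕ) :=
    (Devissage.Dim.dim_mono (Devissage.Closure.support_closureStructureSheaf y)).trans (by
      rw [VarDim.Basic.topologicalKrullDim_isGenericPoint (Y ↘ Spec (CommRingCat.of k))
        (isGenericPoint_closure (x := y)), hy]; rfl)
  have h := IntTheory.Push.sym_push f hf hN hN' [L] hl _ (Devissage.Closure.isCoh_closureStructureSheaf y) hdim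
  rw [PushInt.sym_push_closure f hf hN hl (y := y) hy] at h
  rw [show [(Scheme.Modules.pullback f).obj L] = [L].map (Scheme.Modules.pullback f).obj from rfl]
  erw [h]
  ring

end Groth.Agent.H97.CurveLift
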