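import Groth.Agent.H97.AmpleH1
import Groth.Agent.H97.CurveAmple
import Groth.Agent.Lib.SurfInt.AmpleVanish
import Groth.Agent.Lib.Curves.LES
import Groth.Agent.Lib.CohBasics.Closure

/-! Ampleness on a proper scheme is checked on integral closed subschemes. -/

set_option autoImplicit false
set_option linter.style.haveILetI false
universe u
open CategoryTheory CategoryTheory.Limits AlgebraicGeometry TopologicalSpace

namespace Groth.Agent.H97.AmpleRestrict

open Groth.Agent.Lib Groth.Agent.Lib.TensorMod Groth.Agent.Lib.TensorMod.Basic Groth.Agent.Lib.TensorMod.Pullback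
open Groth.Agent.Lib.Ample.Pow (pullbackPow)
open Groth.Agent.Lib.Curves.LES (mapK δK exactK₁ exactK₂ exactK₃ isoK)

variable {X : Scheme.{u}}

/-- All positive cohomology of high twists vanishes. -/
def VanPos (L F : X.Modules) : Prop :=
  ∀ᶠ n in Filter.atTop, ∀ q : ℕ, Subsingleton (Coh.HH X (CohB1.tensorMod F (CohB1.tensorPow L n)) (q + 1))

/-- `VanPos` for all coherent submodules. -/
def SubVanPos (L F : X.Modules) : Prop :=
  ∀ (G : X.Modules) (i : G ⟶ F), Mono i → Coh.IsCoh G → VanPos L G

variable (k : Type u) [Field k] [X.Over (Spec (CommRingCat.of k))]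

include k in
theorem VanPos.of_iso {L F G : X.Modules} (e : F ≅ G) (h : VanPos L F) : VanPos L G :=
  h.mono fun _ hn q => haveI := hn q
    (isoK k (tensorIso e (Iso.refl _)) (q + 1)).symm.toEquiv.subsingleton

include k in
theorem VanPos.middle {L : X.Modules} (hL : PicF.IsInvertible L) {S : ShortComplex X.Modules}
    (hS : S.ShortExact) (h₁ : VanPos L S.X₁) (h₃ : VanPos L S.X₃) : VanPos L S.X₂ :=
  (h₁.and h₃).mono fun n hn q => by
    have hT := CurveBundle.Twist.shortExact (Invertible.isInvertible_tensorPow hL n) hS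
    haveI := hn.1 q
    haveI := hn.2 q
    refine subsingleton_of_forall_eq 0 fun y => ?_
    obtain ⟨z, hz⟩ := (exactK₂ k hT (q + 1) y).1 ((hn.2 q).elim _ _)
    rw [← hz, show z = 0 from (hn.1 q).elim _ _, map_zero]

include k in
theorem VanPos.right {L : X.Modules} (hL : PicF.IsInvertible L) {S : ShortComplex X.Modules}
    (hS : S.ShortExact) (h₁ : VanPos L S.X₁) (h₂ : VanPos L S.X₂) : VanPos L S.X₃ :=
  (h₁.and h₂).mono fun n hn q => by
    have hT := CurveBundle.Twist.shortExact (Invertible.isInvertible_tensorPow hL n) hS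
    refine subsingleton_of_forall_eq 0 fun y => ?_
    obtain ⟨z, hz⟩ := (exactK₃ k hT (q + 1) (q + 2) rfl y).1 ((hn.1 (q + 1)).elim _ _)
    rw [← hz, show z = 0 from (hn.2 q).elim _ _, map_zero]

include k in
theorem thick [IsNoetherian X] {L : X.Modules} (hL : PicF.IsInvertible L) (T : Set X) :
    ProperFin.Devissage.Thick T (SubVanPos L) where
  of_isZero M hM := fun G i _ _ => Filter.Eventually.of_forall fun n q => by
    have hG : IsZero G := IsZero.of_mono i hM
    haveI := CurveBundle.Twist.isEquivalence (Invertible.isInvertible_tensorPow hL n)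
    have hz : IsZero (CohB1.tensorMod G (CohB1.tensorPow L n)) :=
      Functor.map_isZero (tensorBy (CohB1.tensorPow L n)) hG
    refine subsingleton_of_forall_eq 0 fun x => ?_
    have h1 : (Curves.LES.F X).map (𝟙 (CohB1.tensorMod G (CohB1.tensorPow L n))) = 0 := by
      rw [hz.eq_of_src (𝟙 _) 0, Functor.map_zero]
    rw [CategoryTheory.Functor.map_id] at h1
    have := congrArg (fun g => Sheaf.H.map g (q + 1) x) h1
    simp only [Sheaf.H.map_apply, Abelian.Ext.mk₀_zero, Abelian.Ext.comp_zero, Abelian.Ext.comp_mk₀_id] at this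
    exact this
  two S hS h₁ h₂ h₃ := by
    haveI := hS.mono_f
    haveI := hS.epi_g
    refine ⟨fun q₁ q₃ G i _ hG => ?_, fun q₂ _ G i _ hG => q₂ G (i ≫ S.f) (mono_comp _ _) hG,
      fun q₁ q₂ G i _ hG => ?_⟩
    · let ψ : G ⟶ S.X₃ := i ≫ S.g
      have hK : Coh.IsCoh (kernel ψ) := CohBasics.Closure.isCoh_kernel ψ hG h₃.1.1
      have hI : Coh.IsCoh (Abelian.coimage ψ) :=
        CohBasics.Closure.isCoh_cokernel (kernel.ι ψ) hK.1 hG
      haveI := hS.exact.mono_g
      let lK : kernel ψ ⟶ S.X₁ :=
        hS.fIsKernel.lift (KernelFork.ofι (kernel.ι ψ ≫ i) (by rw [Category.assoc]; exact kernel.condition ψ))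
      have hlK : lK ≫ S.f = kernel.ι ψ ≫ i := Fork.IsLimit.lift_ι hS.fIsKernel
      haveI : Mono lK := mono_of_mono_fac hlK
      have v₁ : VanPos L (kernel ψ) := q₁ (kernel ψ) lK inferInstance hK
      have v₃ : VanPos L (cokernel (kernel.ι ψ)) :=
        q₃ (Abelian.coimage ψ) (Abelian.factorThruCoimage ψ) inferInstance hI
      exact VanPos.middle (S := ShortComplex.mk (kernel.ι ψ) (cokernel.π (kernel.ι ψ)) (cokernel.condition _))
        k hL (Devissage.Basic.exists_ses_mono (kernel.ι ψ)) v₁ v₃
    · have hP : Coh.IsCoh (pullback i S.g) := CohBasics.Closure.isCoh_pullback i S.g hG h₂.1 h₃.1.1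
      let π := pullback.fst i S.g
      have hK : Coh.IsCoh (kernel π) := CohBasics.Closure.isCoh_kernel π hP hG.1
      have hw : (kernel.ι π ≫ pullback.snd i S.g) ≫ S.g = 0 := by
        rw [Category.assoc, ← pullback.condition, ← Category.assoc]
        exact (congrArg (· ≫ i) (kernel.condition π)).trans zero_comp
      let lK : kernel π ⟶ S.X₁ := hS.fIsKernel.lift (KernelFork.ofι _ hw)
      have hlK : lK ≫ S.f = kernel.ι π ≫ pullback.snd i S.g := Fork.IsLimit.lift_ι hS.fIsKernel
      haveI : Mono (kernel.ι π ≫ pullback.snd i S.g) := inferInstance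
      haveI : Mono lK := mono_of_mono_fac hlK
      have v₁ : VanPos L (kernel π) := q₁ (kernel π) lK inferInstance hK
      have v₂ : VanPos L (pullback i S.g) := q₂ _ (pullback.snd i S.g) inferInstance hP
      exact VanPos.right (S := ShortComplex.mk (kernel.ι π) π (kernel.condition _))
        k hL (Devissage.Basic.exists_ses_epi π) v₁ v₂

omit [X.Over (Spec (CommRingCat.of k))] in
theorem vanPos_push {Z : Scheme.{u}} (i : Z ⟶ X) [IsClosedImmersion i] [X.Over (Spec (CommRingCat.of k))]
    {L : X.Modules} (hL : PicF.IsInvertible L) {N : Z.Modules} [N.IsQuasicoherent]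
    (h : VanPos ((pb i).obj L) N) : VanPos L ((Scheme.Modules.pushforward i).obj N) := by
  refine h.mono fun n hn q => ?_
  have hLn := Invertible.isInvertible_tensorPow hL n
  let e : CohB1.tensorMod ((Scheme.Modules.pushforward i).obj N) (CohB1.tensorPow L n) ≅
      (Scheme.Modules.pushforward i).obj (CohB1.tensorMod N (CohB1.tensorPow ((pb i).obj L) n)) :=
    comm _ _ ≪≫ (Modules.ProjFormula.projIso i (E := CohB1.tensorPow L n)
      (Modules.DualBasis.hasDBases_of_isFinLocFree (LocFree.of_rank (LocFree.of_isInvertible hLn)))).app N ≪≫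
    (Scheme.Modules.pushforward i).mapIso (comm _ _ ≪≫ tensorIso (Iso.refl N) (pullbackPow i L n))
  let N' := CohB1.tensorMod N (CohB1.tensorPow ((pb i).obj L) n)
  haveI := QCohInv.isQCoh_of_isInvertible (Invertible.isInvertible_tensorPow (PicLoc.isInvertible_pullback i hL) n)
  haveI : N'.IsQuasicoherent := TensorQCoh.isQCoh_tensorMod _ _
  haveI := hn q
  haveI : Subsingleton (Coh.HH X ((Scheme.Modules.pushforward i).obj N') (q + 1)) :=
    (ZarCoh.PushH.pushEquiv i.base X.isBasis_affineOpens (Coh.toAb N')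
      (fun W hW q => ZarCoh.Affine.HU_subsingleton N' (IsAffineOpen.preimage hW i) q) (q + 1)).toEquiv.subsingleton
  exact (isoK k e (q + 1)).toEquiv.subsingleton

include k in
theorem subVanPos_push {Z : Scheme.{u}} (i : Z ⟶ X) [IsClosedImmersion i] {L : X.Modules} (hL : PicF.IsInvertible L)
    (h : ∀ N : Z.Modules, Coh.IsCoh N → VanPos ((pb i).obj L) N) :
    SubVanPos L ((Coh.push i).obj (Coh.structureModule Z)) := by
  intro G m _ hG
  let A := Scheme.Modules.pullbackPushforwardAdjunction i
  haveI : Mono m := ‹_›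
  haveI : Mono (A.unit.app G) := by
    have e : A.unit.app G ≫ (Scheme.Modules.pushforward i).map
        ((Scheme.Modules.pullback i).map m ≫ A.counit.app (Coh.structureModule Z)) = m := by
      rw [Functor.map_comp, ← Category.assoc]
      erw [← A.unit.naturality m]
      rw [Category.assoc]
      erw [A.right_triangle_components]
      exact Category.comp_id m
    exact mono_of_mono_fac e
  haveI := PushClosed.Unit.epi_unit i G
  haveI : IsIso (A.unit.app G) := isIso_of_mono_of_epi _
  haveI := hG.1
  haveI := hG.2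
  haveI := QCoh.Pullback.isQCoh_pullback i G
  exact (vanPos_push k i hL (h _ ⟨QCoh.Pullback.isQCoh_pullback i G, Modules.SupportOps.isFT_pullback i G⟩)).of_iso k
    (asIso (A.unit.app G)).symm

variable [IsProper (X ↘ Spec (CommRingCat.of k))]

include k in
/-- Ample restriction to every integral closed subscheme implies ample. -/
theorem isAmple_of_points {L : X.Modules} (hL : PicF.IsInvertible L)
    (h : ∀ y : X, CohB1.IsAmple ((pb (_root_.IntMult.ptIdeal y).subschemeι).obj L)) : CohB1.IsAmple L := by
  haveI := Curves.GlobalSections.isNoetherian_of_proper k X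
  refine AmpleH1.isAmple hL fun I i _ hI => ?_
  haveI := hI
  have hIc : Coh.IsCoh I := CohBasics.Closure.isCoh_of_mono i (Snapper.Twist.isCoh_structureModule X)
  have hv : SubVanPos L I := by
    refine ProperFin.Devissage.devissage (SubVanPos L) ⊤ (thick k hL _) (fun y _ => ?_) I ⟨hIc, Set.subset_univ _⟩
    refine ⟨_, Devissage.Closure.cohIn_closureStructureSheaf y,
      Devissage.Closure.length_closureStructureSheaf y, subVanPos_push k _ hL fun N hN => ?_⟩
    letI : (_root_.IntMult.ptIdeal y).subscheme.Over (Spec (CommRingCat.of k)) :=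
      ⟨(_root_.IntMult.ptIdeal y).subschemeι ≫ (X ↘ Spec (CommRingCat.of k))⟩
    haveI : IsProper ((_root_.IntMult.ptIdeal y).subscheme ↘ Spec (CommRingCat.of k)) :=
      inferInstanceAs (IsProper ((_root_.IntMult.ptIdeal y).subschemeι ≫ (X ↘ Spec (CommRingCat.of k))))
    obtain ⟨n₀, hn₀⟩ := SurfInt.AmpleVanish.exists_subsingleton k (h y) hN
    exact Filter.eventually_atTop.2 ⟨n₀, hn₀⟩
  obtain ⟨n, hn⟩ := Filter.eventually_atTop.1 (hv I (𝟙 I) inferInstance hIc)
  exact ⟨n, hn (n + 1) n.le_succ 0⟩

end Groth.Agent.H97.AmpleRestrict
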