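import Groth.Agent.Lib.AssPt.Modules
import Groth.Prelude.Def_FlatCA
import Mathlib.AlgebraicGeometry.Modules.Tilde

/-! Weakly associated points of `tilde M` versus weakly associated primes of `M`. -/

set_option autoImplicit false
universe u
open CategoryTheory AlgebraicGeometry

namespace Groth.Agent.H97.AssTilde

open Groth.Agent.Lib.AssPt

theorem exists_radical_ker_iff {R S M N : Type*} [CommRing R] [CommRing S] [Algebra R S]
    [IsLocalRing S] [AddCommGroup M] [Module R M] [AddCommGroup N] [Module R N] [Module S N]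
    [IsScalarTower R S N] (p : Ideal R) [p.IsPrime] [IsLocalization.AtPrime S p] (f : M →ₗ[R] N)
    [IsLocalizedModule p.primeCompl f] :
    (∃ v : N, Ideal.radical (LinearMap.ker (LinearMap.toSpanSingleton S N v)) = IsLocalRing.maximalIdeal S) ↔
      ∃ m : M, p ∈ Ideal.minimalPrimes (LinearMap.ker (LinearMap.toSpanSingleton R M m)) := by
  have hker : ∀ m : M, (LinearMap.ker (LinearMap.toSpanSingleton S N (f m)) : Ideal S) =
      Ideal.map (algebraMap R S) (LinearMap.ker (LinearMap.toSpanSingleton R M m)) := by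
    intro m
    refine le_antisymm (fun r hr => ?_) (Ideal.map_le_iff_le_comap.2 fun r hr => ?_)
    · obtain ⟨⟨a, s⟩, has⟩ := IsLocalization.surj p.primeCompl r
      have hr' : r • f m = 0 := hr
      have h0 : f (a • m) = 0 := by
        rw [map_smul, ← algebraMap_smul S a (f m), ← has, mul_comm, mul_smul, hr', smul_zero]
      obtain ⟨t, ht⟩ := (IsLocalizedModule.eq_zero_iff p.primeCompl f).1 h0
      rw [IsLocalization.mem_map_algebraMap_iff p.primeCompl]
      refine ⟨⟨⟨(t : R) * a, ?_⟩, t * s⟩, ?_⟩
      · show ((t : R) * a) • m = 0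
        rw [mul_smul]
        exact ht
      · simp only [Submonoid.coe_mul, map_mul, ← has]
        ring
    · show algebraMap R S r • f m = 0
      rw [algebraMap_smul, ← map_smul, show r • m = 0 from hr, map_zero]
  constructor
  · rintro ⟨v, hv⟩
    obtain ⟨⟨m, s⟩, hms⟩ := IsLocalizedModule.surj p.primeCompl f v
    refine ⟨m, (Modules.radical_map_eq_maximalIdeal_iff (S := S) p _).1 ?_⟩
    rw [← hker, ← hms, Submonoid.smul_def, ← algebraMap_smul S (s : R) v,
      ← Basic.colon_bot_singleton, Modules.colon_smul_unit (IsLocalization.map_units S s),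
      Basic.colon_bot_singleton]
    exact hv
  · rintro ⟨m, hm⟩
    exact ⟨f m, by rw [hker]; exact (Modules.radical_map_eq_maximalIdeal_iff (S := S) p _).2 hm⟩

variable (A : CommRingCat.{u}) (M : ModuleCat.{u} A) (p : Spec A)

theorem isWeakAssPoint_tilde_iff :
    Curv2.IsWeakAssPoint (tilde M) p ↔
      ∃ m : M, p.asIdeal ∈ Ideal.minimalPrimes (LinearMap.ker (LinearMap.toSpanSingleton A M m)) := by
  letI : Algebra A ((Spec A).presheaf.stalk p) := StructureSheaf.stalkAlgebra A p
  haveI : IsLocalization.AtPrime ((Spec A).presheaf.stalk p) p.asIdeal :=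
    StructureSheaf.IsLocalization.to_stalk A p
  haveI : IsScalarTower A ((Spec A).presheaf.stalk p) ((tilde M).presheaf.stalk p) :=
    .of_algebraMap_smul fun _ _ => rfl
  exact exists_radical_ker_iff p.asIdeal (tilde.toStalk M p).hom

/-- A finitely generated prime minimal over an annihilator is associated. -/
theorem exists_eq_radical_of_fg {R M : Type*} [CommRing R] [AddCommGroup M] [Module R M]
    {p : Ideal R} [p.IsPrime] (hp : p.FG) {m : M}
    (h : p ∈ Ideal.minimalPrimes (LinearMap.ker (LinearMap.toSpanSingleton R M m))) :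
    p ∈ associatedPrimes R M := by
  classical
  set J : Ideal R := LinearMap.ker (LinearMap.toSpanSingleton R M m) with hJ
  have key : ∀ g ∈ p, ∃ s ∉ p, ∃ n : ℕ, (s * g ^ n) • m = 0 := by
    intro g hg
    obtain ⟨n, hn⟩ :=
      (IsLocalization.AtPrime.radical_map_of_mem_minimalPrimes (A := Localization.AtPrime p) p J h).ge
        (Ideal.mem_map_of_mem _ hg)
    rw [← map_pow, IsLocalization.algebraMap_mem_map_algebraMap_iff p.primeCompl] at hn
    obtain ⟨s, hs, hsn⟩ := hn
    exact ⟨s, hs, n, hsn⟩
  obtain ⟨G, hG⟩ := hp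
  choose! s hs n hn using key
  have hGp : ∀ g ∈ G, g ∈ p := fun g hg => hG.le (Submodule.subset_span hg)
  refine ⟨inferInstance, (∏ g ∈ G, s g) • m, le_antisymm ?_ ?_⟩
  · rw [← hG, Submodule.span_le]
    intro g hg
    refine ⟨n g, ?_⟩
    rw [Submodule.mem_colon_singleton, Submodule.mem_bot, smul_smul,
      ← Finset.mul_prod_erase G s hg,
      show g ^ n g * (s g * ∏ i ∈ G.erase g, s i) = (∏ i ∈ G.erase g, s i) * (s g * g ^ n g) by ring,
      mul_smul, hn g (hGp g hg), smul_zero]
  · rw [Ideal.IsPrime.radical_le_iff ‹_›]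
    intro r hr
    rw [Submodule.mem_colon_singleton, Submodule.mem_bot, smul_smul] at hr
    refine (Ideal.IsPrime.mem_or_mem ‹_› (h.1.2 hr)).resolve_right fun hmem => ?_
    obtain ⟨g, hg, hgp⟩ := (Ideal.IsPrime.prod_mem_iff).1 hmem
    exact hs g (hGp g hg) hgp

end Groth.Agent.H97.AssTilde
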