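import Groth.Agent.Lib.Curves.Degree
import Groth.Agent.Lib.Ample.Basis
import Groth.Agent.Lib.Ample.GG

/-! If `X` is covered by the affine locus of a section `s` of `M` and an affine open trivialising `M`,
high twists by `M` kill `H¹`. -/

set_option autoImplicit false
universe u

open CategoryTheory CategoryTheory.Limits AlgebraicGeometry Opposite TopologicalSpace

noncomputable section

namespace Groth.Agent.H97.CurveVanishing

open Groth.Agent.Lib.TensorMod Groth.Agent.Lib.TensorMod.Dual Groth.Agent.Lib.TensorMod.Gen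
open Groth.Agent.Lib.TensorMod.Basic Groth.Agent.Lib.TensorMod.Pullback Groth.Agent.Lib.TensorMod.Free
open Groth.Agent.Lib.Ample.GenLocus Groth.Agent.Lib.Ample.Extend Groth.Agent.Lib.Ample.GG
open Groth.Agent.Lib Groth.Agent.Lib.Curves

theorem cls_comp' {T : TopCat.{u}} {G G' : CohTop.Ab T} (W : Opens T) (φ : G ⟶ G')
    (s : G.obj.obj (op W)) :
    MVConnecting.cls G' W (φ.hom.app (op W) s) =
      (MVConnecting.cls G W s).comp (Abelian.Ext.mk₀ φ) (add_zero 0) := by
  rw [MVConnecting.cls_apply, MVConnecting.cls_apply, Abelian.Ext.mk₀_comp_mk₀]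
  congr 1
  apply (ZarCoh.Basic.homEquiv W G').injective
  rw [ZarCoh.Basic.homEquiv_comp, Equiv.apply_symm_apply, Equiv.apply_symm_apply]

theorem δ_comp' {T : TopCat.{u}} {G G' : CohTop.Ab T} {U V : Opens T} (φ : G ⟶ G')
    (w : Abelian.Ext.{u} (ZarCoh.Basic.Zs.obj (U ⊓ V)) G 0) :
    (Cech.MV.δ G' U V 0 1 rfl (w.comp (Abelian.Ext.mk₀ φ) (add_zero 0)) :
        Abelian.Ext.{u} (ZarCoh.Basic.Zs.obj (U ⊔ V)) G' 1) =
      (Cech.MV.δ G U V 0 1 rfl w : Abelian.Ext.{u} (ZarCoh.Basic.Zs.obj (U ⊔ V)) G 1).comp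
        (Abelian.Ext.mk₀ φ) (add_zero 1) :=
  (Abelian.Ext.comp_assoc (Opens.mayerVietorisSquare U V).shortComplex_shortExact.extClass w
    (Abelian.Ext.mk₀ φ) (add_zero 1) (add_zero 0) (by omega)).symm

theorem connecting_map {T : TopCat.{u}} {G G' : CohTop.Ab T} {U V : Opens T} (hUV : U ⊔ V = ⊤)
    (φ : G ⟶ G') (s : G.obj.obj (op (U ⊓ V))) :
    MVConnecting.connecting G' hUV (φ.hom.app (op (U ⊓ V)) s) =
      Sheaf.H.map φ 1 (MVConnecting.connecting G hUV s) := by
  apply (ZarCoh.Compare.hTop G' 1).injective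
  rw [Sheaf.H.map_apply, ZarCoh.Compare.hTop_comp, MVConnecting.connecting_apply,
    MVConnecting.connecting_apply, AddEquiv.apply_symm_apply, AddEquiv.apply_symm_apply,
    ← ZarCoh.Basic.rs_comp]
  congr 1
  rw [cls_comp']
  exact δ_comp' φ _

variable {X : Scheme.{u}} {M F : X.Modules} (s : Coh.structureModule X ⟶ M)

theorem tw_add (n : ℕ) {U : X.Opens} (t t' : Γ(F, U)) : tw s n (t + t') = tw s n t + tw s n t' :=
  pairM_add_left (𝟙 _) t t' _

theorem tw_smul (n : ℕ) {U : X.Opens} (r : Γ(X, U)) (t : Γ(F, U)) : tw s n (r • t) = r • tw s n t :=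
  pairM_smul_left (𝟙 _) r t _

/-- `t ↦ t ⊗ sⁿ`. -/
def twHom (n : ℕ) : F ⟶ CohB1.tensorMod F (CohB1.tensorPow M n) :=
  ⟨PresheafOfModules.homMk
    { app := fun U => AddCommGrpCat.ofHom
        (AddMonoidHom.mk' (fun t : Γ(F, U.unop) => tw s n t) (tw_add s n))
      naturality := fun U V i => by
        ext (t : Γ(F, U.unop))
        exact (rs_twist s n i.unop.le t).symm }
    fun U r t => tw_smul s n r t⟩

theorem twHom_app (n : ℕ) (U : X.Opens) (t : Γ(F, U)) : (twHom (F := F) s n).app U t = tw s n t := rfl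

theorem tw_surjective (hM : PicF.IsInvertible M) (hF : Coh.IsCoh F) {W : X.Opens} (hW : IsAffineOpen W)
    (hs : W ≤ CohB1.genLocus M s) (n : ℕ) :
    Function.Surjective (fun t : Γ(F, W) => tw s n t) := by
  haveI := hF.1
  haveI := (CurveBundle.Twist.isCoh (Invertible.isInvertible_tensorPow hM n) hF).1
  haveI := CohBasics.Closure.finite_sections hF hW
  obtain ⟨N, t, ht⟩ := Module.Finite.exists_fin (R := Γ(X, W)) (M := Γ(F, W))
  intro c
  let P : Submodule Γ(X, W) Γ(CohB1.tensorMod F (CohB1.tensorPow M n), W) :=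
    Submodule.span Γ(X, W) (Set.range fun i => tw s n (t i))
  have hgen : ∀ V : X.Opens, V ≤ W → IsGen (CohB1.tensorPow M n) V (powSec (sv s V) n) := fun V hV => by
    rw [← rs_sv s (hV.trans hs)]
    exact isGen_powSec ((Ample.Basis.isGen_genLocus s).res _) n
  have hc : c ∈ P := by
    refine CohBasics.Affine.mem_of_germ_mem hW P c fun x hx => ?_
    refine eq_top_iff.1 (mem_of_tmul _ fun V hxV a b => ?_) Submodule.mem_top
    have hxV' : x ∈ V ⊓ W := ⟨hxV, hx⟩
    obtain ⟨r, hr⟩ := exists_coord (hgen (V ⊓ W) inf_le_right) (rs _ (inf_le_left : V ⊓ W ≤ V) b)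
    rw [← gm_rs (inf_le_left : V ⊓ W ≤ V) hxV', rs_pairM, hr, pairM_smul_right, gm_smul]
    refine Submodule.smul_mem _ _ ?_
    refine mem_of_span (M := F) hxV' _ (CohBasics.Affine.germ_span_eq_top hW (Set.range t) ht hx) _
      (fun V' _ a' => pairM (𝟙 (CohB1.tensorMod F (CohB1.tensorPow M n))) a' (powSec (sv s V') n))
      (fun V' V'' hV' hV'' a' => by rw [rs_pairM, rs_powSec, rs_sv]) (fun V' hV' a' b' => pairM_add_left _ _ _ _)
      (fun V' hV' r a' => pairM_smul_left _ _ _ _) ?_ le_rfl hxV' (rs F inf_le_left a)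
    rintro _ ⟨_, ⟨i, rfl⟩, rfl⟩
    refine ⟨V ⊓ W, le_rfl, hxV', rs F inf_le_right (t i), gm_rs _ _ _,
      Submodule.subset_span ⟨tw s n (t i), Submodule.subset_span ⟨i, rfl⟩, ?_⟩⟩
    have h2 : tw s n (t i) = pairM (𝟙 _) (t i) (powSec (sv s W) n) := by
      rw [twist_eq (a := 1) (e := sv s W) (one_smul _ _).symm, one_pow, one_smul]; rfl
    change gm hx (tw s n (t i)) = _
    rw [← gm_rs (inf_le_right : V ⊓ W ≤ W) hxV', h2, rs_pairM, rs_powSec, rs_sv]
  obtain ⟨r, hr⟩ := Submodule.mem_span_range_iff_exists_fun _ |>.1 hc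
  refine ⟨∑ i, r i • t i, ?_⟩
  show (AddMonoidHom.mk' (fun t : Γ(F, W) => tw s n t) (tw_add s n)) _ = c
  rw [map_sum]
  simp only [AddMonoidHom.mk'_apply, tw_smul]
  exact hr

variable (k : Type u) [Field k] [X.Over (Spec (CommRingCat.of k))]

/-- High twists by `M` kill `H¹`. -/
theorem eventually_subsingleton_H1 (hM : PicF.IsInvertible M) (hF : Coh.IsCoh F)
    [FiniteDimensional k (Coh.HH X F 1)] (hU : IsAffineOpen (CohB1.genLocus M s))
    {V : X.Opens} (hV : IsAffineOpen V) {g : Γ(M, V)} (hg : IsGen M V g)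
    (hUV : CohB1.genLocus M s ⊔ V = ⊤) :
    ∀ᶠ n in Filter.atTop, Subsingleton (Coh.HH X (CohB1.tensorMod F (CohB1.tensorPow M n)) 1) := by
  haveI := hF.1
  let U := CohB1.genLocus M s
  obtain ⟨a, ha⟩ := exists_coord hg (sv s V)
  have hUa : U ⊓ V = X.basicOpen a := genLocus_inf_eq hg s ha
  have hUVaff : IsAffineOpen (U ⊓ V) := hUa ▸ hV.basicOpen a
  have hsurj : ∀ {G : X.Modules}, G.IsQuasicoherent →
      Function.Surjective (MVConnecting.connecting (Coh.toAb G) hUV) := fun {G} hG =>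
    haveI := hG
    MVConnecting.connecting_surjective (Coh.toAb G) hUV (ZarCoh.Affine.HU_subsingleton G hU 0)
      (ZarCoh.Affine.HU_subsingleton G hV 0)
  obtain ⟨N, z, hz⟩ := Module.Finite.exists_fin (R := k) (M := Coh.HH X F 1)
  choose c hc using fun i => hsurj hF.1 (z i)
  have hext : ∀ i, ∀ᶠ n in Filter.atTop, ∃ y : Γ(CohB1.tensorMod F (CohB1.tensorPow M n), V),
      rs _ (inf_le_right : U ⊓ V ≤ V) y = tw s n (show Γ(F, U ⊓ V) from c i) := fun i => by
    obtain ⟨m, y, hy⟩ := (QCoh.Localizing.localizes_of_isAffineOpen F hV a).ext'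
      (rs F hUa.ge (show Γ(F, U ⊓ V) from c i))
    refine Filter.eventually_atTop.2 ⟨m, fun n hn => ?_⟩
    refine ⟨SecTwist.tmul F (CohB1.tensorPow M n) V (a ^ (n - m) • y) (powSec g n), ?_⟩
    have hcoord : sv s (U ⊓ V) =
        rf (inf_le_right : U ⊓ V ≤ V) a • rs M (inf_le_right : U ⊓ V ≤ V) g := by
      rw [← rs_sv s (inf_le_right : U ⊓ V ≤ V), ha, rs_smul]
    rw [rs_tmul, rs_powSec, rs_smul, twist_eq hcoord]
    congr 1
    have hy' := congrArg (rs F hUa.le) (show rs F (X.basicOpen_le a) y = rf (X.basicOpen_le a) a ^ m •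
      rs F hUa.ge (show Γ(F, U ⊓ V) from c i) from hy)
    rw [rs_rs, rs_smul, rs_rs, rs_self] at hy'
    rw [hy', smul_smul]
    congr 1
    simp only [rf, map_pow]
    rw [← rf, ← rf, rf_rf, ← pow_add, Nat.sub_add_cancel hn]
  refine (Filter.eventually_all.2 hext).mono fun n hn => ?_
  choose y hy using hn
  let φ := twHom (F := F) s n
  let P := CohB1.tensorMod F (CohB1.tensorPow M n)
  have hP : P.IsQuasicoherent := (CurveBundle.Twist.isCoh (Invertible.isInvertible_tensorPow hM n) hF).1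
  have hmap : ∀ t : Γ(F, U ⊓ V), LES.mapK k φ 1 (MVConnecting.connecting (Coh.toAb F) hUV t) =
      MVConnecting.connecting (Coh.toAb P) hUV (tw s n t) := fun t =>
    (connecting_map hUV (LES.toAbMap φ) t).symm
  have hzero : LES.mapK k φ 1 = 0 := by
    refine LinearMap.ext_on_range hz fun i => ?_
    rw [LinearMap.zero_apply, ← hc i, hmap, ← hy i]
    exact MVConnecting.connecting_res_right (Coh.toAb P) hUV (y i)
  refine subsingleton_of_forall_eq 0 fun w => ?_
  obtain ⟨w', rfl⟩ := hsurj hP w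
  obtain ⟨t, ht⟩ := tw_surjective s hM hF hUVaff inf_le_left n (show Γ(P, U ⊓ V) from w')
  rw [← show tw s n t = w' from ht, ← hmap, hzero, LinearMap.zero_apply]

end Groth.Agent.H97.CurveVanishing
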