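import Groth.Agent.H97.CurveLift
import Groth.Agent.Lib.Nakai.Top

/-! The degree on an integral curve through its generic point. -/

set_option autoImplicit false
set_option linter.style.haveILetI false
universe u
open CategoryTheory CategoryTheory.Limits AlgebraicGeometry TopologicalSpace

namespace Groth.Agent.H97.DegCurve

open Groth.Agent.Lib Groth.Agent.Lib.Snapper

theorem euler_diff_generic {k : Type u} [Field k] {Z : Scheme.{u}} [Z.Over (Spec (CommRingCat.of k))]
    [IsProper (Z ↘ Spec (CommRingCat.of k))] [IsIntegral Z] (hZ : topologicalKrullDim Z = 1)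
    {L : Z.Modules} (hL : PicF.IsInvertible L) :
    Curv2.euler k Z (CohB1.tensorMod (Cyc.closureStructureSheaf (genericPoint Z)) L) -
      Curv2.euler k Z (Cyc.closureStructureSheaf (genericPoint Z)) = Curv2.deg k Z L 1 := by
  haveI := Curves.GlobalSections.isNoetherian_of_proper k Z
  rw [CurveLift.euler_diff L (N := 1) hZ.le,
    Nakai.Top.sym_generic (k := k) (n := 1) hZ (l := [L]) (fun N hN => by rw [List.mem_singleton.1 hN]; exact hL) rfl]
  unfold Curv2.deg
  rw [Curves.Euler.euler_eq_of_iso (TensorMod.Basic.rightUnit L).symm, Chi.euler_eq_eulerCharLE (d := 1) hZ.le,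
    Chi.euler_eq_eulerCharLE (d := 1) hZ.le, Nat.cast_one, one_mul]
  exact neg_sub _ _

end Groth.Agent.H97.DegCurve
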