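import Groth.Agent.H97.DetDeg
import Groth.Agent.H97.DimOneSetup
import Groth.Agent.H97.FiniteAffine
import Groth.Agent.Lib.Ample.Basis
import Groth.Agent.Lib.UnifReg.Hyperplane
import Groth.Agent.S7669

/-! `deg E = deg det E`. -/

set_option autoImplicit false
set_option linter.style.haveILetI false
universe u
open CategoryTheory CategoryTheory.Limits AlgebraicGeometry Opposite TopologicalSpace

namespace Groth.Agent.H97.DegDet

open Groth.Agent.Lib Groth.Agent.Lib.Modules.TensorGen Groth.Agent.Lib.TensorMod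
open Groth.Agent.Lib.TensorMod.Dual Groth.Agent.Lib.TensorMod.Gen

variable {k : Type u} [Field k] {X : Scheme.{u}} [X.Over (Spec (CommRingCat.of k))]
  [IsProper (X ↘ (Spec (CommRingCat.of k)))]

theorem isInvertible_tensorPow {P : X.Modules} (hP : PicF.IsInvertible P) (m : ℕ) :
    PicF.IsInvertible (CohB1.tensorPow P m) :=
  TensorMod.Gen.isInvertible_iff.2 fun x => by
    obtain ⟨V, a, hx, ha⟩ := TensorMod.Gen.isInvertible_iff.1 hP x
    exact ⟨V, _, hx, isGen_tprodConst ha m⟩

theorem deg_tensorPow (hdim : topologicalKrullDim X ≤ 1) {P : X.Modules} (hP : PicF.IsInvertible P) :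
    ∀ m : ℕ, Curv2.deg k X (CohB1.tensorPow P m) 1 = m * Curv2.deg k X P 1
  | 0 => by
    unfold Curv2.deg
    show Curv2.euler k X (Coh.structureModule X) - _ = _
    push_cast
    ring
  | m + 1 => by
    have h := CurveEuler.deg_tensor (k := k) hdim
      (TensorMod.LocFree.of_isInvertible (isInvertible_tensorPow hP m)) (TensorMod.LocFree.of_isInvertible hP)
    rw [deg_tensorPow hdim hP m] at h
    show Curv2.deg k X (CohB1.tensorMod (CohB1.tensorPow P m) P) 1 = _
    rw [show (1 : ℕ) = 1 * 1 from rfl, h]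
    push_cast
    ring

theorem deg_eq (hdim : topologicalKrullDim X ≤ 1) {n : ℕ} {E L : X.Modules}
    (hE : FlatMod.IsFinLocFreeOfRank n E)
    (φ : ∀ U : X.affineOpens, Γ(L, U.1) ≃ₗ[Γ(X, U.1)] ↥(⋀[Γ(X, U.1)]^n Γ(E, U.1)))
    (hφ : ∀ (U V : X.affineOpens) (h : V.1 ≤ U.1) (e : Fin n → Γ(E, U.1)),
      rs L h ((φ U).symm (exteriorPower.ιMulti _ n e)) =
        (φ V).symm (exteriorPower.ιMulti _ n fun j => rs _ h (e j))) :
    Curv2.deg k X E n = Curv2.deg k X L 1 := by
  classical
  haveI := Curves.GlobalSections.isNoetherian_of_proper k X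
  haveI : X.IsSeparated := ⟨by
    rw [← Limits.terminal.comp_from (X ↘ Spec (CommRingCat.of k))]; infer_instance⟩
  -- an affine open around the associated and generic points with a basis
  have hT₁ := UnifReg.Hyperplane.finite_assPoints (Snapper.Twist.isCoh_structureModule X)
  have hT₂ := DimOneSetup.finite_gen (X := X)
  obtain ⟨U₀, hU₀, hTU₀⟩ := FiniteAffine.exists_affineOpen
    (X := X) NoetherianSpace.finite_irreducibleComponents (hT₁.union hT₂).toFinset
    fun x _ => DimOneSetup.ringKrullDim_stalk_le_one hdim x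
  obtain ⟨g, e, hTg, -, he⟩ := FinsetTriv.exists_basis_basicOpen hU₀ hE (hT₁.union hT₂)
    (fun x hx => hTU₀ x ((hT₁.union hT₂).mem_toFinset.2 hx)) (O := ⊤) fun _ _ => trivial
  let U := X.basicOpen g
  have hclosed : ∀ x : X, x ∉ U → IsClosed ({x} : Set X) := fun x hx =>
    DimOneSetup.isClosed_singleton_of_not_gen hdim fun h => hx (hTg (Or.inr h))
  have hfin : ((U : Set X)ᶜ).Finite := DimOneSetup.finite_of_no_gen hdim U.isOpen.isClosed_compl
    fun x hx h => hx (hTg (Or.inr h))
  have hass : ∀ y : X, AssPt.Basic.MaxAssoc (X.presheaf.stalk y) → y ∈ U := fun y hy =>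
    hTg (Or.inl ((AssPt.Basic.isAssPoint_structure_iff y).2 hy))
  have hdisc : DiscreteTopology ↥((U : Set X)ᶜ) := by
    haveI := hfin.to_subtype
    haveI : T1Space ↥((U : Set X)ᶜ) := ⟨fun x => by
      have : ({x} : Set ↥((U : Set X)ᶜ)) = Subtype.val ⁻¹' {x.1} := by ext y; simp [Subtype.ext_iff]
      rw [this]
      exact (hclosed x.1 x.2).preimage continuous_subtype_val⟩
    infer_instance
  obtain ⟨⟨A, t, hA, hAU⟩, -⟩ := Groth.Agent.S7669.result X U hdisc fun x _ =>
    ⟨inferInstance, DimOneSetup.ringKrullDim_stalk_le_one hdim x⟩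
  haveI := (Perfect.Coherent.isCoh_of_isFinLocFree (TensorMod.LocFree.of_rank hE)).1
  -- extend the basis after a twist
  obtain ⟨m, hm⟩ := (Filter.eventually_all.2 fun i : Fin n =>
    Ample.Extend.eventually_extension (F := E) hA t (rs E (hAU.le : CohB1.genLocus A t ≤ U) (e i))).exists
  choose σ hσ using hm
  let P := CohB1.tensorPow A m
  have hP := isInvertible_tensorPow hA m
  have hσU : Basis.IsBasis fun i => rs (CohB1.tensorMod E P) (le_top : CohB1.genLocus A t ≤ ⊤) (σ i) := by
    have h := DetSection.isBasis_tg (he.res (hAU.le : CohB1.genLocus A t ≤ U))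
      (Ample.Extend.isGen_powSec (Ample.Basis.isGen_genLocus t) m)
    refine (congrArg Basis.IsBasis (funext fun i => ?_)).mp h
    rw [hσ i, Ample.Extend.twist_eq (a := 1) (one_smul _ _).symm, one_pow, one_smul]
    rfl
  have hL : FlatMod.IsFinLocFreeOfRank 1 L := by
    refine TensorMod.LocFree.of_isInvertible (TensorMod.Gen.isInvertible_iff.2 fun x => ?_)
    obtain ⟨V, hxV, ⟨i⟩⟩ := hE x
    obtain ⟨b, hb⟩ := Basis.exists_basis_of_iso i
    obtain ⟨W, hWV, hxW⟩ := Modules.AffineHom.exists_affine hxV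
    exact ⟨W.1, _, hxW, DetSection.isGen_lam φ hφ W (hb.res hWV)⟩
  have key := DetDeg.deg_eq_of_sections (k := k) φ hφ hE hP hL σ hσU
    (fun y hy => hAU.ge (hass y hy)) (by rw [hAU]; exact hfin) (fun x hx => hclosed x fun h => hx (hAU.ge h))
  have h1 := CurveEuler.deg_tensor (k := k) hdim hE (TensorMod.LocFree.of_isInvertible hP)
  have h2 := CurveEuler.deg_tensor (k := k) hdim hL
    (TensorMod.LocFree.of_isInvertible (isInvertible_tensorPow hP n))
  rw [mul_one] at h1 h2
  rw [h1, h2, deg_tensorPow hdim hP n] at key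
  push_cast at key
  linarith

end Groth.Agent.H97.DegDet
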