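import Groth.Agent.H97.CurveEuler
import Mathlib.AlgebraicGeometry.IdealSheaf.IrreducibleComponent
import Groth.Agent.H97.DimOneSetup
import Groth.Agent.H97.CurveLift
import Groth.Agent.Lib.IntTheory.Additive
import Groth.Agent.Lib.Cyc.PP.Push
import Groth.Agent.Lib.SurfInt.Push
import Groth.Agent.H75.Birat.Gen
import Groth.Agent.Lib.AssPt.Basic

/-! The degree as a sum over the one-dimensional components. -/

set_option autoImplicit false
set_option linter.style.haveILetI false
universe u
open CategoryTheory CategoryTheory.Limits AlgebraicGeometry TopologicalSpace Opposite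

namespace Groth.Agent.H97.DegSum

open Groth.Agent.Lib

variable {k : Type u} [Field k] {X : Scheme.{u}} [X.Over (Spec (CommRingCat.of k))]
  [IsProper (X ↘ Spec (CommRingCat.of k))]

/-- `χ(E ⊗ F) - n χ(F)`. -/
noncomputable def dev (k : Type u) [Field k] {X : Scheme.{u}} [X.Over (Spec (CommRingCat.of k))]
    (E : X.Modules) (n : ℕ) (F : X.Modules) : ℤ :=
  Curv2.euler k X (CohB1.tensorMod E F) - n * Curv2.euler k X F

omit [IsProper (X ↘ Spec (CommRingCat.of k))] in
theorem deg_eq_dev (E : X.Modules) (n : ℕ) : Curv2.deg k X E n = dev k E n (Coh.structureModule X) := by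
  rw [dev, Curves.Euler.euler_eq_of_iso (TensorMod.Basic.rightUnit E)]
  rfl

theorem isAdd_dev {n : ℕ} {E : X.Modules} (hE : FlatMod.IsFinLocFreeOfRank n E) :
    IntTheory.Additive.IsAdd (dev k E n) := by
  haveI := Curves.GlobalSections.isNoetherian_of_proper k X
  obtain ⟨d, hd⟩ := Snapper.DimBound.exists_dim_bound k X
  have hE' := Modules.DualBasis.hasDBases_of_isFinLocFree (TensorMod.LocFree.of_rank hE)
  have h0 : ∀ {N : X.Modules}, IsZero N → Curv2.euler k X N = 0 := fun h => by
    rw [Snapper.Chi.euler_eq_eulerCharLE hd, Snapper.Chi.eulerCharLE_isZero h]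
  refine ⟨fun {F G} e => ?_, fun {N} h => ?_, fun {S} hS h₁ h₂ h₃ => ?_⟩
  · show _ - _ = _ - _
    rw [Curves.Euler.euler_eq_of_iso e]
    congr 1
    exact Curves.Euler.euler_eq_of_iso (Functor.mapIso (Modules.DualAdj.tensorL E) e)
  · have hz : IsZero (CohB1.tensorMod E N) := Functor.map_isZero (Modules.DualAdj.tensorL E) h
    rw [dev, h0 hz, h0 h, mul_zero, sub_zero]
  · have e := ParBun.Proper.euler_add (k := k) (EulerFinite.ShortExact'.map hE' hS)
      (CurveEuler.isCoh_tensor hE h₁) (CurveEuler.isCoh_tensor hE h₂) (CurveEuler.isCoh_tensor hE h₃)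
    change Curv2.euler k X (CohB1.tensorMod E S.X₂) = Curv2.euler k X (CohB1.tensorMod E S.X₁) +
      Curv2.euler k X (CohB1.tensorMod E S.X₃) at e
    rw [dev, dev, dev, e, ParBun.Proper.euler_add (k := k) hS h₁ h₂ h₃]
    ring

theorem vanishBelow_dev {n : ℕ} {E : X.Modules} (hE : FlatMod.IsFinLocFreeOfRank n E) :
    IntTheory.Additive.VanishBelow (dev k E n) 1 := fun F hF hlt => by
  haveI := Curves.GlobalSections.isNoetherian_of_proper k X
  haveI := hF.2
  have hcl := Modules.Support.isClosed_support F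
  have hz : ∀ z ∈ CohB1.support F, IsClosed ({z} : Set X) := fun z hz =>
    (VarDim.Basic.pdim_eq_zero_iff (X ↘ Spec (CommRingCat.of k)) z).1 (by
      have h : (VarDim.Basic.pdim (X ↘ Spec (CommRingCat.of k)) z : WithBot ℕ∞) < ((1 : ℕ) : WithBot ℕ∞) :=
        lt_of_le_of_lt
          (VarDim.Basic.pdim_le_topologicalKrullDim (X ↘ Spec (CommRingCat.of k)) hcl.isLocallyClosed hz) hlt
      exact Nat.lt_one_iff.1 (by exact_mod_cast h))
  rw [dev, EulerFinite.euler_tensor (k := k) hE hF hz, sub_self]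

variable [IsNoetherian X] (hdim : topologicalKrullDim X ≤ 1)

theorem dim_top {X : Scheme.{u}} (hdim : topologicalKrullDim X ≤ 1) :
    topologicalKrullDim ((⊤ : Closeds X) : Set X) ≤ ((1 : ℕ) : WithBot ℕ∞) :=
  (Topology.IsInducing.subtypeVal.topologicalKrullDim_le).trans hdim

include hdim in
/-- Equal lengths at the one-dimensional points give equal deviations. -/
theorem dev_congr {n : ℕ} {E : X.Modules} (hE : FlatMod.IsFinLocFreeOfRank n E) {F G : X.Modules}
    (hF : Coh.IsCoh F) (hG : Coh.IsCoh G)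
    (h : ∀ y ∈ IntTheory.Additive.topPts ((⊤ : Closeds X) : Set X) 1,
      Module.length (X.presheaf.stalk y) (F.presheaf.stalk y) =
        Module.length (X.presheaf.stalk y) (G.presheaf.stalk y)) :
    dev k E n F = dev k E n G := by
  rw [IntTheory.Additive.eq_sum (isAdd_dev hE) (vanishBelow_dev hE) hF (T := ⊤) (Set.subset_univ _) (dim_top hdim),
    IntTheory.Additive.eq_sum (isAdd_dev hE) (vanishBelow_dev hE) hG (T := ⊤) (Set.subset_univ _) (dim_top hdim)]
  exact Finset.sum_congr rfl fun y hy => by rw [h y ((Set.Finite.mem_toFinset _).1 hy)]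

omit [IsProper (X ↘ Spec (CommRingCat.of k))] [AlgebraicGeometry.IsNoetherian X] in
/-- The deviation of `O_Z` is the degree on `Z`. -/
theorem dev_push {Z : Scheme.{u}} [Z.Over (Spec (CommRingCat.of k))]
    [IsProper (Z ↘ Spec (CommRingCat.of k))] (i : Z ⟶ X) [IsAffineHom i]
    (hi : i ≫ (X ↘ Spec (CommRingCat.of k)) = Z ↘ Spec (CommRingCat.of k)) {n : ℕ} {E : X.Modules}
    (hE : FlatMod.IsFinLocFreeOfRank n E) :
    dev k E n ((Coh.push i).obj (Coh.structureModule Z)) =
      Curv2.deg k Z ((Scheme.Modules.pullback i).obj E) n := by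
  haveI := Curves.GlobalSections.isNoetherian_of_proper k Z
  have hE' := Modules.DualBasis.hasDBases_of_isFinLocFree (TensorMod.LocFree.of_rank hE)
  have hO := Snapper.Twist.isCoh_structureModule Z
  haveI := hO.1
  haveI := (CurveEuler.isCoh_tensor (TensorMod.LocFree.rank_pullback i hE) hO).1
  have e1 : Curv2.euler k X (CohB1.tensorMod E ((Coh.push i).obj (Coh.structureModule Z))) =
      Curv2.euler k Z (CohB1.tensorMod ((Scheme.Modules.pullback i).obj E) (Coh.structureModule Z)) :=
    (Curves.Euler.euler_eq_of_iso ((Modules.ProjFormula.projIso i (E := E) hE').app (Coh.structureModule Z))).trans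
      (SurfInt.Push.euler_push i hi (CohB1.tensorMod ((Scheme.Modules.pullback i).obj E) (Coh.structureModule Z)))
  rw [deg_eq_dev, dev, dev, e1, SurfInt.Push.euler_push i hi (Coh.structureModule Z)]

omit [AlgebraicGeometry.IsNoetherian X] in
include hdim in
theorem mem_irreducibleComponents {y : X} (hy : y ∈ IntTheory.Additive.topPts ((⊤ : Closeds X) : Set X) 1) :
    closure ({y} : Set X) ∈ irreducibleComponents (X : Type u) := by
  obtain ⟨C, hC, hsub⟩ := exists_mem_irreducibleComponents_subset_of_isIrreducible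
    (closure {y}) isIrreducible_singleton.closure
  obtain ⟨ξ, hξ⟩ := QuasiSober.sober hC.1 (isClosed_of_mem_irreducibleComponents C hC)
  have h := IntTheory.Additive.maximal_of_topPts (⊤ : Closeds X).isClosed (dim_top hdim) hy ξ trivial
    (hξ.specializes (hsub (subset_closure rfl)))
  rw [h] at hξ
  exact hξ.def ▸ hC

include hdim in
/-- **The degree is the weighted sum over components.** -/
theorem deg_eq_sum {n : ℕ} {E : X.Modules} (hE : FlatMod.IsFinLocFreeOfRank n E) :
    Curv2.deg k X E n = ∑ᶠ Z : irreducibleComponents (X : Type u),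
      (if topologicalKrullDim (Z.1 : Set X) = 1 then
        ((Module.length (X.presheaf.stalk Z.2.1.genericPoint) (X.presheaf.stalk Z.2.1.genericPoint)).toNat : ℤ) *
          @Curv2.deg k _ (X.irreducibleComponentIdeal Z.1 Z.2).radical.subscheme ⟨(X.irreducibleComponentIdeal Z.1 Z.2).radical.subschemeι ≫ (X ↘ (Spec (CommRingCat.of k)))⟩ ((Scheme.Modules.pullback (X.irreducibleComponentIdeal Z.1 Z.2).radical.subschemeι).obj E) n
      else 0) := by
  classical
  have := (NoetherianSpace.finite_irreducibleComponents (α := X)).to_subtype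
  haveI := Fintype.ofFinite ↥(irreducibleComponents (X : Type u))
  rw [finsum_eq_sum_of_fintype, deg_eq_dev,
    IntTheory.Additive.eq_sum (isAdd_dev hE) (vanishBelow_dev hE) (Snapper.Twist.isCoh_structureModule X)
      (T := ⊤) (Set.subset_univ _) (dim_top hdim), ← Finset.sum_filter]
  refine Finset.sum_bij (fun y hy => ⟨closure {y}, mem_irreducibleComponents hdim ((Set.Finite.mem_toFinset _).1 hy)⟩)
    (fun y hy => Finset.mem_filter.2 ⟨Finset.mem_univ _, ((Set.Finite.mem_toFinset _).1 hy).2⟩)
    (fun a _ b _ e => ((specializes_iff_closure_subset.2 (congrArg Subtype.val e).ge).antisymm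
      (specializes_iff_closure_subset.2 (congrArg Subtype.val e).le)).eq)
    (fun Z hZ => ?_) fun y hy => ?_
  · obtain ⟨ξ, hξ⟩ := QuasiSober.sober Z.2.1 (isClosed_of_mem_irreducibleComponents Z.1 Z.2)
    exact ⟨ξ, (Set.Finite.mem_toFinset _).2 ⟨trivial, hξ.def ▸ (Finset.mem_filter.1 hZ).2⟩,
      Subtype.ext hξ.def⟩
  · have hZ := mem_irreducibleComponents hdim ((Set.Finite.mem_toFinset _).1 hy)
    show _ = ((Module.length (X.presheaf.stalk hZ.1.genericPoint) (X.presheaf.stalk hZ.1.genericPoint)).toNat : ℤ) *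
      @Curv2.deg k _ (X.irreducibleComponentIdeal (closure {y}) hZ).radical.subscheme
        ⟨(X.irreducibleComponentIdeal (closure {y}) hZ).radical.subschemeι ≫ (X ↘ (Spec (CommRingCat.of k)))⟩
        ((Scheme.Modules.pullback (X.irreducibleComponentIdeal (closure {y}) hZ).radical.subschemeι).obj E) n
    have hgp : hZ.1.genericPoint = y :=
      hZ.1.isGenericPoint_genericPoint_closure.eq (by rw [closure_closure]; exact isGenericPoint_closure)
    have hI : (X.irreducibleComponentIdeal (closure {y}) hZ).radical = _root_.IntMult.ptIdeal y := by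
      rw [← Scheme.IdealSheafData.vanishingIdeal_support]
      rfl
    rw [hgp, hI, ← (AssPt.Basic.unitStalkEquiv y).length_eq]
    letI : (_root_.IntMult.ptIdeal y).subscheme.Over (Spec (CommRingCat.of k)) :=
      ⟨(_root_.IntMult.ptIdeal y).subschemeι ≫ (X ↘ (Spec (CommRingCat.of k)))⟩
    haveI : IsProper ((_root_.IntMult.ptIdeal y).subscheme ↘ Spec (CommRingCat.of k)) :=
      inferInstanceAs (IsProper ((_root_.IntMult.ptIdeal y).subschemeι ≫ _))
    rw [← dev_push (_root_.IntMult.ptIdeal y).subschemeι rfl hE]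
    rfl

omit [AlgebraicGeometry.IsNoetherian X] in
/-- The structure map to a direct image is bijective on stalks over an open of isomorphism. -/
theorem length_push {X' : Scheme.{u}} (f : X' ⟶ X) {U : X.Opens} (hfU : IsIso (f ∣_ U)) {y : X} (hy : y ∈ U) :
    Module.length (X.presheaf.stalk y) ((Coh.structureModule X).presheaf.stalk y) =
      Module.length (X.presheaf.stalk y) (((Coh.push f).obj (Coh.structureModule X')).presheaf.stalk y) := by
  let M := (Coh.push f).obj (Coh.structureModule X')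
  let m : Γ(M, ⊤) := (1 : Γ(X', f ⁻¹ᵁ ⊤))
  let α := Modules.Free.unitHom M m
  have happ : ∀ V : X.Opens, V ≤ U → Function.Bijective (α.app V) := fun V hV => by
    have h : ⇑(α.app V) = ⇑(f.app V) := funext fun r => by
      rw [Modules.Free.unitHom_app]
      show (show Γ(X', f ⁻¹ᵁ V) from f.app V r) *
        (show Γ(X', f ⁻¹ᵁ V) from X'.presheaf.map ((Opens.map f.base).map (homOfLE (le_top (a := V)))).op 1) = _
      rw [map_one, mul_one]
    rw [h]
    haveI : IsIso (f.app V) := by
      have hVU : U.ι ''ᵁ (U.ι ⁻¹ᵁ V) = V := by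
        rw [Scheme.Hom.image_preimage_eq_opensRange_inf, Scheme.Opens.opensRange_ι]; exact inf_eq_right.2 hV
      have : IsIso ((f ∣_ U).app (U.ι ⁻¹ᵁ V)) := inferInstance
      rw [morphismRestrict_app] at this
      haveI : IsIso (show Γ(X, U.ι ''ᵁ U.ι ⁻¹ᵁ V) ⟶ Γ(X', (f ⁻¹ᵁ U).ι ''ᵁ (f ∣_ U) ⁻¹ᵁ U.ι ⁻¹ᵁ V) from
          f.app (U.ι ''ᵁ U.ι ⁻¹ᵁ V) ≫ X'.presheaf.map
            (eqToHom (image_morphismRestrict_preimage f U (U.ι ⁻¹ᵁ V))).op) := this
      have h2 : IsIso (f.app (U.ι ''ᵁ U.ι ⁻¹ᵁ V)) := IsIso.of_isIso_comp_right _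
        (X'.presheaf.map (eqToHom (image_morphismRestrict_preimage f U (U.ι ⁻¹ᵁ V))).op)
      rw [hVU] at h2
      exact h2
    exact ConcreteCategory.bijective_of_isIso (f.app V)
  refine (LinearEquiv.ofBijective (Modules.StalkModule.stalkMapₗ α y) ⟨?_, fun w => ?_⟩).length_eq
  · rw [← LinearMap.ker_eq_bot, LinearMap.ker_eq_bot']
    intro v hv
    obtain ⟨O, hyO, r, rfl⟩ := TopCat.Presheaf.exists_germ_eq (Coh.structureModule X).presheaf v
    rw [Modules.StalkModule.stalkMapₗ_germ, ← map_zero (M.presheaf.germ O y hyO).hom] at hv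
    obtain ⟨W, hyW, i, i', e⟩ := TopCat.Presheaf.germ_eq M.presheaf y hyO hyO _ _ hv
    rw [map_zero] at e
    have e' : (M.presheaf.map (homOfLE (inf_le_left : W ⊓ U ≤ W)).op) (M.presheaf.map i.op (α.app O r)) = 0 := by
      rw [e, map_zero]
    rw [← CategoryTheory.comp_apply (M.presheaf.map _), ← Functor.map_comp] at e'
    rw [← TopCat.Presheaf.germ_res_apply (Coh.structureModule X).presheaf
      ((homOfLE (inf_le_left : W ⊓ U ≤ W)) ≫ i) y ⟨hyW, hy⟩ r]
    have e2 : α.app (W ⊓ U) ((Coh.structureModule X).presheaf.map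
        ((homOfLE (inf_le_left : W ⊓ U ≤ W)) ≫ i).op r) = 0 :=
      (ConcreteCategory.congr_hom (α.mapPresheaf.naturality
        ((homOfLE (inf_le_left : W ⊓ U ≤ W)) ≫ i).op) r).trans e'
    rw [(happ _ inf_le_right).1 (e2.trans (map_zero _).symm), map_zero]
  · obtain ⟨O, hyO, s, rfl⟩ := TopCat.Presheaf.exists_germ_eq M.presheaf w
    obtain ⟨r, hr⟩ := (happ (O ⊓ U) inf_le_right).2 (M.presheaf.map (homOfLE inf_le_left).op s)
    refine ⟨(Coh.structureModule X).presheaf.germ (O ⊓ U) y ⟨hyO, hy⟩ r, ?_⟩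
    rw [Modules.StalkModule.stalkMapₗ_germ, hr, TopCat.Presheaf.germ_res_apply]

include hdim in
/-- **The degree is invariant under birational pullback.** -/
theorem deg_pullback {X' : Scheme.{u}} [X'.Over (Spec (CommRingCat.of k))]
    [IsProper (X' ↘ Spec (CommRingCat.of k))] (hdim' : topologicalKrullDim X' ≤ 1) (f : X' ⟶ X)
    (hf : f ≫ (X ↘ Spec (CommRingCat.of k)) = X' ↘ Spec (CommRingCat.of k))
    {U : X.Opens} (hU : Dense (U : Set X)) (hU' : Dense ((f ⁻¹ᵁ U : X'.Opens) : Set X'))
    (hfU : IsIso (f ∣_ U)) {n : ℕ} {E : X.Modules} (hE : FlatMod.IsFinLocFreeOfRank n E) :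
    Curv2.deg k X' ((Scheme.Modules.pullback f).obj E) n = Curv2.deg k X E n := by
  haveI := Curves.GlobalSections.isNoetherian_of_proper k X'
  haveI := IntTheory.Push.isProper f hf
  have hgen : ∀ {Z : Scheme.{u}} [NoetherianSpace Z] {V : Z.Opens}, Dense (V : Set Z) →
      ∀ η : Z, AffineImages.IsGen η → η ∈ V := fun hV η hη =>
    Groth.Agent.H75.Birat.mem_of_isGen_of_dense_finite NoetherianSpace.finite_irreducibleComponents hV hη
  haveI : LocallyQuasiFinite f := LocallyQuasiFinite.of_finite_preimage_singleton f fun x => by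
    by_cases hx : x ∈ U
    · refine Set.Subsingleton.finite fun a ha b hb => ?_
      have hinj := (ConcreteCategory.bijective_of_isIso (f ∣_ U).base).1
      have := @hinj ⟨a, show f a ∈ U by rw [ha]; exact hx⟩ ⟨b, show f b ∈ U by rw [hb]; exact hx⟩
        (Subtype.ext (by rw [morphismRestrict_base_coe, morphismRestrict_base_coe]; exact ha.trans hb.symm))
      exact congrArg Subtype.val this
    · refine (DimOneSetup.finite_of_no_gen hdim' (f ⁻¹ᵁ U).isOpen.isClosed_compl fun z hz hg => hz (hgen hU' z hg)).subset ?_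
      intro z hz hzU
      exact hx (by rw [← (show f z = x from hz)]; exact hzU)
  haveI : IsFinite f := IsFinite.of_isProper_of_locallyQuasiFinite f
  rw [deg_eq_dev (X := X), ← dev_push f hf hE]
  refine dev_congr hdim hE (Cyc.PP.Push.isCoh_push f (Snapper.Twist.isCoh_structureModule X'))
    (Snapper.Twist.isCoh_structureModule X) fun y hy => (length_push f hfU ?_).symm
  exact hgen hU y (mem_irreducibleComponents hdim hy)

end Groth.Agent.H97.DegSum
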