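import Groth.Agent.H97.DetSection
import Groth.Agent.H97.CurveEuler
import Groth.Agent.Lib.IntTheory.Additive
import Groth.Agent.Lib.AssPt.Basic
import Groth.Agent.S0612

/-! `deg E' = deg L'` when `n` sections of `E' = E ⊗ P` form a basis off finitely many closed points. -/

set_option autoImplicit false
set_option linter.style.haveILetI false
universe u
open CategoryTheory CategoryTheory.Limits AlgebraicGeometry Opposite TopologicalSpace

namespace Groth.Agent.H97.DetDeg

open Groth.Agent.Lib Groth.Agent.Lib.Modules.TensorGen Groth.Agent.Lib.TensorMod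
open Groth.Agent.Lib.TensorMod.Dual Groth.Agent.Lib.TensorMod.Gen Groth.Agent.Lib.RefHull.SecHom

variable {X : Scheme.{u}}

/-- The stalk of a cokernel is the cokernel of the stalks. -/
theorem length_cokernel {M N : X.Modules} (f : M ⟶ N) [Mono f] (x : X) :
    Module.length (X.presheaf.stalk x) ((cokernel f).presheaf.stalk x) =
      Module.length (X.presheaf.stalk x)
        (N.presheaf.stalk x ⧸ LinearMap.range (Modules.StalkModule.stalkMapₗ f x)) := by
  let S : ShortComplex X.Modules := ShortComplex.mk f (cokernel.π f) (cokernel.condition f)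
  have hS : S.ShortExact := { exact := ShortComplex.exact_of_g_is_cokernel _ (cokernelIsCokernel f) }
  have h := (Modules.Stalk.shortExact_iff_stalk S).mp hS x
  have hker : LinearMap.ker (Modules.StalkModule.stalkMapₗ (cokernel.π f) x) =
      LinearMap.range (Modules.StalkModule.stalkMapₗ f x) :=
    LinearMap.exact_iff.1 ((ShortComplex.ab_exact_iff_function_exact _).mp h.exact)
  rw [← hker]
  exact (LinearMap.quotKerEquivOfSurjective (Modules.StalkModule.stalkMapₗ (cokernel.π f) x)
    h.ab_surjective_g).length_eq.symm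

variable {E L P : X.Modules} {n : ℕ}
  (φ : ∀ U : X.affineOpens, Γ(L, U.1) ≃ₗ[Γ(X, U.1)] ↥(⋀[Γ(X, U.1)]^n Γ(E, U.1)))
  (hφ : ∀ (U V : X.affineOpens) (h : V.1 ≤ U.1) (e : Fin n → Γ(E, U.1)),
    rs L h ((φ U).symm (exteriorPower.ιMulti _ n e)) =
      (φ V).symm (exteriorPower.ιMulti _ n fun j => rs _ h (e j)))

include hφ in
/-- Lengths of the two cokernels agree at every point. -/
theorem stalk_facts [IsLocallyNoetherian X] (hE : FlatMod.IsFinLocFreeOfRank n E) (hP : PicF.IsInvertible P)
    (σ : Fin n → Γ(CohB1.tensorMod E P, ⊤)) {U : X.Opens}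
    (hU : Basis.IsBasis fun i => rs (CohB1.tensorMod E P) (le_top : U ≤ ⊤) (σ i))
    (hass : ∀ y : X, AssPt.Basic.MaxAssoc (X.presheaf.stalk y) → y ∈ U)
    (ψ : Coh.structureModule X ⟶ CohB1.tensorMod L (CohB1.tensorPow P n))
    (hψ : ∀ (U : X.affineOpens) (a : Γ(P, U.1)), IsGen P U.1 a → ∀ e : Fin n → Γ(E, U.1),
        (∀ i, tg E a (e i) = rs (CohB1.tensorMod E P) le_top (σ i)) →
        ψ.app U.1 (one X U.1) = tg L (Modules.ExtPowTwist.G n a) (DetSection.lam φ U e)) (x : X) :
    Function.Injective (Modules.StalkModule.stalkMapₗ (Modules.Free.freeHom σ) x) ∧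
      Function.Injective (Modules.StalkModule.stalkMapₗ ψ x) ∧
      Module.length (X.presheaf.stalk x) ((CohB1.tensorMod E P).presheaf.stalk x ⧸
          LinearMap.range (Modules.StalkModule.stalkMapₗ (Modules.Free.freeHom σ) x)) =
        Module.length (X.presheaf.stalk x) ((CohB1.tensorMod L (CohB1.tensorPow P n)).presheaf.stalk x ⧸
          LinearMap.range (Modules.StalkModule.stalkMapₗ ψ x)) ∧
      (x ∈ U → Function.Surjective (Modules.StalkModule.stalkMapₗ (Modules.Free.freeHom σ) x)) := by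
  classical
  -- a chart
  obtain ⟨U₀, hxU₀, ⟨i₀⟩⟩ := hE x
  obtain ⟨e₀, he₀⟩ := Basis.exists_basis_of_iso i₀
  obtain ⟨U₁, a₁, hxU₁, ha₁⟩ := TensorMod.Gen.isInvertible_iff.1 hP x
  obtain ⟨W, hWle, hxW⟩ := Modules.AffineHom.exists_affine (show x ∈ U₀ ⊓ U₁ from ⟨hxU₀, hxU₁⟩)
  have hb := he₀.res (hWle.trans inf_le_left)
  set b := fun k => rs E (hWle.trans inf_le_left) (e₀ k)
  have ha := ha₁.res (hWle.trans inf_le_right)
  set a := rs P (hWle.trans inf_le_right) a₁
  choose e he using fun i => (tg_bijective ha).2 (rs (CohB1.tensorMod E P) (le_top : W.1 ≤ ⊤) (σ i))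
  choose C hC using fun i => (hb W.1 le_rfl).2 (e i)
  let C : Matrix (Fin n) (Fin n) Γ(X, W.1) := Matrix.of C
  have heC : e = fun i => ∑ j, C i j • b j := funext fun i => by
    rw [← hC i]; simp [Basis.comb, C]
  let β : Fin n → Γ(CohB1.tensorMod E P, W.1) := fun j => tg E a (b j)
  have hβ : Basis.IsBasis β := DetSection.isBasis_tg hb ha
  have hσW : ∀ i, rs (CohB1.tensorMod E P) (le_top : W.1 ≤ ⊤) (σ i) = ∑ j, C i j • β j := fun i => by
    rw [← he i, heC, map_sum]; simp only [map_smul, β]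
  let ℓ := tg L (Modules.ExtPowTwist.G n a) (DetSection.lam φ W b)
  have hℓ : IsGen (CohB1.tensorMod L (CohB1.tensorPow P n)) W.1 ℓ :=
    DetSection.isGen_tg (DetSection.isGen_lam φ hφ W hb) (isGen_tprodConst ha n)
  have hψW : ψ.app W.1 (one X W.1) = C.det • ℓ := by
    rw [hψ W a ha e he, heC, DetSection.lam_comb, map_smul]
  -- at the stalks of the chart
  let Cy : ∀ y : X, y ∈ W.1 → Matrix (Fin n) (Fin n) (X.presheaf.stalk y) := fun y hy =>
    (X.presheaf.germ W.1 y hy).hom.mapMatrix C
  let Φ : ∀ y : X, y ∈ W.1 → ((Fin n → X.presheaf.stalk y) ≃ₗ[X.presheaf.stalk y]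
      (CohB1.tensorMod E P).presheaf.stalk y) := fun y hy =>
    LinearEquiv.ofBijective _ (DetSection.bijective_germ_comb hβ hy)
  have hgσ : ∀ (y : X) (hy : y ∈ W.1) (c : Fin n → X.presheaf.stalk y),
      Fintype.linearCombination (X.presheaf.stalk y)
          (fun i => (CohB1.tensorMod E P).presheaf.germ ⊤ y trivial (σ i)) c =
        Φ y hy (Matrix.vecMul c (Cy y hy)) := by
    intro y hy c
    have : ∀ i, (CohB1.tensorMod E P).presheaf.germ ⊤ y trivial (σ i) =
        ∑ j, Cy y hy i j • (CohB1.tensorMod E P).presheaf.germ W.1 y hy (β j) := fun i => by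
      rw [← germ_rs (M := CohB1.tensorMod E P) (le_top : W.1 ≤ ⊤) hy, hσW, map_sum]
      exact Finset.sum_congr rfl fun j _ => by rw [Mero.germ_smul]; rfl
    simp only [Φ, LinearEquiv.ofBijective_apply, Fintype.linearCombination_apply, this,
      Matrix.vecMul, dotProduct, Finset.smul_sum, smul_smul, Finset.sum_smul]
    exact Finset.sum_comm
  have hsurjU : ∀ (y : X) (hy : y ∈ W.1), y ∈ U → Function.Surjective
      fun c : Fin n → X.presheaf.stalk y => Matrix.vecMul c (Cy y hy) := by
    intro y hy hyU v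
    obtain ⟨c, hc⟩ := (DetSection.bijective_germ_comb hU hyU).2 (Φ y hy v)
    refine ⟨c, (Φ y hy).injective ?_⟩
    rw [← hgσ y hy c, ← hc]
    simp only [germ_rs]
  have hunit : ∀ (y : X) (hy : y ∈ W.1), y ∈ U → IsUnit (X.presheaf.germ W.1 y hy C.det) := by
    intro y hy hyU
    rw [RingHom.map_det, ← Matrix.isUnit_iff_isUnit_det]
    exact Matrix.vecMul_surjective_iff_isUnit.1 (hsurjU y hy hyU)
  have hd : X.presheaf.germ W.1 x hxW C.det ∈ nonZeroDivisors (X.presheaf.stalk x) := by
    by_contra hn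
    obtain ⟨y, hy, -, hya, hyu⟩ := AssPt.Basic.exists_maxAssoc_of_germ_not_nzd _ hxW hn
    exact hyu (hunit y hy (hass y hya))
  -- the endomorphism of the free stalk
  let v := Matrix.vecMulLinear (Cy x hxW)
  have hdet : LinearMap.det v = (Cy x hxW).det := by
    rw [← LinearMap.det_toMatrix', show LinearMap.toMatrix' v = (Cy x hxW).transpose from ?_, Matrix.det_transpose]
    ext i j
    simp [v, LinearMap.toMatrix'_apply]
  have hdet' : LinearMap.det v = X.presheaf.germ W.1 x hxW C.det := by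
    rw [hdet, RingHom.map_det]
  have hv : Function.Injective v := by
    rw [← LinearMap.ker_eq_bot, LinearMap.ker_eq_bot']
    intro c hc
    have h0 : Matrix.vecMul c (Cy x hxW) = 0 := hc
    have h1 := congrArg (fun z => Matrix.vecMul z (Cy x hxW).adjugate) h0
    simp only [Matrix.vecMul_vecMul, Matrix.mul_adjugate, Matrix.zero_vecMul, Matrix.vecMul_smul,
      Matrix.vecMul_one] at h1
    funext i
    have h2 : (Cy x hxW).det * c i = 0 := congrFun h1 i
    exact (mem_nonZeroDivisors_iff.1 (by rw [← hdet, hdet']; exact hd)).1 _ h2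
  let B := Modules.FreeStalk.stalkBasis X n x
  have hfree : ∀ w, Modules.StalkModule.stalkMapₗ (Modules.Free.freeHom σ) x w =
      Φ x hxW (v (B.equivFun w)) := by
    intro w
    have hv' : v (B.equivFun w) = Matrix.vecMul (B.equivFun w) (Cy x hxW) := rfl
    rw [hv', ← hgσ x hxW, Fintype.linearCombination_apply]
    conv_lhs => rw [← B.sum_equivFun w, map_sum]
    simp only [map_smul, B, Modules.FreeStalk.stalkBasis_apply, Modules.Free.freeHom_stalk_germ]
  let u := AssPt.Basic.unitStalkEquiv (X := X) x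
  let g := (CohB1.tensorMod L (CohB1.tensorPow P n)).presheaf.germ W.1 x hxW ℓ
  have hg : Function.Bijective fun c : X.presheaf.stalk x => c • g := bijective_germ_smul hℓ hxW
  have hline : ∀ r, Modules.StalkModule.stalkMapₗ ψ x (u r) = (r * LinearMap.det v) • g := by
    intro r
    have h1 : u r = r • (Coh.structureModule X).presheaf.germ W.1 x hxW (one X W.1) := by
      show r • (Coh.structureModule X).presheaf.germ ⊤ x trivial (one X ⊤) = _
      rw [← TopCat.Presheaf.germ_res_apply (Coh.structureModule X).presheaf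
        (homOfLE (le_top : W.1 ≤ ⊤)) x hxW (one X ⊤)]
      congr 2
      exact map_one (X.presheaf.map (homOfLE (le_top : W.1 ≤ ⊤)).op).hom
    rw [h1, map_smul, Modules.StalkModule.stalkMapₗ_germ, hψW, Mero.germ_smul, smul_smul, hdet']
  have hinj2 : Function.Injective (Modules.StalkModule.stalkMapₗ ψ x) := by
    rw [← LinearMap.ker_eq_bot, LinearMap.ker_eq_bot']
    intro w hw
    obtain ⟨r, rfl⟩ := u.surjective w
    rw [hline] at hw
    have h2 : r * LinearMap.det v = 0 := hg.1 (hw.trans (zero_smul _ g).symm)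
    rw [(mem_nonZeroDivisors_iff.1 (hdet' ▸ hd)).2 _ h2, map_zero]
  refine ⟨fun w w' h => B.equivFun.injective (hv ((Φ x hxW).injective (by rw [← hfree, ← hfree, h]))),
    hinj2, ?_, fun hxU w => ?_⟩
  · have e1 : Submodule.map (Φ x hxW).toLinearMap (LinearMap.range v) =
        LinearMap.range (Modules.StalkModule.stalkMapₗ (Modules.Free.freeHom σ) x) := by
      ext w
      simp only [Submodule.mem_map, LinearMap.mem_range, LinearEquiv.coe_coe, hfree]
      exact ⟨fun ⟨z, ⟨c, hc⟩, hz⟩ => ⟨B.equivFun.symm c, by rw [LinearEquiv.apply_symm_apply, hc, hz]⟩,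
        fun ⟨c, hc⟩ => ⟨_, ⟨_, rfl⟩, hc⟩⟩
    let G : X.presheaf.stalk x ≃ₗ[X.presheaf.stalk x] _ :=
      LinearEquiv.ofBijective (LinearMap.toSpanSingleton _ _ g) hg
    have e2 : Submodule.map G.toLinearMap (Ideal.span {LinearMap.det v}) =
        LinearMap.range (Modules.StalkModule.stalkMapₗ ψ x) := by
      ext w
      simp only [Submodule.mem_map, LinearMap.mem_range, LinearEquiv.coe_coe, Ideal.mem_span_singleton']
      constructor
      · rintro ⟨z, ⟨r, rfl⟩, rfl⟩
        exact ⟨u r, hline r⟩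
      · rintro ⟨c, rfl⟩
        obtain ⟨r, rfl⟩ := u.surjective c
        exact ⟨_, ⟨r, rfl⟩, (hline r).symm⟩
    rw [← (Submodule.Quotient.equiv _ _ (Φ x hxW) e1).length_eq,
      ← (Submodule.Quotient.equiv _ _ G e2).length_eq,
      Groth.Agent.S0612.result v (by rw [hdet']; exact hd)]
    rfl
  · obtain ⟨c, hc⟩ := hsurjU x hxW hxU ((Φ x hxW).symm w)
    refine ⟨B.equivFun.symm c, ?_⟩
    rw [hfree, LinearEquiv.apply_symm_apply]
    have hv' : v c = (Φ x hxW).symm w := hc
    rw [hv', LinearEquiv.apply_symm_apply]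

section Euler

variable {k : Type u} [Field k] [X.Over (Spec (CommRingCat.of k))] [IsProper (X ↘ (Spec (CommRingCat.of k)))]

theorem euler_freeMod (n : ℕ) : Curv2.euler k X (FlatMod.freeMod X n) = n * Curv2.euler k X (Coh.structureModule X) :=
  (Curves.Euler.euler_eq_of_iso ((Scheme.Modules.pushforwardId X).app (FlatMod.freeMod X n))).symm.trans
    ((EulerFinite.euler_push_free (k := k) (𝟙 X) n).2.trans (congrArg _
      (Curves.Euler.euler_eq_of_iso ((Scheme.Modules.pushforwardId X).app (Coh.structureModule X)))))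

/-- Coherent modules supported at finitely many closed points with equal lengths have equal `χ`. -/
theorem euler_eq_of_length {T : Set X} (hT : IsClosed T) (hTf : T.Finite)
    (hTc : ∀ x ∈ T, IsClosed ({x} : Set X)) {F G : X.Modules} (hF : Coh.IsCoh F) (hG : Coh.IsCoh G)
    (hFT : CohB1.support F ⊆ T) (hGT : CohB1.support G ⊆ T)
    (h : ∀ x, Module.length (X.presheaf.stalk x) (F.presheaf.stalk x) =
      Module.length (X.presheaf.stalk x) (G.presheaf.stalk x)) :
    Curv2.euler k X F = Curv2.euler k X G := by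
  haveI := Curves.GlobalSections.isNoetherian_of_proper k X
  obtain ⟨d, hd⟩ := Snapper.DimBound.exists_dim_bound k X
  have h0 : ∀ {N : X.Modules}, IsZero N → Curv2.euler k X N = 0 := fun h => by
    rw [Snapper.Chi.euler_eq_eulerCharLE hd, Snapper.Chi.eulerCharLE_isZero h]
  have hA : IntTheory.Additive.IsAdd (Curv2.euler k X) :=
    ⟨fun e => Curves.Euler.euler_eq_of_iso e, h0, fun hS h₁ h₂ h₃ => ParBun.Proper.euler_add hS h₁ h₂ h₃⟩
  haveI := hTf.to_subtype
  haveI : T1Space T := ⟨fun x => by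
    have : ({x} : Set T) = Subtype.val ⁻¹' {x.1} := by ext y; simp [Subtype.ext_iff]
    rw [this]
    exact (hTc x.1 x.2).preimage continuous_subtype_val⟩
  have hdT : topologicalKrullDim ((⟨T, hT⟩ : Closeds X) : Set X) ≤ ((0 : ℕ) : WithBot ℕ∞) :=
    (topologicalKrullDim_zero_of_discreteTopology (T : Set X))
  have hv : IntTheory.Additive.VanishBelow (Curv2.euler k X) 0 := fun N hN hlt => h0 (by
    rw [← Modules.Support.support_eq_empty_iff]
    by_contra hne
    obtain ⟨x⟩ := (Set.nonempty_iff_ne_empty.2 hne).to_subtype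
    haveI : Nonempty (IrreducibleCloseds (CohB1.support N)) :=
      ⟨⟨closure {x}, isIrreducible_singleton.closure, isClosed_closure⟩⟩
    exact absurd hlt (not_lt.2 (Order.krullDim_nonneg)))
  rw [IntTheory.Additive.eq_sum hA hv hF (T := ⟨T, hT⟩) hFT hdT,
    IntTheory.Additive.eq_sum hA hv hG (T := ⟨T, hT⟩) hGT hdT]
  simp only [h]

include hφ in
/-- The key equality. -/
theorem deg_eq_of_sections (hE : FlatMod.IsFinLocFreeOfRank n E) (hP : PicF.IsInvertible P)
    (hL : FlatMod.IsFinLocFreeOfRank 1 L) (σ : Fin n → Γ(CohB1.tensorMod E P, ⊤)) {U : X.Opens}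
    (hU : Basis.IsBasis fun i => rs (CohB1.tensorMod E P) (le_top : U ≤ ⊤) (σ i))
    (hass : ∀ y : X, AssPt.Basic.MaxAssoc (X.presheaf.stalk y) → y ∈ U)
    (hfin : ((U : Set X)ᶜ).Finite) (hclosed : ∀ x : X, x ∉ U → IsClosed ({x} : Set X)) :
    Curv2.deg k X (CohB1.tensorMod E P) n = Curv2.deg k X (CohB1.tensorMod L (CohB1.tensorPow P n)) 1 := by
  haveI := Curves.GlobalSections.isNoetherian_of_proper k X
  obtain ⟨ψ, hψ⟩ := DetSection.exists_det φ hφ hP σ
  have key := stalk_facts φ hφ hE hP σ hU hass ψ hψ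
  let s := Modules.Free.freeHom σ
  haveI : Mono s := (Modules.StalkModule.mono_iff_stalkMapₗ_injective _).2 fun x => (key x).1
  haveI : Mono ψ := (Modules.StalkModule.mono_iff_stalkMapₗ_injective _).2 fun x => (key x).2.1
  have hPn : PicF.IsInvertible (CohB1.tensorPow P n) :=
    TensorMod.Gen.isInvertible_iff.2 fun x => by
      obtain ⟨V, a, hx, ha⟩ := TensorMod.Gen.isInvertible_iff.1 hP x
      exact ⟨V, _, hx, isGen_tprodConst ha n⟩
  have hEc := Perfect.Coherent.isCoh_of_isFinLocFree (TensorMod.LocFree.of_rank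
    (TensorMod.LocFree.rank_tensorMod hE (TensorMod.LocFree.of_isInvertible hP)))
  have hLc := Perfect.Coherent.isCoh_of_isFinLocFree (TensorMod.LocFree.of_rank
    (TensorMod.LocFree.rank_tensorMod hL (TensorMod.LocFree.of_isInvertible hPn)))
  have hFc := Perfect.Coherent.isCoh_of_isFinLocFree (TensorMod.LocFree.of_rank (TensorMod.LocFree.isFinLocFree_freeMod X n))
  have hOc := Snapper.Twist.isCoh_structureModule X
  haveI := hFc.1
  haveI := hOc.1
  have hQ₁ : Coh.IsCoh (cokernel s) := CohBasics.Closure.isCoh_cokernel s hFc.1 hEc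
  have hQ₂ : Coh.IsCoh (cokernel ψ) := CohBasics.Closure.isCoh_cokernel ψ hOc.1 hLc
  have hlen : ∀ x, Module.length (X.presheaf.stalk x) ((cokernel s).presheaf.stalk x) =
      Module.length (X.presheaf.stalk x) ((cokernel ψ).presheaf.stalk x) := fun x => by
    rw [length_cokernel, length_cokernel]; exact (key x).2.2.1
  have hsupp : ∀ x, x ∈ U → Module.length (X.presheaf.stalk x) ((cokernel s).presheaf.stalk x) = 0 := by
    intro x hx
    rw [length_cokernel, LinearMap.range_eq_top.2 ((key x).2.2.2 hx)]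
    exact Module.length_eq_zero
  have hs₁ : CohB1.support (cokernel s) ⊆ (U : Set X)ᶜ := fun x hx hxU =>
    Modules.Support.not_mem_support_iff.2 (Module.length_eq_zero_iff.1 (hsupp x hxU)) hx
  have hs₂ : CohB1.support (cokernel ψ) ⊆ (U : Set X)ᶜ := fun x hx hxU =>
    Modules.Support.not_mem_support_iff.2 (Module.length_eq_zero_iff.1 ((hlen x).symm.trans (hsupp x hxU))) hx
  have e := euler_eq_of_length (k := k) U.isOpen.isClosed_compl hfin hclosed hQ₁ hQ₂ hs₁ hs₂ hlen
  have e₁ := ParBun.Proper.euler_add (k := k)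
    (S := ShortComplex.mk s (cokernel.π s) (cokernel.condition s))
    { exact := ShortComplex.exact_of_g_is_cokernel _ (cokernelIsCokernel s) } hFc hEc hQ₁
  have e₂ := ParBun.Proper.euler_add (k := k)
    (S := ShortComplex.mk ψ (cokernel.π ψ) (cokernel.condition ψ))
    { exact := ShortComplex.exact_of_g_is_cokernel _ (cokernelIsCokernel ψ) } hOc hLc hQ₂
  dsimp only at e₁ e₂
  rw [euler_freeMod] at e₁
  unfold Curv2.deg
  push_cast
  linarith

end Euler

end Groth.Agent.H97.DetDeg
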