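import Mathlib.RingTheory.Ideal.MinimalPrime.Noetherian
import Mathlib.RingTheory.Ideal.MinimalPrime.Localization
import Mathlib.RingTheory.KrullDimension.Basic
import Mathlib.RingTheory.Finiteness.Ideal
import Mathlib.RingTheory.Noetherian.Nilpotent
import Mathlib.RingTheory.LocalRing.MaximalIdeal.Basic
import Mathlib.RingTheory.Localization.AtPrime.Basic
import Mathlib.RingTheory.Nilpotent.Lemmas

/-! One-dimensional Noetherian local rings versus the product of their localizations at minimal
primes. -/

set_option autoImplicit false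
universe u

namespace Groth.Agent.H97.DimOneLocal

variable {A : Type u} [CommRing A]

set_option quotPrecheck false in
local notation "MP" => {p : PrimeSpectrum A // p.asIdeal ∈ minimalPrimes A}

variable (A) in
theorem finite_minimal [IsNoetherianRing A] : Finite MP := by
  haveI := (minimalPrimes.finite_of_isNoetherianRing (R := A)).to_subtype
  exact Finite.of_injective (fun p : MP => (⟨p.1.asIdeal, p.2⟩ : minimalPrimes A))
    fun p q h => Subtype.ext (PrimeSpectrum.ext (congrArg Subtype.val h))

theorem exists_pow_maximalIdeal_le [IsLocalRing A] [IsNoetherianRing A] [Ring.KrullDimLE 1 A]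
    {I : Ideal A} (hI : ∀ p : MP, ¬ I ≤ p.1.asIdeal) :
    ∃ N : ℕ, IsLocalRing.maximalIdeal A ^ N ≤ I := by
  refine Ideal.exists_pow_le_of_le_radical_of_fg ?_ (IsNoetherian.noetherian _)
  rw [Ideal.radical_eq_sInf]
  refine le_sInf fun J hJ => ?_
  rcases Ring.krullDimLE_one_iff.1 ‹_› J hJ.2 with h | h
  · exact absurd hJ.1 (hI ⟨⟨J, hJ.2⟩, h⟩)
  · exact (IsLocalRing.eq_maximalIdeal h).ge

theorem isNilpotent_algebraMap_of_mem (p : MP) {x : A} (hx : x ∈ p.1.asIdeal) :
    IsNilpotent (algebraMap A (Localization.AtPrime p.1.asIdeal) x) := by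
  have := IsLocalization.AtPrime.radical_map_of_mem_minimalPrimes
    (A := Localization.AtPrime p.1.asIdeal) p.1.asIdeal ⊥ p.2
  rw [Ideal.map_bot] at this
  exact this.ge (Ideal.mem_map_of_mem _ hx)

/-- Elements `e` vanishing in all the localizations except the one at `p`. -/
theorem exists_idempotent_like [IsNoetherianRing A] (p : MP) :
    ∃ e : A, e ∉ p.1.asIdeal ∧
      ∀ q : MP, q ≠ p → algebraMap A (Localization.AtPrime q.1.asIdeal) e = 0 := by
  classical
  haveI := finite_minimal A
  cases nonempty_fintype MP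
  have : ¬ (∏ q ∈ Finset.univ.erase p, q.1.asIdeal) ≤ p.1.asIdeal := by
    intro h
    obtain ⟨q, hq, hle⟩ := (Ideal.IsPrime.prod_le p.1.isPrime).1 h
    exact Finset.ne_of_mem_erase hq
      (Subtype.ext (PrimeSpectrum.ext (le_antisymm hle (p.2.2 ⟨q.1.isPrime, bot_le⟩ hle))))
  obtain ⟨c, hc, hcp⟩ := SetLike.not_le_iff_exists.1 this
  have hn : ∀ q : MP, q ≠ p → IsNilpotent (algebraMap A (Localization.AtPrime q.1.asIdeal) c) :=
    fun q hq => isNilpotent_algebraMap_of_mem q
      ((Ideal.prod_le_inf.trans (Finset.inf_le (Finset.mem_erase.2 ⟨hq, Finset.mem_univ q⟩))) hc)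
  choose N hN using hn
  refine ⟨c ^ (∑ q : MP, if h : q = p then 0 else N q h),
    fun h => hcp (p.1.isPrime.mem_of_pow_mem _ h), fun q hq => ?_⟩
  rw [map_pow]
  refine pow_eq_zero_of_le ?_ (hN q hq)
  refine le_of_eq_of_le (by rw [dif_neg hq]) (Finset.single_le_sum (fun _ _ => Nat.zero_le _)
    (Finset.mem_univ q))

/-- A power of the maximal ideal carries a given element of the product into the image of `A`. -/
theorem exists_pow_smul_mem_range [IsLocalRing A] [IsNoetherianRing A] [Ring.KrullDimLE 1 A]
    (x : ∀ p : MP, Localization.AtPrime p.1.asIdeal) :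
    ∃ N : ℕ, ∀ c ∈ IsLocalRing.maximalIdeal A ^ N,
      algebraMap A _ c * x ∈ (algebraMap A (∀ p : MP, Localization.AtPrime p.1.asIdeal)).range := by
  let C : Ideal A :=
    { carrier := {c | algebraMap A _ c * x ∈
        (algebraMap A (∀ p : MP, Localization.AtPrime p.1.asIdeal)).range}
      add_mem' := fun {a b} ha hb => by
        simp only [Set.mem_setOf_eq, map_add, add_mul] at *
        exact add_mem ha hb
      zero_mem' := by
        simp only [Set.mem_setOf_eq, map_zero, zero_mul]
        exact zero_mem _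
      smul_mem' := fun c a ha => by
        simp only [Set.mem_setOf_eq, smul_eq_mul, map_mul, mul_assoc] at *
        exact mul_mem (RingHom.mem_range_self _ c) ha }
  suffices ∀ p : MP, ¬ C ≤ p.1.asIdeal from exists_pow_maximalIdeal_le this
  intro p hle
  obtain ⟨e, hep, he⟩ := exists_idempotent_like p
  obtain ⟨⟨a, s⟩, hs⟩ := IsLocalization.surj p.1.asIdeal.primeCompl (x p)
  refine p.1.isPrime.mul_notMem hep s.2 (hle ⟨e * a, funext fun q => ?_⟩)
  by_cases hq : q = p
  · subst hq
    simp only [map_mul, Pi.mul_apply, Pi.algebraMap_apply, ← hs]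
    ring
  · simp [Pi.algebraMap_apply, he q hq]

end Groth.Agent.H97.DimOneLocal
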