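import Groth.Agent.Lib.VarDim.Basic
import Groth.Prelude.Def_BlowUp2
import Mathlib.RingTheory.Ideal.MinimalPrime.Localization

/-! An effective Cartier divisor drops the dimension. -/

set_option autoImplicit false
universe u
open CategoryTheory AlgebraicGeometry TopologicalSpace

namespace Groth.Agent.H97.DivDim

open Groth.Agent.Lib

/-- A point of an effective Cartier divisor is a proper specialization. -/
theorem exists_generalization {X : Scheme.{u}} {I : X.IdealSheafData}
    (hI : BlowUp.IsEffCartierIdeal I) {y : X} (hy : y ∈ I.support) : ∃ z : X, z ⤳ y ∧ z ≠ y := by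
  obtain ⟨U, hyU, f, hf, hIf⟩ := hI y
  have hz := (Scheme.IdealSheafData.mem_support_iff_of_mem hyU).1 hy
  rw [hIf, Scheme.zeroLocus_span, Scheme.zeroLocus_singleton] at hz
  let p := U.2.primeIdealOf ⟨y, hyU⟩
  have hp : U.2.fromSpec p = y := U.2.fromSpec_primeIdealOf ⟨y, hyU⟩
  have hfp : f ∈ p.asIdeal := by
    by_contra hc
    refine hz ?_
    have h1 : p ∈ U.2.fromSpec ⁻¹ᵁ X.basicOpen f := by
      rw [U.2.fromSpec_preimage_basicOpen]
      exact hc
    change U.2.fromSpec p ∈ X.basicOpen f at h1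
    rwa [hp] at h1
  obtain ⟨q, hq, hqp⟩ := Ideal.exists_minimalPrimes_le (show (⊥ : Ideal Γ(X, U.1)) ≤ p.asIdeal from bot_le)
  have hqprime : q.IsPrime := hq.1.1
  have hs : (⟨q, hqprime⟩ : PrimeSpectrum Γ(X, U.1)) ⤳ p := (PrimeSpectrum.le_iff_specializes _ _).1 hqp
  have hs' := hs.map U.2.fromSpec.continuous
  erw [hp] at hs'
  refine ⟨_, hs', fun e => ?_⟩
  have : (⟨q, hqprime⟩ : PrimeSpectrum Γ(X, U.1)) = p :=
    U.2.fromSpec.isOpenEmbedding.injective (e.trans hp.symm)
  refine notMem_nonZeroDivisors_of_mem_mem_minimalPrimes hfp ?_ hf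
  exact congrArg PrimeSpectrum.asIdeal this ▸ hq

variable {k : Type u} [Field k] {X : Scheme.{u}} (f : X ⟶ Spec (CommRingCat.of k)) [LocallyOfFiniteType f]

include f in
theorem dim_le {e : ℕ} (hX : topologicalKrullDim X ≤ (e + 1 : ℕ)) {I : X.IdealSheafData}
    (hI : BlowUp.IsEffCartierIdeal I) : topologicalKrullDim (I.support : Set X) ≤ e := by
  refine (VarDim.Basic.topologicalKrullDim_le_iff f I.support.isClosed.isLocallyClosed _).2 fun x hx => ?_
  obtain ⟨z, hzx, hne⟩ := exists_generalization hI hx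
  have h1 : VarDim.Basic.pdim f z ≤ e + 1 := by
    exact_mod_cast (VarDim.Basic.pdim_le_topologicalKrullDim_scheme f z).trans hX
  have h2 := VarDim.Basic.pdim_lt f hzx hne
  exact_mod_cast (show VarDim.Basic.pdim f x ≤ e by omega)

end Groth.Agent.H97.DivDim
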