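import Groth.Agent.H97.CurveEuler
import Groth.Agent.H97.CurveProj
import Groth.Agent.H97.EulerFinite
import Groth.Agent.Lib.ClSub.Cartier
import Groth.Agent.Lib.Curves.Degree
import Groth.Agent.S0219
import Groth.Agent.Lib.SurfInt.Surface
import Groth.Agent.Lib.SurfInt.Effective
import Mathlib.RingTheory.Ideal.MinimalPrime.Localization

/-! Effective Cartier divisors on schemes of dimension at most one. -/

set_option autoImplicit false
set_option linter.style.haveILetI false
universe u
open CategoryTheory CategoryTheory.Limits AlgebraicGeometry TopologicalSpace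

namespace Groth.Agent.H97.EffCurve

open Groth.Agent.Lib

/-- A divisor contains no generic point, so on a curve it consists of closed points. -/
theorem isClosed_of_mem_support {X : Scheme.{u}} (hdim : topologicalKrullDim X ≤ 1) {I : X.IdealSheafData}
    (hI : BlowUp.IsEffCartierIdeal I) {y : X} (hy : y ∈ I.support) : IsClosed ({y} : Set X) := by
  refine (H34.DimOne.isClosed_or_component hdim y).resolve_right fun hgen => ?_
  obtain ⟨U, hyU, f, hf, hIf⟩ := hI y
  have hz := (Scheme.IdealSheafData.mem_support_iff_of_mem hyU).1 hy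
  rw [hIf, Scheme.zeroLocus_span, Scheme.zeroLocus_singleton] at hz
  let p := U.2.primeIdealOf ⟨y, hyU⟩
  have hp : U.2.fromSpec p = y := U.2.fromSpec_primeIdealOf ⟨y, hyU⟩
  have hfp : f ∈ p.asIdeal := by
    by_contra hc
    refine hz ?_
    have h1 : p ∈ U.2.fromSpec ⁻¹ᵁ X.basicOpen f := by
      rw [U.2.fromSpec_preimage_basicOpen]
      exact hc
    change U.2.fromSpec p ∈ X.basicOpen f at h1
    rwa [hp] at h1
  refine notMem_nonZeroDivisors_of_mem_mem_minimalPrimes hfp ?_ hf
  obtain ⟨q, hq, hqp⟩ := Ideal.exists_minimalPrimes_le (show (⊥ : Ideal Γ(X, U.1)) ≤ p.asIdeal from bot_le)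
  have hqprime : q.IsPrime := hq.1.1
  have hs : (⟨q, hqprime⟩ : PrimeSpectrum Γ(X, U.1)) ⤳ p := (PrimeSpectrum.le_iff_specializes _ _).1 hqp
  have hs' := hs.map U.2.fromSpec.continuous
  erw [hp] at hs'
  have e : U.2.fromSpec ⟨q, hqprime⟩ = y := (AffineImages.IsGen.eq_of_specializes hgen hs')
  have : (⟨q, hqprime⟩ : PrimeSpectrum Γ(X, U.1)) = p :=
    U.2.fromSpec.isOpenEmbedding.injective (e.trans hp.symm)
  exact congrArg PrimeSpectrum.asIdeal this ▸ hq

variable (k : Type u) [Field k] (X : Scheme.{u}) [X.Over (Spec (CommRingCat.of k))]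
  [IsProper (X ↘ (Spec (CommRingCat.of k)))]

theorem isFinite_subscheme (hdim : topologicalKrullDim X ≤ 1) {D : X.IdealSheafData}
    (hD : BlowUp.IsEffCartierIdeal D) : IsFinite (D.subschemeι ≫ (X ↘ (Spec (CommRingCat.of k)))) := by
  haveI := Curves.GlobalSections.isNoetherian_of_proper k X
  have hfin := CurveProj.finite_of_forall_isClosed D.support.isClosed fun y hy => isClosed_of_mem_support hdim hD hy
  have h0 := SurfInt.Push.dim_subscheme_le_zero k D hfin
  refine Groth.Agent.S0219.result k D.subscheme (Spec (CommRingCat.of k)) _ (𝟙 _) _ (Category.comp_id _)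
    (h0.trans zero_le_one) fun Z hZ h1 => ?_
  exfalso
  have h2 := (Topology.IsInducing.subtypeVal (t := Z)).topologicalKrullDim_le.trans h0
  rw [h1] at h2
  exact absurd h2 (by norm_num)

theorem deg_tensor_eff (hdim : topologicalKrullDim X ≤ 1) {D : X.IdealSheafData}
    (hD : BlowUp.IsEffCartierIdeal D) {L : X.Modules} (hL : PicF.IsInvertible L)
    (hLD : ClSub.IsInverseOf L (ClSub.idealMod D)) {n : ℕ} {E : X.Modules} (hE : FlatMod.IsFinLocFreeOfRank n E) :
    Curv2.deg k X (CohB1.tensorMod E L) n =
      n * Module.finrank k (Coh.HH X (ClSub.quotMod D) 0) + Curv2.deg k X E n := by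
  haveI := Curves.GlobalSections.isNoetherian_of_proper k X
  have hI := ClSub.Cartier.isInvertible_idealMod hD
  have hcl : ∀ z ∈ CohB1.support (ClSub.quotMod D), IsClosed ({z} : Set X) := fun z hz => by
    rw [ClSub.Quot.support_quotMod] at hz
    exact isClosed_of_mem_support hdim hD hz
  obtain ⟨d, hd⟩ := Snapper.DimBound.exists_dim_bound k X
  have hQc := SurfInt.Effective.isCoh_quotMod D
  haveI := hQc.2
  have hQ : Curv2.euler k X (ClSub.quotMod D) = Module.finrank k (Coh.HH X (ClSub.quotMod D) 0) := by
    rw [Snapper.Chi.euler_eq_eulerCharLE hd]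
    unfold FGA.eulerCharLE
    rw [Finset.sum_range_succ']
    have hsupp : topologicalKrullDim (CohB1.support (ClSub.quotMod D)) ≤ 0 := by
      haveI : JacobsonSpace X := LocallyOfFiniteType.jacobsonSpace (X ↘ Spec (CommRingCat.of k))
      haveI : Finite (CohB1.support (ClSub.quotMod D)) :=
        (CurveProj.finite_of_forall_isClosed (Modules.Support.isClosed_support _) hcl).to_subtype
      haveI : T1Space (CohB1.support (ClSub.quotMod D)) := ⟨fun y => by
        have h := (hcl y.1 y.2).preimage (continuous_subtype_val (p := (· ∈ CohB1.support (ClSub.quotMod D))))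
        convert h using 1
        ext z
        simp [Subtype.ext_iff]⟩
      exact topologicalKrullDim_zero_of_discreteTopology _
    rw [Finset.sum_eq_zero fun i _ => ?_]
    · simp
    · haveI : Subsingleton (Coh.HH X (ClSub.quotMod D) (i + 1)) := by
        letI := SurfInt.Surface.overSub (k := k) D
        haveI := TensorMod.QCohInv.isQCoh_structureModule D.subscheme
        haveI : IsProper (D.subscheme ↘ Spec (CommRingCat.of k)) :=
          inferInstanceAs (IsProper (D.subschemeι ≫ (X ↘ Spec (CommRingCat.of k))))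
        haveI := Curves.GlobalSections.isNoetherian_of_proper k D.subscheme
        have hz : topologicalKrullDim D.subscheme ≤ (0 : ℕ) := by
          rw [SurfInt.Surface.dim_subscheme, ← ClSub.Quot.support_quotMod]
          exact_mod_cast hsupp
        haveI := Snapper.Chi.subsingleton_HH_of_lt hz (Coh.structureModule D.subscheme) (Nat.succ_pos i)
        exact (ZarCoh.Linear.affineLinearEquiv D.subschemeι rfl (Coh.structureModule D.subscheme) (i + 1) :
          Coh.HH X (ClSub.quotMod D) (i + 1) ≃ₗ[k] _).injective.subsingleton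
      simp [Module.finrank_zero_of_subsingleton]
  have e1 := ParBun.Proper.euler_add (k := k) (ClSub.Quot.idealSeq_shortExact D)
    (Ample.GG.isCoh_of_isInvertible hI) (Snapper.Twist.isCoh_structureModule X) hQc
  change Curv2.euler k X (Coh.structureModule X) =
    Curv2.euler k X (ClSub.idealMod D) + Curv2.euler k X (ClSub.quotMod D) at e1
  have h1 := CurveEuler.deg_tensor (k := k) hdim hE (TensorMod.LocFree.of_isInvertible hL)
  have h2 := CurveEuler.deg_tensor (k := k) hdim (TensorMod.LocFree.of_isInvertible hL)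
    (TensorMod.LocFree.of_isInvertible hI)
  obtain ⟨i⟩ := hLD
  unfold Curv2.deg at h1 h2 ⊢
  rw [Curves.Euler.euler_eq_of_iso i] at h2
  push_cast at h1 h2 ⊢
  linear_combination h1 - (n : ℤ) * h2 + (n : ℤ) * e1 + (n : ℤ) * hQ

end Groth.Agent.H97.EffCurve
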