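import Groth.Agent.Lib.DerivedOX.PullbackStalk
import Groth.Agent.Lib.Cyc.SheafLen

/-! The stalk of a direct image at a point whose fibre is a single point. -/

set_option autoImplicit false
set_option linter.style.haveILetI false
universe u
open CategoryTheory CategoryTheory.Limits AlgebraicGeometry TopologicalSpace Opposite

namespace Groth.Agent.H97.PushStalk

open Groth.Agent.Lib Groth.Agent.Lib.DerivedOX.PullbackStalk

variable {X Y : Scheme.{u}} (f : X ⟶ Y)

theorem exists_nhd (hf : IsClosedMap f.base) {x : X} (hfib : ∀ z, f.base z = f.base x → z = x)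
    {W : X.Opens} (hx : x ∈ W) : ∃ V : Y.Opens, f.base x ∈ V ∧ f ⁻¹ᵁ V ≤ W := by
  refine ⟨⟨(f.base '' (W : Set X)ᶜ)ᶜ, (hf _ W.isOpen.isClosed_compl).isOpen_compl⟩, ?_, fun z hz => ?_⟩
  · rintro ⟨z, hz, he⟩
    exact hz ((hfib z he).symm ▸ hx)
  · by_contra hzW
    exact hz ⟨z, hzW, rfl⟩

theorem bijective_pushStalkMap (hf : IsClosedMap f.base) {x : X}
    (hfib : ∀ z, f.base z = f.base x → z = x) (N : X.Modules) :
    Function.Bijective (pushStalkMap f x N) := by
  constructor
  · rw [injective_iff_map_eq_zero]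
    intro v hv
    obtain ⟨U, hU, s, rfl⟩ := TopCat.Presheaf.exists_germ_eq ((Scheme.Modules.pushforward f).obj N).presheaf v
    erw [pushStalkMap_germ, ← map_zero (N.presheaf.germ (f ⁻¹ᵁ U) x hU).hom] at hv
    obtain ⟨W, hxW, i₁, i₂, hW⟩ := TopCat.Presheaf.germ_eq N.presheaf x hU hU s 0 hv
    rw [map_zero] at hW
    obtain ⟨V, hxV, hV⟩ := exists_nhd f hf hfib hxW
    have h0 : (((Scheme.Modules.pushforward f).obj N).presheaf.map (homOfLE (inf_le_right : V ⊓ U ≤ U)).op).hom s = 0 := by
      have hle : f ⁻¹ᵁ (V ⊓ U) ≤ W := le_trans ((Scheme.Hom.preimage_inf f).le.trans inf_le_left) hV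
      change (N.presheaf.map (homOfLE _).op).hom s = 0
      rw [show (homOfLE (_ : f ⁻¹ᵁ (V ⊓ U) ≤ f ⁻¹ᵁ U)) = homOfLE hle ≫ i₁ from Subsingleton.elim _ _,
        op_comp, N.presheaf.map_comp, AddCommGrpCat.hom_comp, AddMonoidHom.comp_apply]
      erw [hW]
      exact map_zero _
    rw [← TopCat.Presheaf.germ_res_apply ((Scheme.Modules.pushforward f).obj N).presheaf
      (homOfLE (inf_le_right : V ⊓ U ≤ U)) (f.base x) ⟨hxV, hU⟩ s]
    erw [h0]
    exact map_zero _
  · intro v
    obtain ⟨W, hW, s, rfl⟩ := TopCat.Presheaf.exists_germ_eq N.presheaf v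
    obtain ⟨V, hxV, hV⟩ := exists_nhd f hf hfib hW
    refine ⟨((Scheme.Modules.pushforward f).obj N).presheaf.germ V (f.base x) hxV
      (show Γ((Scheme.Modules.pushforward f).obj N, V) from N.presheaf.map (homOfLE hV).op s), ?_⟩
    rw [pushStalkMap_germ]
    exact TopCat.Presheaf.germ_res_apply N.presheaf (homOfLE hV) x hxV s

/-- At a point with a single preimage and field stalks, the rank of `f_* O` is the residue degree. -/
theorem finrank_push (hf : IsClosedMap f.base) {x : X} (hfib : ∀ z, f.base z = f.base x → z = x)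
    (hY : IsField (Y.presheaf.stalk (f.base x))) (hX : IsField (X.presheaf.stalk x)) :
    Module.finrank (Y.presheaf.stalk (f.base x))
        (((Coh.push f).obj (Coh.structureModule X)).presheaf.stalk (f.base x)) = f.residueDegree x := by
  obtain ⟨e⟩ := Cyc.SheafLen.exists_unit_stalk_equiv (X := X) x
  letI : Algebra (Y.presheaf.stalk (f.base x)) (X.presheaf.stalk x) := (f.stalkMap x).hom.toAlgebra
  let φ : ((Coh.push f).obj (Coh.structureModule X)).presheaf.stalk (f.base x)
      →ₗ[Y.presheaf.stalk (f.base x)] X.presheaf.stalk x :=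
    { toFun := fun a => e (pushStalkMap f x _ a)
      map_add' := fun a b => (congrArg e (map_add _ a b)).trans (map_add e _ _)
      map_smul' := fun c a => (congrArg e (pushStalkMap_smul f x _ c a)).trans (map_smul e _ _) }
  rw [(LinearEquiv.ofBijective φ (e.bijective.comp (bijective_pushStalkMap f hf hfib _))).finrank_eq]
  have hres : ∀ (Z : Scheme.{u}) (z : Z), IsField (Z.presheaf.stalk z) → Function.Bijective (Z.residue z) := fun Z z hz => by
    letI := hz.toField
    exact ⟨RingHom.injective _, Ideal.Quotient.mk_surjective⟩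
  rw [Scheme.Hom.residueDegree]
  letI := (f.residueFieldMap x).hom.toAlgebra
  refine Algebra.finrank_eq_of_equiv_equiv (RingEquiv.ofBijective _ (hres Y _ hY))
    (RingEquiv.ofBijective _ (hres X _ hX)) ?_
  ext a
  exact (ConcreteCategory.congr_hom (Scheme.residue_residueFieldMap f x) a)

theorem finrank_push' (hf : IsClosedMap f.base) {x : X} (hfib : ∀ z, f.base z = f.base x → z = x)
    {y : Y} (hy : f.base x = y) (hY : IsField (Y.presheaf.stalk y)) (hX : IsField (X.presheaf.stalk x)) :
    Module.finrank (Y.presheaf.stalk y)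
        (((Coh.push f).obj (Coh.structureModule X)).presheaf.stalk y) = f.residueDegree x := by
  subst hy
  exact finrank_push f hf hfib hY hX

end Groth.Agent.H97.PushStalk
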