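import Groth.Agent.Lib.IntTheory.ProductCurves
import Groth.Agent.Lib.SurfRR.Regular
import Groth.Agent.Lib.LerayDeg51.Basic
import Groth.Agent.Lib.ProjCoh.Horrocks
import Groth.Agent.Lib.ProjKoszul.Reg2
import Groth.Agent.Lib.CurveFF.DoublePush
import Groth.Agent.Lib.Cyc.PP.Push
import Groth.Agent.H93.TorFree
import Groth.Agent.H34.SplitP1.Bundle
import Groth.Agent.S11319

/-!
# Fibred surfaces over the line: surjective restriction to a fibre forces `H¹ = 0`
-/

set_option autoImplicit false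
set_option linter.style.haveILetI false
set_option linter.unusedSectionVars false
universe u

open CategoryTheory CategoryTheory.Limits AlgebraicGeometry

namespace Groth.Agent.H97.FibreRes

open Groth.Agent.Lib Groth.Agent.Lib.TensorMod.Basic

section Linear

variable {A : Type u} [CommRing A] {X S : Scheme.{u}} [X.Over (Spec (CommRingCat.of A))]
  [S.Over (Spec (CommRingCat.of A))] (f : X ⟶ S)
  (hf : f ≫ (S ↘ Spec (CommRingCat.of A)) = X ↘ Spec (CommRingCat.of A))

/-- The comparison `Hⁿ(S, f_*M) → Hⁿ(X, M)`, linear over the base ring. -/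
noncomputable def pushLin (M : X.Modules) (n : ℕ) :
    Coh.HH S ((Coh.push f).obj M) n →ₗ[A] Coh.HH X M n where
  toFun := ZarCoh.PushH.pushH f.base (Coh.toAb M) n
  map_add' := map_add _
  map_smul' a x := ZarCoh.Morph.pushH_smul f M n _ _ (ZarCoh.Linear.toGlobal_comp f hf a) x

theorem pushLin_one_injective (M : X.Modules) : Function.Injective (pushLin f hf M 1) :=
  (ZarCoh.Compare.hTop (Coh.toAb M) 1).symm.injective.comp
    ((LerayDeg51.bijective_and_injective ⊤ 0 (Coh.toAb M) (fun _ hq => absurd hq (Nat.not_lt_zero _))).2.comp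
      (ZarCoh.Compare.hTop ((CohTop.push f.base).obj (Coh.toAb M)) 1).injective)

theorem pushLin_one_bijective [HasInjectiveResolutions X.Modules] (M : X.Modules)
    (h : IsZero ((Coh.Rpush f 1).obj M)) : Function.Bijective (pushLin f hf M 1) := by
  refine ZarCoh.PushH.pushH_bijective_of f.base (Coh.toAb M) 1
    (LerayDeg51.bijective_and_injective ⊤ 1 _ fun q hq => ?_).1
  obtain rfl : q = 0 := by omega
  obtain ⟨e⟩ := Groth.Agent.S11319.result f M 1
  exact ((Curves.LES.F S).map_isZero h).of_iso e.symm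

end Linear

section Sigma

variable {k : Type u} [Field k] {X : Scheme.{u}} [X.Over (Spec (CommRingCat.of k))]

/-- Cohomology of a finite sum. -/
theorem finrank_sigma {r : ℕ} (F : Fin r → X.Modules) (q : ℕ)
    [∀ i, Module.Finite k (Coh.HH X (F i) q)] :
    Module.finrank k (Coh.HH X (∐ F) q) = ∑ i, Module.finrank k (Coh.HH X (F i) q) := by
  classical
  let π : ∀ i, (∐ F) ⟶ F i := fun i => Sigma.desc fun j => if hj : j = i then eqToHom (congrArg F hj) else 0
  have hι : ∀ i j, Sigma.ι F j ≫ π i = if hj : j = i then eqToHom (congrArg F hj) else 0 := fun i j =>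
    Sigma.ι_desc _ _
  have htot : ∑ i, π i ≫ Sigma.ι F i = 𝟙 (∐ F) := Sigma.hom_ext _ _ fun j => by
    rw [Preadditive.comp_sum, Category.comp_id, Finset.sum_eq_single j]
    · simp [π]
    · intro b _ hb; simp [π, Ne.symm hb]
    · simp
  let p : Coh.HH X (∐ F) q →ₗ[k] ((i : Fin r) → Coh.HH X (F i) q) :=
    LinearMap.pi fun i => Curves.LES.mapK k (π i) q
  let s : ((i : Fin r) → Coh.HH X (F i) q) →ₗ[k] Coh.HH X (∐ F) q :=
    ∑ i, (Curves.LES.mapK k (Sigma.ι F i) q).comp (LinearMap.proj i)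
  have hsum : ∀ (t : Finset (Fin r)) (x : Coh.HH X (∐ F) q),
      Curves.LES.mapK k (∑ i ∈ t, π i ≫ Sigma.ι F i) q x =
        ∑ i ∈ t, Curves.LES.mapK k (Sigma.ι F i) q (Curves.LES.mapK k (π i) q x) := fun t x => by
    induction t using Finset.induction_on with
    | empty => rw [Finset.sum_empty, Finset.sum_empty]; exact ProjCoh.Duality.mapK_zero_apply k q x
    | insert a t ha ih =>
      rw [Finset.sum_insert ha, Finset.sum_insert ha, ProjCoh.Coherent.mapK_add, ih,
        Curves.LES.mapK_comp, LinearMap.comp_apply]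
  have h1 : ∀ x, s (p x) = x := fun x => by
    have h := hsum Finset.univ x
    rw [htot, Curves.LES.mapK_id] at h
    simpa [s, p, LinearMap.sum_apply] using h.symm
  have h2 : ∀ y, p (s y) = y := fun y => by
    refine funext fun i => ?_
    simp only [s, p, LinearMap.pi_apply, LinearMap.sum_apply, LinearMap.comp_apply,
      LinearMap.proj_apply, map_sum]
    rw [Finset.sum_eq_single i]
    · rw [← ProjCoh.Horrocks.mapK_comp_apply, hι, dif_pos rfl, eqToHom_refl, Curves.LES.mapK_id]
      rfl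
    · intro b _ hb
      rw [← ProjCoh.Horrocks.mapK_comp_apply, hι, dif_neg hb]
      exact ProjCoh.Duality.mapK_zero_apply k q _
    · simp
  exact (LinearEquiv.ofLinearMap p s (LinearMap.ext h2) (LinearMap.ext h1)).finrank_eq.trans
    (Module.finrank_pi_fintype k)

end Sigma

section Seq

/-- If `H⁰` is additive in a short exact sequence, the first connecting map vanishes. -/
theorem injective_one {k : Type u} [Field k] {X : Scheme.{u}} [X.Over (Spec (CommRingCat.of k))]
    {S : ShortComplex X.Modules} (hS : S.ShortExact)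
    (h₂ : Module.Finite k (Coh.HH X S.X₂ 0)) (h₃ : Module.Finite k (Coh.HH X S.X₃ 0))
    (h : Module.finrank k (Coh.HH X S.X₂ 0) =
      Module.finrank k (Coh.HH X S.X₁ 0) + Module.finrank k (Coh.HH X S.X₃ 0)) :
    Function.Injective (Curves.LES.mapK k S.f 1) := by
  haveI := h₂
  haveI := h₃
  haveI := hS.mono_f
  have hker : LinearMap.ker (Curves.LES.mapK k S.g 0) = LinearMap.range (Curves.LES.mapK k S.f 0) :=
    (Curves.LES.exactK₂ k hS 0).linearMap_ker_eq
  have hr := LinearMap.finrank_range_add_finrank_ker (Curves.LES.mapK k S.g 0)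
  rw [hker, LinearMap.finrank_range_of_inj (Curves.LES.mapK_injective_of_mono k S.f)] at hr
  have htop : LinearMap.range (Curves.LES.mapK k S.g 0) = ⊤ :=
    Submodule.eq_top_of_finrank_eq (by omega)
  refine LinearMap.ker_eq_bot.1 ((Submodule.eq_bot_iff _).2 fun z hz => ?_)
  obtain ⟨w, rfl⟩ := ((Curves.LES.exactK₁ k hS 0 1 rfl) z).1 hz
  exact ((Curves.LES.exactK₃ k hS 0 1 rfl) w).2 (LinearMap.range_eq_top.1 htop w)

end Seq

/-- Tensoring distributes over finite sums. -/
theorem nonempty_tensor_sigma {X : Scheme.{u}} (Q : X.Modules) {r : ℕ} (F : Fin r → X.Modules) :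
    Nonempty (CohB1.tensorMod Q (∐ F) ≅ ∐ fun j => CohB1.tensorMod Q (F j)) := by
  let T : X.Modules ⥤ X.Modules := (TensorMod.Basic.tensorFunctor X).obj Q
  haveI : PreservesColimitsOfSize.{0, 0} T := preservesSmallestColimits_of_preservesColimits T
  haveI : PreservesColimitsOfShape (Discrete (Fin r)) T := inferInstance
  exact ⟨PreservesCoproduct.iso T F⟩

section Line

variable (k : Type u) [Field k]

/-- `h¹` on the line drops strictly under a twist of degree `-1` unless it vanishes. -/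
theorem twist_le (N : (CohB1.ProjSpace 1 k).Modules) (hN : PicF.IsInvertible N) (d : ℤ) :
    letI : (CohB1.ProjSpace 1 k).Over (Spec (CommRingCat.of k)) := ⟨CohB1.ProjSpace.toSpec 1 k⟩
    Curv2.deg k (CohB1.ProjSpace 1 k) N 1 = -1 →
    Module.finrank k (Coh.HH (CohB1.ProjSpace 1 k) (Twist.twistProjSpace 1 k d) 1) ≤
        Module.finrank k (Coh.HH (CohB1.ProjSpace 1 k)
          (CohB1.tensorMod N (Twist.twistProjSpace 1 k d)) 1) ∧
      (d < 0 → Module.finrank k (Coh.HH (CohB1.ProjSpace 1 k) (Twist.twistProjSpace 1 k d) 1) <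
        Module.finrank k (Coh.HH (CohB1.ProjSpace 1 k)
          (CohB1.tensorMod N (Twist.twistProjSpace 1 k d)) 1)) := by
  letI : (CohB1.ProjSpace 1 k).Over (Spec (CommRingCat.of k)) := ⟨CohB1.ProjSpace.toSpec 1 k⟩
  intro hdeg
  haveI : IsProper (CohB1.ProjSpace 1 k ↘ Spec (CommRingCat.of k)) :=
    ProjSpace.Basic.isProper_toSpec 1 k
  haveI := Curves.GlobalSections.isNoetherian_of_proper k (CohB1.ProjSpace 1 k)
  have hd1 := (CurveFF.DoublePush.dim_line (k := k)).le
  have hT := CurveFF.DoublePush.isInvertible_twist (k := k) d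
  have hNT := TensorMod.Invertible.isInvertible_tensorMod hN hT
  have hneg : d < 0 →
      Curv2.euler k (CohB1.ProjSpace 1 k) (CohB1.tensorMod N (Twist.twistProjSpace 1 k d)) <
        Curv2.euler k (CohB1.ProjSpace 1 k) (Twist.twistProjSpace 1 k d) ∧
      Subsingleton (Coh.HH (CohB1.ProjSpace 1 k) (CohB1.tensorMod N (Twist.twistProjSpace 1 k d)) 0) := by
    intro hd
    obtain ⟨-, h2⟩ := CurveFF.DoublePush.euler_twist (k := k) d
    have h3 := Curves.Degree.deg_tensor (k := k) hd1 hN hT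
    rw [hdeg, h2] at h3
    refine ⟨?_, ?_⟩
    · rw [Curves.Degree.deg_eq] at h2 h3
      linarith
    · by_contra hc
      rw [not_subsingleton_iff_nontrivial] at hc
      have := Curves.Degree.deg_nonneg (k := k) hd1 hNT hc
      linarith
  by_cases hd : d < 0
  · obtain ⟨he, h0⟩ := hneg hd
    haveI : Subsingleton (Coh.HH (CohB1.ProjSpace 1 k) (Twist.twistProjSpace 1 k d) 0) := by
      by_contra hc
      rw [not_subsingleton_iff_nontrivial] at hc
      have := Curves.Degree.deg_nonneg (k := k) hd1 hT hc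
      rw [(CurveFF.DoublePush.euler_twist (k := k) d).2] at this
      linarith
    rw [Curves.Euler.euler_eq (Curves.Degree.isGood (k := k) hd1 hNT).vanish,
      Curves.Euler.euler_eq (Curves.Degree.isGood (k := k) hd1 hT).vanish] at he
    simp only [Curves.Euler.hdim] at he
    have z1 : Module.finrank k (Coh.HH (CohB1.ProjSpace 1 k) (Twist.twistProjSpace 1 k d) 0) = 0 :=
      Module.finrank_zero_of_subsingleton
    have z2 : Module.finrank k (Coh.HH (CohB1.ProjSpace 1 k)
        (CohB1.tensorMod N (Twist.twistProjSpace 1 k d)) 0) = 0 :=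
      Module.finrank_zero_of_subsingleton
    rw [z1, z2] at he
    omega
  · haveI : Subsingleton (Coh.HH (CohB1.ProjSpace 1 k) (Twist.twistProjSpace 1 k d) 1) :=
      ProjKoszul.Reg2.subsingleton_tw (n := 1) (R := k) (d := d) (q := 1)
        (Or.inl (by push_cast; omega)) le_rfl
    rw [Module.finrank_zero_of_subsingleton]
    exact ⟨Nat.zero_le _, fun h => absurd h hd⟩

/-- A bundle on the line whose twist by degree `-1` has no larger `h¹` is nonnegative. -/
theorem line_main [IsAlgClosed k] (N M : (CohB1.ProjSpace 1 k).Modules) (hN : PicF.IsInvertible N)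
    {r : ℕ} (d : Fin r → ℤ) (i : M ≅ ∐ fun j => Twist.twistProjSpace 1 k (d j)) :
    letI : (CohB1.ProjSpace 1 k).Over (Spec (CommRingCat.of k)) := ⟨CohB1.ProjSpace.toSpec 1 k⟩
    Curv2.deg k (CohB1.ProjSpace 1 k) N 1 = -1 →
    Module.finrank k (Coh.HH (CohB1.ProjSpace 1 k) (CohB1.tensorMod N M) 1) ≤
      Module.finrank k (Coh.HH (CohB1.ProjSpace 1 k) M 1) →
    Subsingleton (Coh.HH (CohB1.ProjSpace 1 k) M 1) ∧
      Subsingleton (Coh.HH (CohB1.ProjSpace 1 k)
        (CohB1.tensorMod M (Twist.twistProjSpace 1 k (-1))) 1) := by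
  letI : (CohB1.ProjSpace 1 k).Over (Spec (CommRingCat.of k)) := ⟨CohB1.ProjSpace.toSpec 1 k⟩
  intro hdeg hle
  haveI : IsProper (CohB1.ProjSpace 1 k ↘ Spec (CommRingCat.of k)) :=
    ProjSpace.Basic.isProper_toSpec 1 k
  haveI := Curves.GlobalSections.isNoetherian_of_proper k (CohB1.ProjSpace 1 k)
  obtain ⟨eN₀⟩ := nonempty_tensor_sigma N fun j => Twist.twistProjSpace 1 k (d j)
  let eN := tensorIso (Iso.refl N) i ≪≫ eN₀
  haveI := fun j => Snapper.Finite.cohFinite k (CohB1.ProjSpace 1 k) (Twist.twistProjSpace 1 k (d j))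
    (Ample.GG.isCoh_of_isInvertible (CurveFF.DoublePush.isInvertible_twist (d j))) 1
  haveI := fun j => Snapper.Finite.cohFinite k (CohB1.ProjSpace 1 k)
    (CohB1.tensorMod N (Twist.twistProjSpace 1 k (d j)))
    (Ample.GG.isCoh_of_isInvertible (TensorMod.Invertible.isInvertible_tensorMod hN
      (CurveFF.DoublePush.isInvertible_twist (d j)))) 1
  rw [(Curves.LES.isoK k eN 1).finrank_eq, (Curves.LES.isoK k i 1).finrank_eq, finrank_sigma,
    finrank_sigma] at hle
  have hd : ∀ j, 0 ≤ d j := by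
    intro j
    by_contra hj
    rw [not_le] at hj
    exact absurd hle (not_le.2 (Finset.sum_lt_sum (fun l _ => (twist_le k N hN (d l) hdeg).1)
      ⟨j, Finset.mem_univ j, (twist_le k N hN (d j) hdeg).2 hj⟩))
  have hsub : ∀ (t : ℤ), -1 ≤ t →
      Subsingleton (Coh.HH (CohB1.ProjSpace 1 k) (Twist.twistProjSpace 1 k t) 1) :=
    fun t ht => ProjKoszul.Reg2.subsingleton_tw (n := 1) (R := k) (d := t) (q := 1)
      (Or.inl (by push_cast; omega)) le_rfl
  refine ⟨?_, ?_⟩
  · haveI := ProjCoh.Horrocks.subsingleton_HH_sigma k (fun j => Twist.twistProjSpace 1 k (d j)) 1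
      fun j => hsub _ (by have := hd j; omega)
    exact (Curves.LES.isoK k i 1).toEquiv.subsingleton
  · obtain ⟨eO⟩ := nonempty_tensor_sigma (Twist.twistProjSpace 1 k (-1))
      fun j => Twist.twistProjSpace 1 k (d j)
    haveI := ProjCoh.Horrocks.subsingleton_HH_sigma k
      (fun j => CohB1.tensorMod (Twist.twistProjSpace 1 k (-1)) (Twist.twistProjSpace 1 k (d j))) 1
      fun j => by
        haveI : Subsingleton (Coh.HH (CohB1.ProjSpace 1 k) (ProjCoh.Coherent.tw 1 k (-1 + d j)) 1) :=
          hsub (-1 + d j) (by have := hd j; omega)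
        exact (Curves.LES.isoK k (ProjCoh.Coherent.twTensor (-1) (d j)) 1).toEquiv.subsingleton
    exact (Curves.LES.isoK k (comm _ _ ≪≫ tensorIso (Iso.refl _) i ≪≫ eO) 1).toEquiv.subsingleton

end Line

theorem main (k : Type u) [Field k] [IsAlgClosed k]
    (X : Scheme.{u}) [X.Over (Spec (CommRingCat.of k))] [IsIntegral X] [IsProper (X ↘ (Spec (CommRingCat.of k)))]
    [HasInjectiveResolutions X.Modules]
    (π : X ⟶ CohB1.ProjSpace 1 k) (hπk : π ≫ CohB1.ProjSpace.toSpec 1 k = X ↘ (Spec (CommRingCat.of k))) (hπs : Function.Surjective π)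
    (L : X.Modules) (hL : PicF.IsInvertible L) (hR1 : IsZero ((Coh.Rpush π 1).obj L))
    (q : ↥(CohB1.ProjSpace 1 k)) (hq : IsClosed ({q} : Set ↥(CohB1.ProjSpace 1 k)))
    (hres : Module.finrank k (Coh.HH X L 0) =
      Module.finrank k (Coh.HH X (CohB1.tensorMod L (_root_.ClSub.idealMod ((Scheme.IdealSheafData.vanishingIdeal ⟨{q}, hq⟩).comap π))) 0) +
        Module.finrank k (Coh.HH X (CohB1.tensorMod (_root_.ClSub.quotMod ((Scheme.IdealSheafData.vanishingIdeal ⟨{q}, hq⟩).comap π)) L) 0)) :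
    letI : (CohB1.ProjSpace 1 k).Over (Spec (CommRingCat.of k)) := ⟨CohB1.ProjSpace.toSpec 1 k⟩
    Subsingleton (Coh.HH X L 1) ∧ Subsingleton (Coh.HH X (CohB1.tensorMod L (_root_.ClSub.idealMod ((Scheme.IdealSheafData.vanishingIdeal ⟨{q}, hq⟩).comap π))) 1) ∧
      Subsingleton (Coh.HH (CohB1.ProjSpace 1 k) (CohB1.tensorMod ((Coh.push π).obj L) (Twist.twistProjSpace 1 k (-1))) 1) := by
  let P := CohB1.ProjSpace 1 k
  letI iP : P.Over (Spec (CommRingCat.of k)) := ⟨CohB1.ProjSpace.toSpec 1 k⟩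
  haveI : IsProper (P ↘ Spec (CommRingCat.of k)) := ProjSpace.Basic.isProper_toSpec 1 k
  haveI : Smooth (P ↘ Spec (CommRingCat.of k)) := ProjSpace.Basic.smooth_toSpec 1 k
  haveI := Curves.GlobalSections.isNoetherian_of_proper k X
  haveI := Curves.GlobalSections.isNoetherian_of_proper k P
  have hP1 : topologicalKrullDim P = 1 := CurveFF.DoublePush.dim_line
  haveI : ConnectedSpace P := by
    haveI : Nonempty P := ⟨π (genericPoint X)⟩
    haveI : PreconnectedSpace P := ⟨by
      rw [← hπs.range_eq]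
      exact isPreconnected_range π.continuous⟩
    exact ⟨inferInstance⟩
  haveI : IsIntegral P := CurveBundle.SmoothField.isIntegral k hP1.le
  haveI : IsProper π := by
    haveI : IsProper (π ≫ (P ↘ Spec (CommRingCat.of k))) := by
      show IsProper (π ≫ CohB1.ProjSpace.toSpec 1 k)
      rw [hπk]; infer_instance
    exact IsProper.of_comp π (P ↘ Spec (CommRingCat.of k))
  haveI : IsDominant π := ⟨hπs.denseRange⟩
  -- the point
  let x : Spec (CommRingCat.of k) ⟶ P := pointOfClosedPoint (P ↘ Spec (CommRingCat.of k)) q hq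
  have hx : x ≫ (P ↘ Spec (CommRingCat.of k)) = 𝟙 _ :=
    pointOfClosedPoint_comp (P ↘ Spec (CommRingCat.of k)) q hq
  have hC : Curve.IsSmoothProperCurve k P (P ↘ Spec (CommRingCat.of k)) :=
    ⟨inferInstance, inferInstance, inferInstance, hP1⟩
  obtain ⟨hxcl, hcart, hdeg, -⟩ := IntTheory.ProductCurves.point_divisor k hC x hx
  haveI := hxcl
  have hker : x.ker = Scheme.IdealSheafData.vanishingIdeal ⟨{q}, hq⟩ := by
    rw [H75.RedKer.ker_eq_vanishingIdeal]
    congr 1
    ext1
    have hr : Set.range x = {q} := by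
      refine Set.eq_singleton_iff_unique_mem.2
        ⟨⟨IsLocalRing.closedPoint k, pointOfClosedPoint_apply _ q hq _⟩, ?_⟩
      rintro _ ⟨z, rfl⟩
      exact pointOfClosedPoint_apply _ q hq z
    simp only [hr, hq.closure_eq]
  rw [← hker] at hres ⊢
  set J := x.ker.comap π
  set N := _root_.ClSub.idealMod x.ker
  have hN : PicF.IsInvertible N := ClSub.Cartier.isInvertible_idealMod hcart
  obtain ⟨e⟩ := ModelFibre.IdealPull.nonempty_pullback_idealMod π hcart fun U s hs _ z hz => by
    haveI : Nonempty (U.1 : Scheme) := ⟨⟨π z, hz⟩⟩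
    haveI : Nonempty (π ⁻¹ᵁ U.1 : X.Opens) := ⟨⟨z, hz⟩⟩
    refine mem_nonZeroDivisors_of_ne_zero fun h0 => ?_
    have h1 : π.app U.1 s = 0 := germ_injective_of_isIntegral X z hz (by rw [h0, map_zero])
    have h2 : P.basicOpen s ≠ ⊥ := by
      rw [Ne, basicOpen_eq_bot_iff]
      exact nonZeroDivisors.ne_zero hs
    obtain ⟨w, hw⟩ : ((P.basicOpen s : P.Opens) : Set P).Nonempty :=
      Set.nonempty_iff_ne_empty.2 fun he => h2 (TopologicalSpace.Opens.ext he)
    obtain ⟨v, rfl⟩ := hπs w
    have h3 : v ∈ π ⁻¹ᵁ P.basicOpen s := hw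
    rw [Scheme.preimage_basicOpen, h1, Scheme.basicOpen_zero] at h3
    exact h3
  have hJ : PicF.IsInvertible (_root_.ClSub.idealMod J) :=
    TensorMod.Invertible.isInvertible_of_iso e (PicLoc.isInvertible_pullback π hN)
  have hfin := Snapper.Finite.cohFinite k X
  have hLc := Ample.GG.isCoh_of_isInvertible hL
  -- `H¹(L ⊗ I) → H¹(L)` is injective
  let A := CohB1.tensorMod (_root_.ClSub.idealMod J) L
  have hAc : Coh.IsCoh A :=
    Ample.GG.isCoh_of_isInvertible (TensorMod.Invertible.isInvertible_tensorMod hJ hL)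
  have hS := CurveBundle.Twist.shortExact hL (ClSub.Quot.idealSeq_shortExact J)
  have hQc : Coh.IsCoh (CohB1.tensorMod (_root_.ClSub.quotMod J) L) :=
    CurveBundle.Twist.isCoh hL (SurfInt.Effective.isCoh_quotMod J)
  have hB : Coh.IsCoh (CohB1.tensorMod (Coh.structureModule X) L) :=
    CurveBundle.Twist.isCoh hL (Snapper.Twist.isCoh_structureModule X)
  have hadd : Module.finrank k (Coh.HH X (CohB1.tensorMod (Coh.structureModule X) L) 0) =
      Module.finrank k (Coh.HH X A 0) +
        Module.finrank k (Coh.HH X (CohB1.tensorMod (_root_.ClSub.quotMod J) L) 0) := by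
    rw [(Curves.LES.isoK k (leftUnit L) 0).finrank_eq, hres,
      (Curves.LES.isoK k (comm L (_root_.ClSub.idealMod J)) 0).finrank_eq]
  have hinj := injective_one (k := k) hS (hfin _ hB 0) (hfin _ hQc 0) hadd
  -- the direct image
  set M := (Coh.push π).obj L with hMdef
  have hMc : Coh.IsCoh M := Cyc.PP.Push.isCoh_push π hLc
  have hMt : TorSh.IsTorsionFree M := H93.TorFree.isTorsionFree_pushforward π L
    (CurveBundle.Coherent.isTorsionFree (TensorMod.LocFree.of_rank (TensorMod.LocFree.of_isInvertible hL)))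
  obtain ⟨d, -, ⟨i⟩⟩ := H34.SplitP1.exists_splitting
    (CurveBundle.Rank.isFinLocFreeOfRank_grank k hP1 hMc hMt)
  -- comparisons with the line
  have hπ' : π ≫ (P ↘ Spec (CommRingCat.of k)) = X ↘ Spec (CommRingCat.of k) := hπk
  let eL : Coh.HH P M 1 ≃ₗ[k] Coh.HH X L 1 :=
    LinearEquiv.ofBijective (pushLin π hπ' L 1) (pushLin_one_bijective π hπ' L hR1)
  let A' := CohB1.tensorMod ((Scheme.Modules.pullback π).obj N) L
  let eA : A' ≅ CohB1.tensorMod (_root_.ClSub.idealMod J) L := tensorIso e (Iso.refl L)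
  let eP : CohB1.tensorMod N M ≅ (Coh.push π).obj A' :=
    (Modules.ProjFormula.projIso π (Modules.DualBasis.hasDBases_of_isFinLocFree
      (TensorMod.LocFree.of_rank (TensorMod.LocFree.of_isInvertible hN)))).app L
  obtain ⟨g, hg⟩ : ∃ g : Coh.HH X A 1 →ₗ[k] Coh.HH X L 1, Function.Injective g :=
    ⟨(Curves.LES.isoK k (leftUnit L) 1).toLinearMap.comp (Curves.LES.mapK k _ 1),
      (Curves.LES.isoK k (leftUnit L) 1).injective.comp hinj⟩
  have hA'c : Coh.IsCoh A' := Ample.GG.isCoh_of_isInvertible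
    (TensorMod.Invertible.isInvertible_tensorMod (PicLoc.isInvertible_pullback π hN) hL)
  have fA' : Module.Finite k (Coh.HH X A' 1) := hfin A' hA'c 1
  have fL : Module.Finite k (Coh.HH X L 1) := hfin L hLc 1
  have h1 : Module.finrank k (Coh.HH P ((Coh.push π).obj A') 1) ≤ Module.finrank k (Coh.HH X A' 1) :=
    @LinearMap.finrank_le_finrank_of_injective k _ _ _ _ _ _ _ _ fA' (pushLin π hπ' A' 1)
      (pushLin_one_injective π hπ' A')
  have h2 : Module.finrank k (Coh.HH X A 1) ≤ Module.finrank k (Coh.HH X L 1) :=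
    @LinearMap.finrank_le_finrank_of_injective k _ _ _ _ _ _ _ _ fL g hg
  have e1 := (Curves.LES.isoK k eP 1).finrank_eq
  have e2 : Module.finrank k (Coh.HH X A' 1) = Module.finrank k (Coh.HH X A 1) :=
    (Curves.LES.isoK k eA 1).finrank_eq
  have hle : Module.finrank k (Coh.HH P (CohB1.tensorMod N M) 1) ≤
      Module.finrank k (Coh.HH P M 1) :=
    (((e1.trans_le h1).trans e2.le).trans h2).trans eL.finrank_eq.ge
  obtain ⟨hM0, hM1⟩ := line_main k N M hN d i hdeg hle
  haveI hL0 : Subsingleton (Coh.HH X L 1) := eL.symm.toEquiv.subsingleton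
  refine ⟨hL0, ?_, hM1⟩
  haveI : Subsingleton (Coh.HH X A 1) := hg.subsingleton
  exact (Curves.LES.isoK k (comm L (_root_.ClSub.idealMod J)) 1).toEquiv.subsingleton

end Groth.Agent.H97.FibreRes
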