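import Groth.Agent.Lib.TensorMod.Integral
import Groth.Agent.Lib.QCoh.Pushforward
import Groth.Agent.Lib.QCoh.Closure
import Groth.Agent.Lib.CohBasics.Closure
import Groth.Agent.Lib.Snapper.Twist
import Groth.Agent.Lib.Modules.Support
import Groth.Agent.Lib.DerivedOX.Calculus
import Groth.Agent.Lib.Ample.Pow

/-! A nonzero coherent ideal mapping injectively into a given invertible module. -/

set_option autoImplicit false
set_option linter.style.haveILetI false
universe u
open CategoryTheory CategoryTheory.Limits AlgebraicGeometry TopologicalSpace Opposite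

namespace Groth.Agent.H97.IdealIntoLine

open Groth.Agent.Lib Groth.Agent.Lib.Modules

variable {X : Scheme.{u}}

/-- The unit `M → j_* (M|U)`. -/
noncomputable abbrev unit (M : X.Modules) (U : X.Opens) :
    M ⟶ (Scheme.Modules.pushforward U.ι).obj (M.restrict U.ι) :=
  (Scheme.Modules.restrictAdjunction U.ι).unit.app M

theorem image_preimage (U W : X.Opens) : U.ι ''ᵁ (U.ι ⁻¹ᵁ W) = U ⊓ W := by
  rw [Scheme.Hom.image_preimage_eq_opensRange_inf, Scheme.Opens.opensRange_ι]

/-- The unit is bijective on sections over opens inside `U`. -/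
theorem bijective_unit_app (M : X.Modules) {U W : X.Opens} (hW : W ≤ U) :
    Function.Bijective ((unit M U).app W) := by
  have h : U.ι ''ᵁ (U.ι ⁻¹ᵁ W) = W := by rw [image_preimage, inf_eq_right.2 hW]
  refine Function.bijective_iff_has_inverse.2
    ⟨TensorMod.Dual.rs _ h.ge, fun m => ?_, fun m => ?_⟩
  · change TensorMod.Dual.rs M h.ge (TensorMod.Dual.rs M (U.ι.image_preimage_le W) m) = m
    rw [TensorMod.Dual.rs_rs]
    exact TensorMod.Dual.rs_self M _ _
  · change TensorMod.Dual.rs M (U.ι.image_preimage_le W) (TensorMod.Dual.rs M h.ge m) = m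
    erw [TensorMod.Dual.rs_rs]
    exact TensorMod.Dual.rs_self M _ _

/-- The unit is bijective on stalks in `U`. -/
theorem bijective_unit_stalk (M : X.Modules) {U : X.Opens} {x : X} (hx : x ∈ U) :
    Function.Bijective (StalkModule.stalkMapₗ (unit M U) x) := by
  refine ⟨(injective_iff_map_eq_zero _).2 fun v hv => ?_, fun v => ?_⟩
  · obtain ⟨W, hxW, m, rfl⟩ := M.presheaf.exists_germ_eq v
    rw [StalkModule.stalkMapₗ_germ] at hv
    let P := (Scheme.Modules.pushforward U.ι).obj (M.restrict U.ι)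
    obtain ⟨V, hxV, i₁, i₂, e⟩ := TopCat.Presheaf.germ_eq P.presheaf x hxW hxW _ 0
      (hv.trans (map_zero _).symm)
    let V' := V ⊓ U
    have hb := bijective_unit_app M (show V' ≤ U from inf_le_right)
    have hz : TensorMod.Dual.rs M ((inf_le_left : V' ≤ V).trans i₁.le) m = 0 := by
      refine hb.1 ?_
      rw [map_zero]
      refine ((TensorMod.HomGlue.rs_app (unit M U) ((inf_le_left : V' ≤ V).trans i₁.le) m).symm).trans ?_
      rw [← TensorMod.Dual.rs_rs P i₁.le (inf_le_left : V' ≤ V),
        show TensorMod.Dual.rs P i₁.le ((unit M U).app W m) = 0 from e.trans (map_zero _)]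
      exact map_zero (P.presheaf.map _).hom
    rw [← TopCat.Presheaf.germ_res_apply M.presheaf (homOfLE ((inf_le_left : V' ≤ V).trans i₁.le)) x ⟨hxV, hx⟩]
    exact (congrArg (M.presheaf.germ V' x ⟨hxV, hx⟩) hz).trans (map_zero _)
  · let P := (Scheme.Modules.pushforward U.ι).obj (M.restrict U.ι)
    obtain ⟨W, hxW, m, rfl⟩ := P.presheaf.exists_germ_eq v
    obtain ⟨m', hm'⟩ := (bijective_unit_app M (show W ⊓ U ≤ U from inf_le_right)).2
      (TensorMod.Dual.rs P (inf_le_left : W ⊓ U ≤ W) m)
    refine ⟨M.presheaf.germ (W ⊓ U) x ⟨hxW, hx⟩ m', ?_⟩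
    rw [StalkModule.stalkMapₗ_germ, hm']
    exact TopCat.Presheaf.germ_res_apply P.presheaf _ x _ m

/-- On an integral scheme the unit of an invertible module is injective. -/
theorem mono_unit [IsIntegral X] {M : X.Modules} (hM : PicF.IsInvertible M) {U : X.Opens}
    (hU : (U : Set X).Nonempty) : Mono (unit M U) := by
  refine (StalkModule.mono_iff_stalkMapₗ_injective _).2 fun x => (injective_iff_map_eq_zero _).2 fun v hv => ?_
  obtain ⟨W, hxW, m, rfl⟩ := M.presheaf.exists_germ_eq v
  rw [StalkModule.stalkMapₗ_germ] at hv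
  let P := (Scheme.Modules.pushforward U.ι).obj (M.restrict U.ι)
  obtain ⟨V, hxV, i₁, i₂, e⟩ := TopCat.Presheaf.germ_eq P.presheaf x hxW hxW _ 0 (hv.trans (map_zero _).symm)
  have hne : ((U ⊓ V : X.Opens) : Set X).Nonempty :=
    nonempty_preirreducible_inter U.2 V.2 hU ⟨x, hxV⟩
  have h0 : (unit M U).app V (TensorMod.Dual.rs M i₁.le m) = 0 := by
    rw [← TensorMod.HomGlue.rs_app (unit M U) i₁.le m]
    exact e.trans (map_zero _)
  have h1 : TensorMod.Dual.rs M (U.ι.image_preimage_le V) (TensorMod.Dual.rs M i₁.le m) = 0 := h0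
  have h2 := TensorMod.Integral.rs_injective hM (U.ι.image_preimage_le V)
    (by rw [image_preimage]; exact hne.to_subtype) h1
  rw [← TopCat.Presheaf.germ_res_apply M.presheaf i₁ x hxV]
  exact (congrArg (M.presheaf.germ V x hxV) h2).trans (map_zero _)

/-- **A common ideal.** -/
theorem exists_common [IsIntegral X] [IsNoetherian X] {M : X.Modules} (hM : PicF.IsInvertible M) :
    ∃ (J : X.Modules) (u : J ⟶ Coh.structureModule X) (v : J ⟶ M), Coh.IsCoh J ∧ Mono u ∧ Mono v ∧
      genericPoint X ∉ CohB1.support (cokernel u) ∧ genericPoint X ∉ CohB1.support (cokernel v) := by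
  obtain ⟨U, hη, ⟨θ⟩⟩ := hM (genericPoint X)
  have hU : (U : Set X).Nonempty := ⟨_, hη⟩
  let O := Coh.structureModule X
  have hO := Snapper.Twist.isCoh_structureModule X
  have hOi := PicLoc.isInvertible_structureModule X
  haveI : O.IsQuasicoherent := hO.1
  haveI : M.IsQuasicoherent := TensorMod.QCohInv.isQCoh_of_isInvertible hM
  let P := (Scheme.Modules.pushforward U.ι).obj (O.restrict U.ι)
  let eO : O.restrict U.ι ≅ Coh.structureModule (U : Scheme.{u}) :=
    (Scheme.Modules.restrictFunctorIsoPullback U.ι).app O ≪≫ PicLoc.pullbackStructureIso U.ι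
  haveI : (O.restrict U.ι).IsQuasicoherent := by
    haveI := TensorMod.QCohInv.isQCoh_structureModule (U : Scheme.{u})
    exact CohBasics.Closure.isQCoh_of_iso eO.symm
  haveI : P.IsQuasicoherent := QCoh.Pushforward.isQCoh_pushforward U.ι
  let θ' : M.restrict U.ι ≅ O.restrict U.ι := θ ≪≫ eO.symm
  let f : O ⟶ P := unit O U
  let g : M ⟶ P := unit M U ≫ (Scheme.Modules.pushforward U.ι).map θ'.hom
  haveI : Mono f := mono_unit hOi hU
  haveI : Mono (unit M U) := mono_unit hM hU
  haveI : Mono g := mono_comp _ _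
  let J := kernel (f ≫ cokernel.π g)
  have hw : (kernel.ι (f ≫ cokernel.π g) ≫ f) ≫ cokernel.π g = 0 := by
    rw [Category.assoc]; exact kernel.condition _
  let v : J ⟶ M := Abelian.monoLift g (kernel.ι (f ≫ cokernel.π g) ≫ f) hw
  have hv : v ≫ g = kernel.ι (f ≫ cokernel.π g) ≫ f := Abelian.monoLift_comp _ _ _
  haveI : Mono (v ≫ g) := by rw [hv]; infer_instance
  haveI : Mono v := mono_of_mono v g
  haveI : (cokernel g).IsQuasicoherent := QCoh.Closure.isQCoh_cokernel g
  haveI : J.IsQuasicoherent := QCoh.Closure.isQCoh_kernel _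
  have hJ : Coh.IsCoh J := CohBasics.Closure.isCoh_of_mono (kernel.ι (f ≫ cokernel.π g)) hO
  refine ⟨J, kernel.ι _, v, hJ, inferInstance, inferInstance, ?_⟩
  -- bijectivity at the generic point
  let η := genericPoint X
  have hg : Function.Bijective (StalkModule.stalkMapₗ g η) := by
    have h2 := (StalkModule.isIso_iff_stalkMapₗ_bijective ((Scheme.Modules.pushforward U.ι).map θ'.hom)).mp
      inferInstance η
    have e : ⇑(StalkModule.stalkMapₗ g η) = StalkModule.stalkMapₗ ((Scheme.Modules.pushforward U.ι).map θ'.hom) η ∘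
        StalkModule.stalkMapₗ (unit M U) η := by
      rw [StalkModule.stalkMapₗ_comp]; rfl
    rw [e]
    exact h2.comp (bijective_unit_stalk M hη)
  have hf := bijective_unit_stalk O (U := U) hη
  have hC : Subsingleton ((cokernel g).presheaf.stalk η) := subsingleton_of_forall_eq 0 fun c => by
    obtain ⟨p, rfl⟩ := (StalkModule.epi_iff_stalkMapₗ_surjective (cokernel.π g)).1 inferInstance η c
    obtain ⟨m, rfl⟩ := hg.2 p
    rw [← LinearMap.comp_apply, ← StalkModule.stalkMapₗ_comp, cokernel.condition, StalkModule.stalkMapₗ_zero]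
    rfl
  have hu : Function.Surjective (StalkModule.stalkMapₗ (kernel.ι (f ≫ cokernel.π g)) η) := fun a =>
    (ShortComplex.ab_exact_iff _).1 ((Modules.Stalk.exact_iff_stalk _).1
      (ShortComplex.exact_kernel (f ≫ cokernel.π g)) η) a
      (Subsingleton.elim (α := (cokernel g).presheaf.stalk η) _ _)
  have hvs : Function.Surjective (StalkModule.stalkMapₗ v η) := fun b => by
    obtain ⟨a, ha⟩ := hf.2 (StalkModule.stalkMapₗ g η b)
    obtain ⟨c, rfl⟩ := hu a
    refine ⟨c, hg.1 ?_⟩
    rw [← ha]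
    exact (LinearMap.congr_fun (StalkModule.stalkMapₗ_comp v g η) c).symm.trans
      ((congrArg (fun φ => StalkModule.stalkMapₗ φ η c) hv).trans
        (LinearMap.congr_fun (StalkModule.stalkMapₗ_comp _ f η) c))
  have key : ∀ {A : X.Modules} (φ : J ⟶ A), Function.Surjective (StalkModule.stalkMapₗ φ η) →
      η ∉ CohB1.support (cokernel φ) := fun φ hφ => by
    refine Modules.Support.not_mem_support_iff.mpr (subsingleton_of_forall_eq 0 fun c => ?_)
    obtain ⟨p, rfl⟩ := (StalkModule.epi_iff_stalkMapₗ_surjective (cokernel.π φ)).1 inferInstance η c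
    obtain ⟨m, rfl⟩ := hφ p
    rw [← LinearMap.comp_apply, ← StalkModule.stalkMapₗ_comp, cokernel.condition, StalkModule.stalkMapₗ_zero]
    rfl
  exact ⟨key _ hu, key _ hvs⟩

end Groth.Agent.H97.IdealIntoLine
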