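import Groth.Agent.H97.AffineImages
import Groth.Agent.Lib.SemiLocalDimOne.GlueMain
import Groth.Agent.Lib.SchLoc.Allied
import Mathlib.AlgebraicGeometry.FunctionField
import Mathlib.AlgebraicGeometry.Noetherian

/-! Finitely many points with one-dimensional local rings on a separated integral locally Noetherian
scheme lie in an affine open. -/

set_option autoImplicit false
universe u
open CategoryTheory CategoryTheory.Limits AlgebraicGeometry TopologicalSpace

namespace Groth.Agent.H97.IntegralFinite

open Groth.Agent.H97.AffineImages Groth.Agent.Lib.SemiLocalDimOne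

variable {X : Scheme.{u}} [IsIntegral X]

/-- The local ring inside the function field. -/
noncomputable def loc (x : X) : Subring X.functionField :=
  (algebraMap (X.presheaf.stalk x) X.functionField).range

/-- The local ring is isomorphic to its image. -/
noncomputable def locIso (x : X) : X.presheaf.stalk x ≅ CommRingCat.of (loc x) :=
  (RingEquiv.ofBijective (algebraMap (X.presheaf.stalk x) X.functionField).rangeRestrict
    ⟨fun _ _ h => IsFractionRing.injective (X.presheaf.stalk x) X.functionField
      (congrArg Subtype.val h), RingHom.rangeRestrict_surjective _⟩).toCommRingCatIso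

theorem genericPoint_isGen : IsGen (genericPoint X) := by
  show closure _ ∈ _
  rw [(genericPoint_spec X).def, irreducibleComponents_eq_singleton]
  rfl

theorem nice_loc (x : X) [IsNoetherianRing (X.presheaf.stalk x)] (hx : ringKrullDim (X.presheaf.stalk x) = 1) :
    Glue.Nice (loc x) := by
  let e : X.presheaf.stalk x ≃+* loc x := (locIso x).commRingCatIsoToRingEquiv
  have : IsFractionRing (X.presheaf.stalk x) X.functionField := inferInstance
  refine ⟨isNoetherianRing_of_ringEquiv _ e, IsFractionRing.of_field _ _ fun z => ?_,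
    (ringKrullDim_eq_of_ringEquiv e).symm.trans hx, ?_⟩
  · obtain ⟨a, b, _, rfl⟩ := IsFractionRing.div_surjective (A := X.presheaf.stalk x) z
    exact ⟨e a, e b, rfl⟩
  · have : IsLocalRing (loc x) := e.isLocalRing
    exact inferInstanceAs (Finite (MaximalSpectrum (loc x)))

theorem le_ofPrime_of_dim_one {x : X} (hx : ringKrullDim (X.presheaf.stalk x) = 1)
    (S : Subring X.functionField) (hxS : loc x ≤ S) (Q : Ideal S) [hQ : Q.IsPrime] (hQ0 : Q ≠ ⊥) :
    LocalSubring.range (algebraMap (X.presheaf.stalk x) X.functionField) ≤ LocalSubring.ofPrime S Q := by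
  let ψ : X.presheaf.stalk x →+* S :=
    (algebraMap (X.presheaf.stalk x) X.functionField).codRestrict S fun a => hxS ⟨a, rfl⟩
  have hψ : Q.comap ψ = IsLocalRing.maximalIdeal _ := by
    obtain ⟨⟨q, hqS⟩, hq, hq0⟩ := Submodule.exists_mem_ne_zero_of_ne_bot hQ0
    obtain ⟨a, b, hb, hab⟩ := IsFractionRing.div_surjective (A := X.presheaf.stalk x) q
    have hb' : algebraMap (X.presheaf.stalk x) X.functionField b ≠ 0 := fun h =>
      nonZeroDivisors.ne_zero hb (IsFractionRing.injective (X.presheaf.stalk x) X.functionField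
        (h.trans (map_zero _).symm))
    have hψa : ψ a ∈ Q := by
      have : ψ a = ψ b * ⟨q, hqS⟩ := by
        apply Subtype.ext
        show algebraMap _ _ a = algebraMap _ _ b * q
        rw [← hab, mul_div_cancel₀ _ hb']
      rw [this]
      exact Q.mul_mem_left _ hq
    have ha0 : a ≠ 0 := by
      intro h
      refine hq0 (Subtype.ext ?_)
      show q = 0
      rw [← hab, h, map_zero, zero_div]
    have : Ring.KrullDimLE 1 (X.presheaf.stalk x) := Ring.krullDimLE_iff.2 hx.le
    have hprime : (Q.comap ψ).IsPrime := Ideal.IsPrime.comap ψ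
    refine IsLocalRing.eq_maximalIdeal ?_
    exact Ring.krullDimLE_one_iff_of_noZeroDivisors.1 ‹_› _
      (fun h => ha0 (by simpa [h] using (show a ∈ Q.comap ψ from hψa))) hprime
  let h : X.presheaf.stalk x →+* Localization.AtPrime Q :=
    (algebraMap S (Localization.AtPrime Q)).comp ψ
  have : IsLocalHom h := ⟨fun a ha => by
    by_contra hn
    have h1 : a ∈ Q.comap ψ := hψ.symm ▸ (IsLocalRing.mem_maximalIdeal _).2 hn
    exact (IsLocalization.AtPrime.isUnit_to_map_iff _ Q _).1 ha h1⟩
  refine Groth.Agent.Lib.SchLoc.range_le_range_of_comp _ _ h (RingHom.ext fun a => ?_)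
  show IsLocalization.lift _ (algebraMap S _ (ψ a)) = _
  rw [IsLocalization.lift_eq]
  rfl

theorem loc_sup_eq_top [X.IsSeparated] {x y : X} (hx : ringKrullDim (X.presheaf.stalk x) = 1)
    (hy : ringKrullDim (X.presheaf.stalk y) = 1) (hxy : x ≠ y) : loc x ⊔ loc y = ⊤ := by
  by_contra hne
  let S : Subring X.functionField := loc x ⊔ loc y
  have hnf : ¬ IsField S := by
    intro hF
    refine hne (top_unique fun z _ => ?_)
    obtain ⟨a, b, hb, rfl⟩ := IsFractionRing.div_surjective (A := X.presheaf.stalk x) z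
    have hbS : algebraMap _ X.functionField b ∈ S := (le_sup_left : loc x ≤ S) ⟨b, rfl⟩
    have hb0 : (⟨_, hbS⟩ : S) ≠ 0 := fun h => nonZeroDivisors.ne_zero hb
      (IsFractionRing.injective (X.presheaf.stalk x) X.functionField
        ((congrArg Subtype.val h).trans (map_zero _).symm))
    obtain ⟨c, hc⟩ := hF.mul_inv_cancel hb0
    rw [div_eq_mul_inv]
    refine mul_mem ((le_sup_left : loc x ≤ S) ⟨a, rfl⟩) ?_
    rw [← eq_inv_of_mul_eq_one_right (congrArg Subtype.val hc : _ * (c : X.functionField) = 1)]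
    exact c.2
  obtain ⟨Q, hQ⟩ := Ideal.exists_maximal S
  have := hQ.isPrime
  have hQ0 : Q ≠ ⊥ := Ring.ne_bot_of_isMaximal_of_not_isField hQ hnf
  exact hxy (Groth.Agent.Lib.SchLoc.eq_of_range_le (le_ofPrime_of_dim_one hx S le_sup_left Q hQ0)
    (le_ofPrime_of_dim_one hy S le_sup_right Q hQ0))

open Groth.Agent.Lib.SemiLocalDimOne.GlueMain in
theorem exists_affineOpen' [X.IsSeparated] (T : Finset X)
    (hN : ∀ x ∈ T, IsNoetherianRing (X.presheaf.stalk x))
    (hT : ∀ x ∈ T, ringKrullDim (X.presheaf.stalk x) ≤ 1) :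
    ∃ U : X.Opens, IsAffineOpen U ∧ ∀ x ∈ T, x ∈ U := by
  classical
  let η := genericPoint X
  have hηx : ∀ x : X, η ⤳ x := fun x => (genericPoint_spec X).specializes trivial
  let T₁ := T.filter fun x => x ≠ η
  have hdim : ∀ x ∈ T₁, ringKrullDim (X.presheaf.stalk x) = 1 := by
    intro x hx
    obtain ⟨hxT, hne⟩ := Finset.mem_filter.1 hx
    refine le_antisymm (hT x hxT) ?_
    obtain ⟨p, hp⟩ : η ∈ Set.range (X.fromSpecStalk x) := by
      rw [Scheme.range_fromSpecStalk]; exact hηx x
    let p' : PrimeSpectrum (X.presheaf.stalk x) := p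
    have hlt : p' < IsLocalRing.closedPoint (X.presheaf.stalk x) := by
      refine lt_of_le_of_ne (IsLocalRing.le_maximalIdeal p'.2.ne_top) fun h => hne ?_
      rw [← hp, show p = IsLocalRing.closedPoint _ from h, Scheme.fromSpecStalk_closedPoint]
    exact Order.one_le_krullDim_iff.2 ⟨_, _, hlt⟩
  rcases T₁.eq_empty_or_nonempty with he | hne
  · obtain ⟨U, hU, hηU, -⟩ := exists_isAffineOpen_mem_and_subset (U := (⊤ : X.Opens))
      (trivial : η ∈ (⊤ : X.Opens))
    refine ⟨U, hU, fun x hx => ?_⟩
    by_cases h : x = η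
    · exact h ▸ hηU
    · exact absurd (show x ∈ T₁ from Finset.mem_filter.2 ⟨hx, h⟩) (by simp [he])
  let I := {x : X // x ∈ T₁}
  have : Nonempty I := ⟨⟨_, hne.choose_spec⟩⟩
  let A : I → Subring X.functionField := fun i => loc i.1
  obtain ⟨D⟩ := exists_data A (⨅ i, A i) (fun i => haveI := hN i.1 (Finset.mem_filter.1 i.2).1; nice_loc i.1 (hdim i.1 i.2))
    (fun z => Subring.mem_iInf) fun i j hij =>
      loc_sup_eq_top (hdim i.1 i.2) (hdim j.1 j.2) fun h => hij (Subtype.ext h)
  let R : Subring X.functionField := ⨅ i, A i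
  let j : ∀ i : I, Spec (CommRingCat.of (A i)) ⟶ Spec (CommRingCat.of R) := fun i =>
    Spec.map (CommRingCat.ofHom (Subring.inclusion (D.le i)))
  have : ∀ i, IsOpenImmersion (j i) := fun i => D.isOpenImmersion i
  let g : ∀ i : I, Spec (CommRingCat.of (A i)) ⟶ X := fun i =>
    Spec.map (locIso i.1).hom ≫ X.fromSpecStalk i.1
  have hgen : ∀ i : I, Spec.map (CommRingCat.ofHom (A i).subtype) ≫ g i = X.fromSpecStalk η := by
    intro i
    rw [← Category.assoc, ← Spec.map_comp,
      ← Scheme.SpecMap_stalkSpecializes_fromSpecStalk (hηx i.1)]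
    rfl
  let 𝒰 : (Spec (CommRingCat.of R)).OpenCover := Scheme.Cover.mkOfCovers I
    (fun i => Spec (CommRingCat.of (A i))) j (fun p => by
      obtain ⟨i, q, hq⟩ := Set.mem_iUnion.1 ((D.iUnion_range (h := D.le)).ge (Set.mem_univ p))
      exact ⟨i, q, hq⟩) fun i => D.isOpenImmersion i
  have hglue : ∀ a b : I, pullback.fst (j a) (j b) ≫ g a = pullback.snd (j a) (j b) ≫ g b := by
    intro a b
    by_cases hab : a = b
    · subst hab
      rw [fst_eq_snd_of_mono_eq (j a)]
    have hpb := isPullback_SpecMap_of_isPushout _ _ _ _ (D.isPushout hab (hi := D.le a) (hj := D.le b))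
    rw [← cancel_epi hpb.isoPullback.hom, hpb.isoPullback_hom_fst_assoc,
      hpb.isoPullback_hom_snd_assoc, hgen, hgen]
  let f : Spec (CommRingCat.of R) ⟶ X := 𝒰.glueMorphisms g hglue
  have hf : ∀ i, j i ≫ f = g i := fun i => 𝒰.ι_glueMorphisms g hglue i
  let i₀ : I := Classical.arbitrary I
  -- the generic point
  let bot : PrimeSpectrum R := ⟨⊥, Ideal.isPrime_bot⟩
  have huniq : ∀ q : Spec (CommRingCat.of R), IsGen q → q = bot := fun q hq =>
    (hq.eq_of_specializes ((PrimeSpectrum.le_iff_specializes bot q).1 bot_le)).symm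
  have hfbot : f bot = η := by
    let K0 : PrimeSpectrum X.functionField := ⟨⊥, Ideal.isPrime_bot⟩
    have h1 : X.fromSpecStalk η K0 = η := by
      rw [show (K0 : Spec X.functionField) = IsLocalRing.closedPoint X.functionField from
        PrimeSpectrum.ext ((IsLocalRing.isField_iff_maximalIdeal_eq.1 (Field.toIsField _)).symm)]
      exact Scheme.fromSpecStalk_closedPoint
    have h2 : bot = j i₀ (Spec.map (CommRingCat.ofHom (A i₀).subtype) K0) := by
      refine PrimeSpectrum.ext ?_
      show ⊥ = ((⊥ : Ideal X.functionField).comap _).comap _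
      rw [Ideal.comap_comap, eq_comm, Ideal.comap_bot_of_injective]
      exact fun a b h => Subtype.ext h
    rw [h2, ← Scheme.Hom.comp_apply (j i₀), hf, ← Scheme.Hom.comp_apply, hgen]
    exact h1
  obtain ⟨U, hU, hTU⟩ := AffineImages.exists_affineOpen f
    (fun q hq => by rw [huniq q hq, hfbot]; exact genericPoint_isGen)
    (fun q q' hq hq' _ => (huniq q hq).trans (huniq q' hq').symm)
    (by rw [irreducibleComponents_eq_singleton]; exact Set.finite_singleton _)
    T₁ fun x hx => by
      have : IsLocalRing (A ⟨x, hx⟩) := (locIso x).commRingCatIsoToRingEquiv.isLocalRing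
      let cp : Spec (CommRingCat.of (A ⟨x, hx⟩)) := IsLocalRing.closedPoint (A ⟨x, hx⟩)
      have : IsLocalHom (locIso x).hom.hom := ⟨fun a ha => by
        have := ha.map (locIso x).inv.hom
        rwa [show (locIso x).inv.hom ((locIso x).hom.hom a) = a from
          (locIso x).commRingCatIsoToRingEquiv.symm_apply_apply a] at this⟩
      have hcp : Spec.map (locIso x).hom cp = IsLocalRing.closedPoint (X.presheaf.stalk x) :=
        IsLocalRing.comap_closedPoint (locIso x).hom.hom
      have hfs : IsIso ((X.fromSpecStalk x).stalkMap (IsLocalRing.closedPoint (X.presheaf.stalk x))) := by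
        have h := Scheme.stalkClosedPointTo_fromSpecStalk x
        have : IsIso (Scheme.stalkClosedPointTo (X.fromSpecStalk x)) := by rw [h]; infer_instance
        exact @IsIso.of_isIso_comp_right _ _ _ _ _ _ (stalkClosedPointIso (X.presheaf.stalk x)).hom
          inferInstance this
      refine ⟨j ⟨x, hx⟩ cp, ?_, ?_⟩
      · rw [← Scheme.Hom.comp_apply, hf]
        show X.fromSpecStalk x (Spec.map (locIso x).hom cp) = x
        rw [hcp, Scheme.fromSpecStalk_closedPoint]
      · have h1 : IsIso ((j ⟨x, hx⟩ ≫ f).stalkMap cp) := by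
          rw [hf]
          show IsIso ((Spec.map (locIso x).hom ≫ X.fromSpecStalk x).stalkMap cp)
          rw [Scheme.Hom.stalkMap_comp]
          have h3 : IsIso ((X.fromSpecStalk x).stalkMap (Spec.map (locIso x).hom cp)) := by
            rw [hcp]; exact hfs
          exact @IsIso.comp_isIso _ _ _ _ _ _ _ h3 inferInstance
        rw [Scheme.Hom.stalkMap_comp] at h1
        exact @IsIso.of_isIso_comp_right _ _ _ _ _ _ ((j ⟨x, hx⟩).stalkMap cp) inferInstance h1
  refine ⟨U, hU, fun x hx => ?_⟩
  by_cases h : x = η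
  · obtain ⟨x₁, hx₁⟩ := hne
    exact h ▸ (hηx x₁).mem_open U.2 (hTU x₁ hx₁)
  · exact hTU x (Finset.mem_filter.2 ⟨hx, h⟩)

theorem exists_affineOpen [IsLocallyNoetherian X] [X.IsSeparated] (T : Finset X)
    (hT : ∀ x ∈ T, ringKrullDim (X.presheaf.stalk x) ≤ 1) :
    ∃ U : X.Opens, IsAffineOpen U ∧ ∀ x ∈ T, x ∈ U :=
  exists_affineOpen' T (fun _ _ => inferInstance) hT

end Groth.Agent.H97.IntegralFinite
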