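import Groth.Agent.H97.NefBundle
import Groth.Agent.Lib.Cyc.CH.SubLine
import Groth.Agent.Lib.Cyc.CH.SubMap
import Groth.Agent.Lib.Cyc.CH.Split
import Groth.Agent.Lib.Modules.ZeroLocus

/-! Cutting intersection numbers by maps of invertible modules on an integral subscheme. -/

set_option autoImplicit false
set_option linter.style.haveILetI false
set_option linter.unusedSectionVars false
universe u
open CategoryTheory CategoryTheory.Limits AlgebraicGeometry TopologicalSpace

noncomputable section

namespace Groth.Agent.H97.IpCut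

open Groth.Agent.Lib Groth.Agent.Lib.Snapper Groth.Agent.Lib.Nakai Groth.Agent.Lib.IntTheory
  Groth.Agent.Lib.TensorMod.Basic Groth.Agent.Lib.Modules.StalkModule

local notation "pb" => Scheme.Modules.pullback

section Zero

variable {W : Scheme.{u}} {A M : W.Modules} (σ : A ⟶ M) (hM : FlatMod.IsFinLocFree M)

variable [A.IsQuasicoherent] [M.IsQuasicoherent]

/-- The zero set. -/
abbrev zset : Set W := Set.range ⇑(Modules.ZeroLocus.idealSheaf σ hM).subschemeι

theorem map_eq_zero_of_range {T : Scheme.{u}} [IsReduced T] (g : T ⟶ W) [IsClosedImmersion g]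
    (h : Set.range g ⊆ zset σ hM) : (pb g).map σ = 0 := by
  obtain ⟨g', hg'⟩ := H75.RedKer.exists_lift g (Modules.ZeroLocus.idealSheaf σ hM).subschemeι h
  exact (Modules.ZeroLocus.factors_iff σ hM g).1 ⟨g', hg'⟩

theorem eq_zero_of_zset [IsReduced W] (h : ∀ w, w ∈ zset σ hM) : σ = 0 := by
  have h0 := map_eq_zero_of_range σ hM (𝟙 W) fun w _ => h w
  have hn := (Scheme.Modules.pullbackId W).hom.naturality σ
  rw [h0, zero_comp] at hn
  exact (cancel_epi ((Scheme.Modules.pullbackId W).hom.app A)).1 (by rw [comp_zero]; exact hn.symm)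

theorem notMem_zset (hM1 : PicF.IsInvertible M) {w : W}
    (h : Epi ((pb (W.fromSpecResidueField w)).map σ)) : w ∉ zset σ hM := by
  rintro ⟨w', hw'⟩
  have h0 : (pb (W.fromSpecResidueField w)).map σ = 0 := by
    obtain ⟨g', hg'⟩ : ∃ g' : Spec (W.residueField w) ⟶ (Modules.ZeroLocus.idealSheaf σ hM).subscheme,
        g' ≫ (Modules.ZeroLocus.idealSheaf σ hM).subschemeι = W.fromSpecResidueField w :=
      H75.RedKer.exists_lift _ _ (by rintro _ ⟨a, rfl⟩; rw [Scheme.fromSpecResidueField_apply]; exact ⟨w', hw'⟩)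
    exact (Modules.ZeroLocus.factors_iff σ hM _).1 ⟨g', hg'⟩
  rw [h0] at h
  have hz : IsZero ((pb (W.fromSpecResidueField w)).obj M) :=
    IsZero.of_epi_zero ((pb (W.fromSpecResidueField w)).obj A) _
  haveI : Epi (𝟙 ((pb (W.fromSpecResidueField w)).obj M)) := inferInstance
  exact Cyc.CH.SubMap.isEmpty_of_isZero
    (TensorMod.LocFree.of_isInvertible (PicLoc.isInvertible_pullback _ hM1))
    (𝟙 ((pb (W.fromSpecResidueField w)).obj M)) hz (IsLocalRing.closedPoint (W.residueField w))

theorem support_coker (hM1 : PicF.IsInvertible M) : CohB1.support (cokernel σ) ⊆ zset σ hM := by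
  intro w hw
  by_contra hn
  have hs := Cyc.CH.surjective_of_notMem σ hM1 hM hn
  haveI : Nontrivial ((cokernel σ).presheaf.stalk w) := not_subsingleton_iff_nontrivial.1 hw
  obtain ⟨v, hv0⟩ := exists_ne (0 : (cokernel σ).presheaf.stalk w)
  apply hv0
  obtain ⟨u, rfl⟩ := (epi_iff_stalkMapₗ_surjective (cokernel.π σ)).1 inferInstance w v
  obtain ⟨t, rfl⟩ := hs u
  change stalkMapₗ (cokernel.π σ) w (stalkMapₗ σ w t) = 0
  rw [← LinearMap.comp_apply, ← stalkMapₗ_comp, cokernel.condition]
  rw [stalkMapₗ_zero]; rfl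

end Zero

variable {k : Type u} [Field k] {X : Scheme.{u}} [X.Over (Spec (CommRingCat.of k))]
  [IsProper (X ↘ Spec (CommRingCat.of k))] {N : ℕ} (hN : topologicalKrullDim X ≤ N)

include hN

/-- Cutting with a map of invertible modules on the closure. -/
theorem ip_eq_of_map {l : List X.Modules} (hl : ∀ M ∈ l, PicF.IsInvertible M) {A M : X.Modules}
    (hA : PicF.IsInvertible A) (hM : PicF.IsInvertible M) {y : X} (hy : Main.pd k y = l.length + 1)
    (σ : (pb (IntMult.ptIdeal y).subschemeι).obj A ⟶ (pb (IntMult.ptIdeal y).subschemeι).obj M)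
    (hF : FlatMod.IsFinLocFree ((pb (IntMult.ptIdeal y).subschemeι).obj M))
    [((pb (IntMult.ptIdeal y).subschemeι).obj A).IsQuasicoherent]
    [((pb (IntMult.ptIdeal y).subschemeι).obj M).IsQuasicoherent]
    (hgen : ∃ w, w ∉ zset σ hF)
    (h : ∀ w, w ∈ zset σ hF → Main.pd k ((IntMult.ptIdeal y).subschemeι w) = l.length →
      Cut.ip k N l ((IntMult.ptIdeal y).subschemeι w) = 0) :
    Cut.ip k N (M :: l) y = Cut.ip k N (A :: l) y := by
  haveI := Curves.GlobalSections.isNoetherian_of_proper k X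
  have hfin := Finite.cohFinite k X
  let i := (IntMult.ptIdeal y).subschemeι
  haveI : IsIntegral (IntMult.ptIdeal y).subscheme := IntTheory.Curves.isIntegral_ptIdeal y
  haveI : IsLocallyNoetherian (IntMult.ptIdeal y).subscheme := LocallyOfFiniteType.isLocallyNoetherian i
  have hAi := PicLoc.isInvertible_pullback i hA
  have hMi := PicLoc.isInvertible_pullback i hM
  obtain ⟨w₀, hw₀⟩ := hgen
  have hσ : σ ≠ 0 := fun h0 => hw₀ (by
    obtain ⟨g', hg'⟩ := (Modules.ZeroLocus.factors_iff σ hF (𝟙 _)).2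
      (by rw [h0]; exact Functor.map_zero _ _ _)
    exact ⟨g' w₀, by rw [← Scheme.Hom.comp_apply, hg']; rfl⟩)
  haveI : Mono σ := Curves.Positivity.mono_of_ne_zero hAi hMi hσ
  have := DerivedOX.PushExact.preservesFiniteColimits_pushforward i
  have hS := (Devissage.Basic.exists_ses_mono σ).map_of_exact (Coh.push i)
  let Q := (Coh.push i).obj (cokernel σ)
  have hcohQ : Coh.IsCoh Q := Cyc.Dev.SchemeEquiv.isCoh_push i
    (CohBasics.Closure.isCoh_cokernel σ (Ample.GG.isCoh_of_isInvertible hAi).1
      (Ample.GG.isCoh_of_isInvertible hMi))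
  have := hcohQ.2
  have hclosed := Modules.Support.isClosed_support Q
  have hz : ∀ x ∈ CohB1.support Q, ∃ w, w ∈ zset σ hF ∧ i w = x := fun x hx => by
    rw [Positive.support_push] at hx
    obtain ⟨w, hw, rfl⟩ := hx
    exact ⟨w, support_coker σ hF hMi hw, rfl⟩
  have hle : ∀ x ∈ CohB1.support Q, Main.pd k x ≤ l.length := fun x hx => by
    obtain ⟨w, hw, rfl⟩ := hz x hx
    have hgenpt : genericPoint (IntMult.ptIdeal y).subscheme ∉ zset σ hF := fun hm =>
      hw₀ ((Modules.ZeroLocus.idealSheaf σ hF).subschemeι.isClosedEmbedding.isClosed_range.closure_subset_iff.2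
        (Set.singleton_subset_iff.2 hm) (genericPoint_specializes w₀).mem_closure)
    have hyz : y ⤳ i w := specializes_iff_mem_closure.2
      (Devissage.Closure.range_ptIdeal y ▸ Set.mem_range_self w)
    have hne : y ≠ i w := by
      intro he
      obtain ⟨w', hw'⟩ : y ∈ Set.range i := by
        rw [show i = (IntMult.ptIdeal y).subschemeι from rfl, Devissage.Closure.range_ptIdeal]; exact subset_closure rfl
      have h2 : w' = genericPoint (IntMult.ptIdeal y).subscheme := by
        have h4 : y ⤳ i (genericPoint (IntMult.ptIdeal y).subscheme) := specializes_iff_mem_closure.2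
          (Devissage.Closure.range_ptIdeal y ▸ Set.mem_range_self _)
        have h3 : w' ⤳ genericPoint (IntMult.ptIdeal y).subscheme :=
          i.isClosedEmbedding.isEmbedding.isInducing.specializes_iff.1 (hw'.symm ▸ h4)
        exact ((genericPoint_specializes w').antisymm h3).eq.symm
      exact hgenpt (h2 ▸ (i.isClosedEmbedding.injective (hw'.trans he) ▸ hw))
    have hlt := VarDim.Basic.pdim_lt (X ↘ Spec (CommRingCat.of k)) hyz hne
    change VarDim.Basic.pdim (X ↘ Spec (CommRingCat.of k)) (i w) ≤ l.length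
    change VarDim.Basic.pdim _ y = l.length + 1 at hy
    omega
  have hdim : topologicalKrullDim (CohB1.support Q) ≤ (l.length : ℕ) :=
    (VarDim.Basic.topologicalKrullDim_le_iff (X ↘ Spec (CommRingCat.of k)) hclosed.isLocallyClosed _).2
      fun x hx => by exact_mod_cast hle x hx
  have hQ0 : Vanish.sym k X N l Q = 0 := by
    rw [Additive.eq_sum (Additive.isAdd_sym hfin hN hl)
      (Additive.vanishBelow_sym hfin hN hl rfl) hcohQ (T := ⟨_, hclosed⟩) subset_rfl hdim]
    refine Finset.sum_eq_zero fun z hz' => ?_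
    obtain ⟨hzQ, hzd⟩ := (Set.Finite.mem_toFinset _).1 hz'
    obtain ⟨w, hw, rfl⟩ := hz z hzQ
    have hpd : Main.pd k (i w) = l.length := by
      rw [Cut.dim_closure (k := k) (i w)] at hzd; exact_mod_cast hzd
    have h1 := h w hw hpd
    rw [Cut.ip, mul_eq_zero] at h1
    rw [h1.resolve_left (pow_ne_zero _ (by norm_num)), mul_zero]
  have hadd := (Additive.isAdd_sym hfin hN hl).add hS
    (Cyc.Dev.SchemeEquiv.isCoh_push i (Ample.GG.isCoh_of_isInvertible hAi))
    (Cyc.Dev.SchemeEquiv.isCoh_push i (Ample.GG.isCoh_of_isInvertible hMi)) hcohQ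
  change Vanish.sym k X N l ((Coh.push i).obj ((pb i).obj M)) =
    Vanish.sym k X N l ((Coh.push i).obj ((pb i).obj A)) + Vanish.sym k X N l Q at hadd
  rw [hQ0, add_zero] at hadd
  have e₂ : ∀ {L : X.Modules}, PicF.IsInvertible L → Nonempty
      (CohB1.tensorMod L (Cyc.closureStructureSheaf y) ≅ (Coh.push i).obj ((pb i).obj L)) := fun {L} hL =>
    ⟨(Modules.ProjFormula.projIso i (Modules.DualBasis.hasDBases_of_isFinLocFree
        (TensorMod.LocFree.of_rank (TensorMod.LocFree.of_isInvertible hL)))).app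
        (Coh.structureModule (IntMult.ptIdeal y).subscheme) ≪≫
      (Coh.push i).mapIso (rightUnit _)⟩
  obtain ⟨eA⟩ := e₂ hA
  obtain ⟨eM⟩ := e₂ hM
  rw [← Vanish.sym_of_iso l eA, ← Vanish.sym_of_iso l eM] at hadd
  simp only [Cut.ip, List.length_cons, Vanish.sym_cons, hadd]

omit hN in
theorem ip_unit {l : List X.Modules} (hl : ∀ M ∈ l, PicF.IsInvertible M) {y : X} :
    Cut.ip k N (Coh.structureModule X :: l) y = 0 := by
  simp [Cut.ip, Vanish.sym_cons, Vanish.sym_of_iso l (leftUnit (Cyc.closureStructureSheaf y))]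

end Groth.Agent.H97.IpCut
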