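import Groth.Agent.Lib.IntTheory.ProductCurves
import Groth.Agent.Lib.CurveFF.SmoothBC
import Groth.Agent.Lib.PrinParts.Finite
import Groth.Agent.Lib.Ideal.Comap
import Groth.Agent.S15990
import Groth.Agent.Lib.SurfRR.Regular

/-!
# The degree of the module of principal parts on a curve

The `n`-th neighbourhood of the diagonal is the divisor `(n+1)Δ` on the surface `X × X`; its Euler
characteristics follow from the bilinearity of the intersection number and `Δ² = 2 - 2g`.
-/

set_option autoImplicit false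
set_option linter.style.haveILetI false
universe u

open CategoryTheory CategoryTheory.Limits AlgebraicGeometry

namespace Groth.Agent.H97.JetDeg

open Groth.Agent.Lib Groth.Agent.Lib.SurfInt Groth.Agent.Lib.Snapper Groth.Agent.Lib.TensorMod.Basic

section Powers

variable {k : Type u} [Field k] {S : Scheme.{u}} [S.Over (Spec (CommRingCat.of k))] [IsNoetherian S]
  (hfin : Chi.CohFinite k S) (hd : topologicalKrullDim S ≤ 2)
  {D : S.IdealSheafData} (hD : BlowUp.IsEffCartierIdeal D)

include hfin hd hD

theorem intNum_pow {M : S.Modules} (hM : PicF.IsInvertible M) (n : ℕ) :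
    FGA.intNum k S 2 ![_root_.ClSub.idealMod (D ^ (n + 1)), M] (Coh.structureModule S) =
      (n + 1 : ℤ) * FGA.intNum k S 2 ![_root_.ClSub.idealMod D, M] (Coh.structureModule S) := by
  induction n with
  | zero => simp
  | succ n ih =>
    have hP := Ideal.EffCartier.isEffCartier_pow hD (n + 1)
    obtain ⟨e⟩ := SurfInt.Mul.nonempty_idealMod_mul hP D
    rw [pow_succ, IntNum.intNum_pair, ← IntNum.sym_cons_iso e, ← IntNum.intNum_pair,
      IntNum.intNum_pair_tensor_left hfin hd (ClSub.Cartier.isInvertible_idealMod hP)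
        (ClSub.Cartier.isInvertible_idealMod hD) hM (Twist.isCoh_structureModule S), ih]
    push_cast
    ring

/-- `χ(O_{(n+1)D}) = (n+1) χ(O_D) - C(n+1,2) (D·D)`, doubled. -/
theorem euler_quot_pow (n : ℕ) :
    2 * Curv2.euler k S (_root_.ClSub.quotMod (D ^ (n + 1))) =
      2 * (n + 1 : ℤ) * Curv2.euler k S (_root_.ClSub.quotMod D) - (n + 1 : ℤ) * n *
        FGA.intNum k S 2 ![_root_.ClSub.idealMod D, _root_.ClSub.idealMod D] (Coh.structureModule S) := by
  induction n with
  | zero => simp
  | succ n ih =>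
    have hP := Ideal.EffCartier.isEffCartier_pow hD (n + 1)
    have hPD := Ideal.EffCartier.isEffCartier_pow hD (n + 1 + 1)
    obtain ⟨e⟩ := SurfInt.Mul.nonempty_idealMod_mul hP D
    have h1 := Effective.chi_quot (d := 2) hfin hd (ClSub.Cartier.isInvertible_idealMod hP)
    have h2 := Effective.chi_quot (d := 2) hfin hd (ClSub.Cartier.isInvertible_idealMod hD)
    have h3 := Effective.chi_quot (d := 2) hfin hd (ClSub.Cartier.isInvertible_idealMod hPD)
    have h4 := intNum_pow hfin hd hD (ClSub.Cartier.isInvertible_idealMod hD) n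
    rw [IntNum.intNum_pair] at h4
    simp only [Vanish.sym] at h4
    rw [Chi.eulerCharLE_of_iso (rightUnit (_root_.ClSub.idealMod D)) 2,
      Chi.eulerCharLE_of_iso (rightUnit (_root_.ClSub.idealMod (D ^ (n + 1)))) 2,
      Chi.eulerCharLE_of_iso
        ((tensorIso (Iso.refl _) (rightUnit _) ≪≫ comm _ _ ≪≫ e) :
          CohB1.tensorMod (_root_.ClSub.idealMod D) (CohB1.tensorMod (_root_.ClSub.idealMod (D ^ (n + 1)))
            (Coh.structureModule S)) ≅ _root_.ClSub.idealMod (D ^ (n + 1) * D)) 2,
      ← pow_succ] at h4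
    simp only [← Chi.euler_eq_eulerCharLE (k := k) hd] at h1 h2 h3 h4
    push_cast
    linear_combination ih - 2 * h3 + 2 * h1 + 2 * h2 - 2 * h4

theorem euler_twist_pow {M : S.Modules} (hM : PicF.IsInvertible M) (n : ℕ) :
    Curv2.euler k S (CohB1.tensorMod M (_root_.ClSub.quotMod (D ^ (n + 1)))) =
      Curv2.euler k S (_root_.ClSub.quotMod (D ^ (n + 1))) -
        (n + 1 : ℤ) * FGA.intNum k S 2 ![_root_.ClSub.idealMod D, M] (Coh.structureModule S) := by
  have h := Effective.intNum_ideal (d := 2) hfin hd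
    (ClSub.Cartier.isInvertible_idealMod (Ideal.EffCartier.isEffCartier_pow hD (n + 1))) hM
  simp only [← Chi.euler_eq_eulerCharLE (k := k) hd] at h
  rw [intNum_pow hfin hd hD hM n] at h
  linarith

end Powers

/-- Euler characteristics of structure sheaves are invariant under isomorphisms. -/
theorem euler_structure_of_iso {k : Type u} [Field k] {C Z : Scheme.{u}}
    [C.Over (Spec (CommRingCat.of k))] [Z.Over (Spec (CommRingCat.of k))] (φ : C ⟶ Z) [IsIso φ]
    (hφ : φ ≫ (Z ↘ Spec (CommRingCat.of k)) = C ↘ Spec (CommRingCat.of k)) :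
    Curv2.euler k Z (Coh.structureModule Z) = Curv2.euler k C (Coh.structureModule C) := by
  haveI := TensorMod.QCohInv.isQCoh_structureModule C
  rw [← Push.euler_push φ hφ (Coh.structureModule C)]
  exact Curves.Euler.euler_eq_of_iso
    (@asIso _ _ _ _ (_root_.ClSub.unitToPush φ) (PushIso.isIso_unitToPush φ))

theorem comap_ker_comp_iso {A B C : Scheme.{u}} (j : A ⟶ B) (g : B ⟶ C) [IsIso g] :
    (j ≫ g).ker.comap g = j.ker := by
  have h : (j.ker.comap (inv g)).comap g = j.ker := by
    rw [← Scheme.IdealSheafData.comap_comp, IsIso.hom_inv_id, Scheme.IdealSheafData.comap_id]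
  rw [← Scheme.IdealSheafData.map_ker]
  conv_rhs => rw [← h]
  conv_lhs => rw [← h]
  exact (Scheme.IdealSheafData.map_gc g).l_u_l_eq_l _

theorem exists_subscheme_iso {B C : Scheme.{u}} (g : B ⟶ C) [IsIso g] {I : B.IdealSheafData}
    {J : C.IdealSheafData} (h : I = J.comap g) :
    ∃ φ : I.subscheme ⟶ J.subscheme, IsIso φ ∧ φ ≫ J.subschemeι = I.subschemeι ≫ g := by
  subst h
  refine ⟨(J.comapIso g).hom ≫ pullback.snd g J.subschemeι, inferInstance, ?_⟩
  rw [Category.assoc, ← pullback.condition, ← Category.assoc,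
    Scheme.IdealSheafData.comapIso_hom_fst]

theorem main (k : Type u) [Field k] (X : Scheme.{u})
    [X.Over (Spec (CommRingCat.of k))] [IsIntegral X]
    [IsProper (X ↘ (Spec (CommRingCat.of k)))] [Smooth (X ↘ (Spec (CommRingCat.of k)))]
    (hdim : topologicalKrullDim X = 1)
    (h0 : Module.finrank k (Coh.HH X (Coh.structureModule X) 0) = 1)
    (L : X.Modules) (hL : PicF.IsInvertible L) (m : ℕ) :
    Curv2.deg k X (PrinPart.PMod (X ↘ (Spec (CommRingCat.of k))) m L) (m + 1) =
      (m + 1 : ℤ) * Curv2.deg k X L 1 +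
        (2 * (Curv2.genus k X : ℤ) - 2) * ((m * (m + 1) / 2 : ℕ) : ℤ) := by
  let f : X ⟶ Spec (CommRingCat.of k) := X ↘ Spec (CommRingCat.of k)
  haveI : IsProper f := ‹IsProper (X ↘ (Spec (CommRingCat.of k)))›
  haveI : Smooth f := ‹Smooth (X ↘ (Spec (CommRingCat.of k)))›
  haveI := Curves.GlobalSections.isNoetherian_of_proper k X
  haveI h1 : SmoothOfRelativeDimension 1 f := by
    letI : (Spec (CommRingCat.of k)).Over (Spec (CommRingCat.of k)) := ⟨𝟙 _⟩
    haveI : LocallyOfFiniteType (Spec (CommRingCat.of k) ↘ Spec (CommRingCat.of k)) :=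
      inferInstanceAs (LocallyOfFiniteType (𝟙 _))
    haveI : Smooth (Spec (CommRingCat.of k) ↘ Spec (CommRingCat.of k)) :=
      inferInstanceAs (Smooth (𝟙 _))
    have hk : topologicalKrullDim (Spec (CommRingCat.of k)) = ((0 : ℕ) : WithBot ℕ∞) := by
      change topologicalKrullDim (PrimeSpectrum k) = _
      rw [PrimeSpectrum.topologicalKrullDim_eq_ringKrullDim, ringKrullDim_eq_zero_of_field]
      rfl
    exact BirMap96.SmoothCritScheme.smoothOfRelativeDimension f
      (Category.comp_id _) 1 0 (by rw [hdim]; norm_num) hk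
  let S := pullback f f
  letI iS : S.Over (Spec (CommRingCat.of k)) := ⟨pullback.fst f f ≫ f⟩
  haveI : IsProper (S ↘ Spec (CommRingCat.of k)) :=
    inferInstanceAs (IsProper (pullback.fst f f ≫ f))
  haveI := Curves.GlobalSections.isNoetherian_of_proper k S
  have hdS : topologicalKrullDim S ≤ 2 := by
    have hd : H75.VarDimX.FibDim f 1 := by
      refine H75.VarDimX.fibDim_of_fiber _ 1 fun s => ?_
      rw [FibreDim.Basic.topologicalKrullDim_fiber, Nat.cast_one, ← hdim]
      have hu : f.base ⁻¹' {s} = Set.univ :=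
        Set.eq_univ_of_forall fun z => Subsingleton.elim (α := PrimeSpectrum k) _ _
      rw [hu]
      exact (Homeomorph.Set.univ _).isHomeomorph.topologicalKrullDim_eq
    have hd' : H75.VarDimX.FibDim (pullback.fst f f) 1 :=
      hd.baseChange (IsPullback.of_hasPullback _ _).flip
    have h := H75.VarDimX.topologicalKrullDim_preimage (pullback.fst f f)
      (S ↘ Spec (CommRingCat.of k)) f rfl hd' (T := Set.univ) isClosed_univ.isLocallyClosed
    rw [Set.preimage_univ, (Homeomorph.Set.univ _).isHomeomorph.topologicalKrullDim_eq,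
      (Homeomorph.Set.univ _).isHomeomorph.topologicalKrullDim_eq, hdim] at h
    exact le_of_eq (h.trans rfl)
  -- the diagonal divisor
  let Δ : X ⟶ S := pullback.diagonal f
  have hΔc : IsClosedImmersion Δ := inferInstanceAs (IsClosedImmersion (pullback.diagonal f))
  haveI := hΔc
  haveI : SmoothOfRelativeDimension 1 (pullback.fst f f) :=
    haveI := smoothOfRelativeDimension_isStableUnderBaseChange (n := 1)
    MorphismProperty.pullback_fst (P := @SmoothOfRelativeDimension 1) f f h1
  have hD : BlowUp.IsEffCartierIdeal Δ.ker :=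
    (S15990.result (pullback.fst f f) Δ (pullback.diagonal_fst f)).1
  have hfin := Finite.cohFinite k S
  have hpair : ∀ M : S.Modules, PicF.IsInvertible M →
      FGA.intNum k S 2 ![_root_.ClSub.idealMod Δ.ker, M] (Coh.structureModule S) =
        - Curv2.deg k X ((Scheme.Modules.pullback Δ).obj M) 1 ∧
      Curv2.euler k S (_root_.ClSub.quotMod Δ.ker) = Curv2.euler k X (Coh.structureModule X) := by
    intro M hM
    letI := Surface.overSub (k := k) Δ.ker
    let t : X ⟶ Δ.ker.subscheme := Δ.toImage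
    haveI : IsIso t := inferInstanceAs (IsIso Δ.toImage)
    have ht : t ≫ Δ.ker.subschemeι = Δ := Δ.toImage_imageι
    have hover : t ≫ (Δ.ker.subscheme ↘ Spec (CommRingCat.of k)) = X ↘ Spec (CommRingCat.of k) := by
      show t ≫ Δ.ker.subschemeι ≫ pullback.fst f f ≫ f = f
      rw [← Category.assoc, ht, ← Category.assoc, pullback.diagonal_fst, Category.id_comp]
    refine ⟨?_, ?_⟩
    · rw [Surface.intNum_ideal_eq_neg_deg (d := 2) hfin hdS
        (ClSub.Cartier.isInvertible_idealMod hD) hM,
        ← PushIso.deg_pullback t hover (PicLoc.isInvertible_pullback _ hM)]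
      congr 1
      exact Curves.Euler.deg_eq_of_iso ((Scheme.Modules.pullbackComp t _).app M ≪≫
        (Scheme.Modules.pullbackCongr ht).app M) 1
    · rw [Surface.euler_quot, euler_structure_of_iso t hover]
  have hΩ := (CurveFF.SmoothBC.omega_facts (k := k) hdim h0).2
  have hself : FGA.intNum k S 2 ![_root_.ClSub.idealMod Δ.ker, _root_.ClSub.idealMod Δ.ker]
      (Coh.structureModule S) = - (2 * (Curv2.genus k X : ℤ) - 2) := by
    rw [(hpair _ (ClSub.Cartier.isInvertible_idealMod hD)).1]
    exact congrArg Neg.neg hΩ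
  let M := (Scheme.Modules.pullback (pullback.snd f f)).obj L
  have hM : PicF.IsInvertible M := PicLoc.isInvertible_pullback _ hL
  obtain ⟨hDM, hqD⟩ := hpair M hM
  let eL : (Scheme.Modules.pullback Δ).obj M ≅ L :=
    ((Scheme.Modules.pullbackComp Δ (pullback.snd f f)).app L) ≪≫
    (Scheme.Modules.pullbackCongr (pullback.diagonal_snd f)).app L ≪≫
    (Scheme.Modules.pullbackId X).app L
  rw [Curves.Euler.deg_eq_of_iso eL 1] at hDM
  have hO := Curves.Degree.euler_structureModule (k := k) hdim.le h0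
  -- the neighbourhood
  set J := Δ.ker ^ (m + 1)
  let U := Δ.coborderRange
  haveI : IsIso U.ι := by
    have hU : U = ⊤ := TopologicalSpace.Opens.ext
      (by simpa [U, Scheme.Hom.coborderRange] using Δ.isClosedEmbedding.isClosed_range.coborder_eq)
    rw [hU]; exact inferInstanceAs (IsIso S.topIso.hom)
  obtain ⟨φ, hφiso, hφ⟩ := exists_subscheme_iso U.ι
    (I := (PrinPart.diagCl f).ker ^ (m + 1)) (J := J) (by
      rw [show J = ((PrinPart.diagCl f) ≫ U.ι).ker ^ (m + 1) by
        simp only [J, PrinPart.diagCl, U, Δ, Scheme.Hom.liftCoborder_ι],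
        Ideal.Comap.comap_pow, comap_ker_comp_iso])
  haveI := hφiso
  letI iN : (PrinPart.nbhd f m).Over (Spec (CommRingCat.of k)) := ⟨PrinPart.pr1 f m ≫ f⟩
  haveI := PrinParts.isAffineHom_pr1 f m
  haveI : L.IsQuasicoherent := TensorMod.QCohInv.isQCoh_of_isInvertible hL
  haveI := QCoh.Pullback.isQCoh_pullback (PrinPart.pr2 f m) L
  have hpush : Curv2.euler k X (PrinPart.PMod f m L) =
      Curv2.euler k (PrinPart.nbhd f m) ((Scheme.Modules.pullback (PrinPart.pr2 f m)).obj L) :=
    Push.euler_push (PrinPart.pr1 f m) rfl _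
  letI := Surface.overSub (k := k) J
  have hover : φ ≫ (J.subscheme ↘ Spec (CommRingCat.of k)) =
      PrinPart.nbhd f m ↘ Spec (CommRingCat.of k) := by
    show φ ≫ J.subschemeι ≫ pullback.fst f f ≫ f = _
    rw [← Category.assoc, hφ]
    rfl
  have hiso : Curv2.euler k (PrinPart.nbhd f m) ((Scheme.Modules.pullback (PrinPart.pr2 f m)).obj L) =
      Curv2.euler k S (CohB1.tensorMod M (_root_.ClSub.quotMod J)) := by
    have hP := PicLoc.isInvertible_pullback J.subschemeι hM
    have h := PushIso.deg_pullback φ hover hP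
    let eN : (Scheme.Modules.pullback φ).obj ((Scheme.Modules.pullback J.subschemeι).obj M) ≅
        (Scheme.Modules.pullback (PrinPart.pr2 f m)).obj L :=
      (Scheme.Modules.pullbackComp φ J.subschemeι).app M ≪≫
        (Scheme.Modules.pullbackCongr hφ).app M ≪≫
        (Scheme.Modules.pullbackComp _ (pullback.snd f f)).app L
    rw [Curves.Euler.deg_eq_of_iso eN 1] at h
    rw [Surface.euler_twist_quot J hM]
    simp only [Curv2.deg, euler_structure_of_iso φ hover] at h
    linarith
  have hA := euler_quot_pow (k := k) hfin hdS hD m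
  have hB := euler_twist_pow (k := k) hfin hdS hD hM m
  have hdiv : (2 : ℤ) * ((m * (m + 1) / 2 : ℕ) : ℤ) = (m : ℤ) * (m + 1) := by
    exact_mod_cast Nat.mul_div_cancel' (Nat.even_mul_succ_self m).two_dvd
  rw [hqD, hO, hself] at hA
  rw [hDM] at hB
  show Curv2.deg k X (PrinPart.PMod f m L) (m + 1) = _
  have hPd : Curv2.deg k X (PrinPart.PMod f m L) (m + 1) =
      Curv2.euler k X (PrinPart.PMod f m L) - (m + 1 : ℤ) * Curv2.euler k X (Coh.structureModule X) := by
    simp [Curv2.deg]
  rw [hPd, hpush, hiso, hO]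
  have : (2 : ℤ) * (Curv2.euler k S (CohB1.tensorMod M (_root_.ClSub.quotMod J)) -
      (m + 1 : ℤ) * (1 - (Curv2.genus k X : ℤ))) =
      2 * ((m + 1 : ℤ) * Curv2.deg k X L 1 +
        (2 * (Curv2.genus k X : ℤ) - 2) * ((m * (m + 1) / 2 : ℕ) : ℤ)) := by
    linear_combination 2 * hB + hA - (2 * (Curv2.genus k X : ℤ) - 2) * hdiv
  linarith

end Groth.Agent.H97.JetDeg
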