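import Groth.Agent.Lib.DualAsymp96.Koszul
import Groth.Agent.Lib.Ample.Pow
import Groth.Agent.Lib.ProjKoszul.Surj
import Groth.Agent.Lib.Curves.RelSurj
import Groth.Agent.Lib.Curves.VeryAmple

/-! Castelnuovo–Mumford: surjectivity of the multiplication of sections. -/

set_option autoImplicit false
set_option linter.style.haveILetI false
universe u
open CategoryTheory CategoryTheory.Limits AlgebraicGeometry TopologicalSpace Opposite

noncomputable section

namespace Groth.Agent.H97.MulSurj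

open Groth.Agent.Lib Groth.Agent.Lib.ProjKoszul Groth.Agent.Lib.ProjKoszul.Iterate
open Groth.Agent.Lib.TensorMod Groth.Agent.Lib.TensorMod.Basic Groth.Agent.Lib.DualAsymp96 Groth.Agent.Lib.Ample.Pow
open Groth.Agent.Lib.Modules.TensorSec

variable {X : Scheme.{u}}

/-- `L^(a+q) ⊗ M^q ≅ L^a`. -/
theorem cancel {L M : X.Modules} (e : CohB1.tensorMod L M ≅ Coh.structureModule X) :
    ∀ q a : ℕ, Nonempty (CohB1.tensorMod (CohB1.tensorPow L (a + q)) (CohB1.tensorPow M q) ≅ CohB1.tensorPow L a)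
  | 0, _ => ⟨rightUnit _⟩
  | q + 1, a => by
    obtain ⟨i⟩ := cancel e q a
    exact ⟨Ample.Pow.middleFour (CohB1.tensorPow L (a + q)) L (CohB1.tensorPow M q) M ≪≫
      tensorIso i e ≪≫ rightUnit _⟩

theorem nonempty_pow_twist {P Q : X.Modules} [(tensorBy P).Additive]
    (e : CohB1.tensorMod Q P ≅ Coh.structureModule X) :
    ∀ (l j : ℕ) (Y : X.Modules), Nonempty ((Iterate.pow (tensorBy P) l).obj
      (CohB1.tensorMod Y (CohB1.tensorPow Q (j + l))) ≅ CohB1.tensorMod Y (CohB1.tensorPow Q j))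
  | 0, j, Y => ⟨Iso.refl _⟩
  | l + 1, j, Y => by
    obtain ⟨i⟩ := nonempty_pow_twist e l j Y
    exact ⟨(Iterate.pow (tensorBy P) l).mapIso
      (assoc Y (CohB1.tensorPow Q (j + (l + 1))) P ≪≫ tensorIso (Iso.refl Y)
        (assoc (CohB1.tensorPow Q (j + l)) Q P ≪≫ tensorIso (Iso.refl _) e ≪≫ rightUnit _)) ≪≫ i⟩

theorem exists_sum (R : Type u) [CommRing R] [X.Over (Spec (CommRingCat.of R))]
    {L M : X.Modules} (hL : PicF.IsInvertible L) (e : CohB1.tensorMod L M ≅ Coh.structureModule X)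
    {r : ℕ} (s : Fin (r + 1) → (Coh.structureModule X ⟶ L))
    (hs : ∀ x : X, ∃ t, x ∈ CohB1.genLocus L (s t)) (b : ℕ)
    (h₁ : ∀ q, 1 ≤ q → q ≤ r → q ≤ b → Subsingleton (Coh.HH X (CohB1.tensorPow L (b - q)) q))
    (h₂ : ∀ q, 1 ≤ q → q ≤ r → b < q → Subsingleton (Coh.HH X (CohB1.tensorPow M (q - b)) q))
    (z : Γ((tensorBy L).obj (CohB1.tensorPow L b), ⊤)) :
    z ∈ Surj.prods (CohB1.tensorPow L b) L := by
  let eML : CohB1.tensorMod M L ≅ Coh.structureModule X := comm M L ≪≫ e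
  haveI : (tensorBy L).IsEquivalence := (CategoryTheory.Equivalence.mk (tensorBy L) (tensorBy M)
      (ProjCoh.Coherent.cancelNat (comm L M ≪≫ eML)).symm
      (ProjCoh.Coherent.cancelNat eML)).isEquivalence_functor
  haveI : (tensorBy L).Additive := Functor.additive_of_preserves_binary_products _
  let N := CohB1.tensorPow L b
  let M0 := CohB1.tensorMod N (CohB1.tensorPow M r)
  obtain ⟨ez⟩ := nonempty_kos_X_iso (tensorBy L) (kμ s) M0 r 0 r 0 (by simp)
  obtain ⟨etw⟩ := nonempty_pow_twist eML r 0 N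
  haveI : Unique (Fin (Nat.choose r r)) := by rw [Nat.choose_self]; infer_instance
  let eN : ((kos (tensorBy L) (kμ s) r).obj M0).X 0 ≅ N :=
    ez ≪≫ coproductUniqueIso _ ≪≫ (Iterate.pow (tensorBy L) (0 + r)).mapIso
      (tensorIso (Iso.refl N) (powCongr M (Nat.zero_add r).symm)) ≪≫
      eqToIso (by rw [Nat.zero_add]) ≪≫ etw ≪≫ rightUnit N
  have hμ : ∀ (t : ℕ) (Y : X.Modules),
      (tensorBy L).map ((kμ s t).app Y) = (kμ s t).app ((tensorBy L).obj Y) := by
    intro t Y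
    unfold kμ
    split <;> exact Surj.mul_comm_aux hL _ Y
  obtain ⟨p, hp⟩ := exists_decomp (tensorBy L) (kμ s) hμ M0 r
  let K := kcx s M0
  have hvan : ∀ (j : ℤ) (q : ℕ), -((r + 1 : ℕ) : ℤ) ≤ j → j < -1 → (q : ℤ) = -1 - j →
      Subsingleton (Coh.HH X (K.X j) q) := by
    intro j q hj hj1 hq
    rw [← Chase.isZero_cohFun_iff R]
    refine isZero_kos_X (tensorBy L) (kμ s) (Chase.cohFun R q) M0 (r + 1) 0 j fun _ _ l hl => ?_
    rw [Chase.isZero_cohFun_iff R]
    have hlq : l + q = r := by push_cast at hl; omega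
    obtain ⟨i⟩ := nonempty_pow_twist eML l q N
    refine Chase.subsingleton_of_iso R (i.symm ≪≫ (Iterate.pow (tensorBy L) l).mapIso
      (tensorIso (Iso.refl N) (powCongr M (show q + l = r by omega)))) ?_
    rcases le_or_gt q b with hqb | hqb
    · obtain ⟨i'⟩ := cancel e q (b - q)
      exact Chase.subsingleton_of_iso R
        (i'.symm ≪≫ tensorIso (powCongr L (Nat.sub_add_cancel hqb)) (Iso.refl _))
        (h₁ q (by omega) (by omega) hqb)
    · obtain ⟨i'⟩ := cancel eML b (q - b)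
      exact Chase.subsingleton_of_iso R
        (i'.symm ≪≫ comm _ _ ≪≫ tensorIso (Iso.refl N) (powCongr M (Nat.sub_add_cancel hqb.le)))
        (h₂ q (by omega) (by omega) hqb)
  have hsur : Function.Surjective (Curves.LES.mapK R (K.d (-1) 0) 0) :=
    Chase.surjective_top R K (exactAt_kcx s hs M0) (-((r + 1 : ℕ) : ℤ))
      (fun j hj => isZero_kcx s M0 j (Or.inl hj)) (isZero_kcx s M0 _ (Or.inr (by norm_num))) hvan
  let φ := (topIso (tensorBy L) (kμ s) M0 r).inv ≫ (tensorBy L).map eN.hom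
  let ψ := (tensorBy L).map eN.inv ≫ (topIso (tensorBy L) (kμ s) M0 r).hom
  obtain ⟨w, hw⟩ := hsur ((Curves.GlobalSections.h0Equiv _).symm (ψ.app ⊤ z))
  let w' := Curves.GlobalSections.h0Equiv _ w
  have hd : (K.d (-1) 0).app ⊤ w' = ψ.app ⊤ z :=
    (Regularity.h0Equiv_mapK (R := R) _ w).symm.trans ((congrArg _ hw).trans (AddEquiv.apply_symm_apply _ _))
  have hz : (K.d (-1) 0 ≫ φ).app ⊤ w' = z := by
    change φ.app ⊤ ((K.d (-1) 0).app ⊤ w') = z
    rw [hd]
    change (ψ ≫ φ).app ⊤ z = z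
    have : ψ ≫ φ = 𝟙 _ := by
      simp only [ψ, φ, Category.assoc, Iso.hom_inv_id_assoc]
      rw [← Functor.map_comp, eN.inv_hom_id, CategoryTheory.Functor.map_id]
    rw [this]
    rfl
  have hcong : K.d (-1) 0 ≫ φ = ∑ t : Fin (r + 1), p t ≫ eN.hom ≫ (kμ s t.val).app N := by
    refine (congrArg (· ≫ φ) hp).trans ?_
    rw [Preadditive.sum_comp]
    refine Finset.sum_congr rfl fun t _ => ?_
    simp only [φ, Category.assoc, Iso.hom_inv_id_assoc]
    exact congrArg (p t ≫ ·) ((kμ s t.val).naturality eN.hom).symm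
  rw [← hz, hcong]
  refine (congrArg (· ∈ _) (map_sum (AddMonoidHom.mk' (fun f : (K.X (-1) ⟶ (tensorBy L).obj N) => f.app ⊤ w')
    fun _ _ => rfl) _ _)).mpr ?_
  refine AddSubgroup.sum_mem _ fun t _ => ?_
  have hk : kμ s t.val = UnifReg.Hyperplane.mulS (s t) := dif_pos t.isLt
  rw [hk]
  change (p t ≫ eN.hom ≫ (rightUnit N).inv ≫ tmap (𝟙 N) (s t)).app ⊤ w' ∈ _
  simp only [Scheme.Modules.Hom.comp_app, CategoryTheory.comp_apply]
  rw [Surj.rightUnit_inv_app, tmap_tens]
  exact Surj.tens_mem_prods _ _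

theorem exists_generators (k : Type u) [Field k] [X.Over (Spec (CommRingCat.of k))]
    [IsProper (X ↘ Spec (CommRingCat.of k))] {L : X.Modules} (hL : PicF.IsInvertible L)
    (hgg : Curv2.IsGloballyGenerated L) :
    ∃ (r : ℕ) (s : Fin (r + 1) → (Coh.structureModule X ⟶ L)), r ≤ Module.finrank k (Coh.HH X L 0) - 1 ∧
      ∀ x : X, ∃ t, x ∈ CohB1.genLocus L (s t) := by
  haveI : IsLocallyNoetherian X := LocallyOfFiniteType.isLocallyNoetherian (X ↘ Spec (CommRingCat.of k))
  letI := Curves.GlobalSections.secModule k L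
  haveI : Module.Finite k (L.val.obj (op ⊤) : Type u) := by
    haveI := ProperFin.Assembly.qfin_of_isCoh (A := k) Snapper.Finite.facts L
      (Curves.Degree.isCoh_of_isInvertible hL) 0
    exact Module.Finite.equiv (Curves.GlobalSections.h0Linear k L)
  let B := Module.finBasis k (L.val.obj (op ⊤) : Type u)
  have hcov := fun x => ProjMor.Sec.exists_mem_locus hL
    (Curves.VeryAmple.generatedBy_of_span (k := k) hgg (fun i => B i) B.span_eq) x
  have hn : Module.finrank k (Coh.HH X L 0) = Module.finrank k (L.val.obj (op ⊤) : Type u) :=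
    (Curves.GlobalSections.h0Linear k L).finrank_eq
  rcases Nat.eq_zero_or_pos (Module.finrank k (L.val.obj (op ⊤) : Type u)) with h0 | h0
  · exact ⟨0, fun _ => 0, Nat.zero_le _, fun x => (Fin.cast h0 (hcov x).choose).elim0⟩
  · obtain ⟨d, hd⟩ := Nat.exists_eq_succ_of_ne_zero h0.ne'
    refine ⟨d, fun i => Modules.Free.unitHom L (B (Fin.cast hd.symm i)), by omega, fun x => ?_⟩
    obtain ⟨i, hi⟩ := hcov x
    exact ⟨Fin.cast hd i, hi⟩

end Groth.Agent.H97.MulSurj
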