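import Groth.Agent.Lib.SurfInt.Div
import Groth.Agent.Lib.SurfInt.GGAmple
import Groth.Agent.Lib.SurfInt.Pencil
import Groth.Agent.Lib.SurfInt.ProjSurf
import Groth.Agent.Lib.SurfInt.CurvePos
import Groth.Agent.Lib.CohDelta.ProjChi.Main
import Groth.Agent.Lib.Cyc.PP.GysPush
import Groth.Agent.Lib.ModelFibre.StalkIdeal
import Groth.Agent.Lib.SmoothCurve.Curve
import Groth.Agent.Lib.ProjSpace.SmoothDimEq
import Mathlib.RingTheory.Nakayama
import Mathlib.RingTheory.Ideal.KrullsHeightTheorem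

/-! A hyperplane through a point of multiplicity `m` of a curve. -/

set_option autoImplicit false
set_option linter.style.haveILetI false
universe u
open CategoryTheory CategoryTheory.Limits AlgebraicGeometry TopologicalSpace Opposite

noncomputable section

namespace Groth.Agent.H97.MultDeg

open Groth.Agent.Lib Groth.Agent.Lib.Modules
open Groth.Agent.Lib.Ideal.Prime (stalkIdeal stalkIdeal_eq)
open Groth.Agent.Lib.Ample.GenLocus (exists_coord genLocus_inf_eq exists_hom_of_sec rs_sv sv_eq_val)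

open IsLocalRing in
theorem not_pow_le {R : Type u} [CommRing R] [IsLocalRing R] [IsNoetherianRing R]
    (hd : (2 : WithBot ℕ∞) ≤ ringKrullDim R) {h : R} (hh : h ∈ maximalIdeal R) (i : ℕ) :
    ¬ (maximalIdeal R ^ i ≤ maximalIdeal R ^ (i + 1) ⊔ _root_.Ideal.span {h}) := by
  intro hle
  have h1 : maximalIdeal R ^ i ≤ _root_.Ideal.span {h} := by
    refine Submodule.le_of_le_smul_of_le_jacobson_bot (I := maximalIdeal R) (IsNoetherian.noetherian _)
      (jacobson_eq_maximalIdeal ⊥ bot_ne_top).ge ?_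
    rw [smul_eq_mul, ← pow_succ']
    rwa [sup_comm]
  have hmin : maximalIdeal R ∈ (_root_.Ideal.span {h}).minimalPrimes :=
    ⟨⟨inferInstance, (_root_.Ideal.span_singleton_le_iff_mem _).2 hh⟩, fun q hq _ =>
      hq.1.le_of_pow_le (h1.trans hq.2)⟩
  haveI : (_root_.Ideal.span {h}).IsPrincipal := ⟨⟨h, rfl⟩⟩
  have h2 := _root_.Ideal.height_le_one_of_isPrincipal_of_mem_minimalPrimes _ _ hmin
  rw [← IsLocalRing.maximalIdeal_height_eq_ringKrullDim] at hd
  exact absurd (WithBot.coe_le_coe.1 (hd.trans (WithBot.coe_le_coe.2 h2))) (by decide)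

open IsLocalRing in
theorem eq_zero_of_sum_mem {R : Type u} [CommRing R] [IsLocalRing R] [IsNoetherianRing R]
    {k : Type u} [Field k] (κ : k →+* R) {h : R} {m : ℕ} (r : Fin m → R)
    (hr : ∀ i : Fin m, r i ∈ maximalIdeal R ^ (i : ℕ))
    (hr' : ∀ i : Fin m, r i ∉ maximalIdeal R ^ ((i : ℕ) + 1) ⊔ _root_.Ideal.span {h}) (g : Fin m → k)
    (hg : ∑ i, κ (g i) * r i ∈ maximalIdeal R ^ m ⊔ _root_.Ideal.span {h}) : ∀ i, g i = 0 := by
  intro i
  induction i using (wellFounded_lt (α := Fin m)).induction with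
  | _ i ih =>
  by_contra hi
  have hle : ∀ {a b : ℕ}, a ≤ b → maximalIdeal R ^ b ⊔ _root_.Ideal.span {h} ≤
      maximalIdeal R ^ a ⊔ _root_.Ideal.span {h} := fun hab =>
    sup_le_sup_right (_root_.Ideal.pow_le_pow_right hab) _
  have hrest : ∑ j ∈ Finset.univ.erase i, κ (g j) * r j ∈
      maximalIdeal R ^ ((i : ℕ) + 1) ⊔ _root_.Ideal.span {h} := by
    refine Submodule.sum_mem _ fun j hj => ?_
    rcases lt_trichotomy j i with hlt | heq | hgt
    · rw [ih j hlt, map_zero, zero_mul]; exact zero_mem _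
    · exact absurd heq (Finset.ne_of_mem_erase hj)
    · exact _root_.Ideal.mul_mem_left _ _
        ((hle (Nat.succ_le_of_lt (Fin.lt_def.1 hgt))) (Submodule.mem_sup_left (hr j)))
  have h1 := sub_mem (hle (Nat.succ_le_of_lt i.2) hg) hrest
  rw [← Finset.add_sum_erase _ _ (Finset.mem_univ i), add_sub_cancel_right] at h1
  exact hr' i ((_root_.Ideal.unit_mul_mem_iff_mem _ ((isUnit_iff_ne_zero.2 hi).map κ)).1 h1)

theorem exists_pullback_section {X Y : Scheme.{u}} (f : X ⟶ Y) {L : Y.Modules} (hL : PicF.IsInvertible L)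
    (t : Coh.structureModule Y ⟶ L) {z : X} (hz : f z ∈ CohB1.genLocus L t) :
    ∃ t' : Coh.structureModule X ⟶ (Scheme.Modules.pullback f).obj L, z ∈ CohB1.genLocus _ t' := by
  refine ⟨(PicLoc.pullbackStructureIso f).symm.hom ≫ (Scheme.Modules.pullback f).map t, ?_⟩
  rw [Ample.GenLocus.genLocus_pullback f hL t (PicLoc.pullbackStructureIso f).symm]
  exact hz

variable {k : Type u} [Field k]

theorem le_deg {S C : Scheme.{u}} [S.Over (Spec (CommRingCat.of k))] [C.Over (Spec (CommRingCat.of k))]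
    [IsIntegral C] [IsProper (C ↘ Spec (CommRingCat.of k))] [IsLocallyNoetherian S]
    (hdim : topologicalKrullDim C ≤ 1) (j : C ⟶ S) [IsClosedImmersion j]
    (hj : j ≫ (S ↘ Spec (CommRingCat.of k)) = C ↘ Spec (CommRingCat.of k))
    {L : C.Modules} (hL : PicF.IsInvertible L) {s : Coh.structureModule C ⟶ L} (hs : s ≠ 0)
    (P : C) (hP : P ∉ CohB1.genLocus L s) (hd : (2 : WithBot ℕ∞) ≤ ringKrullDim (S.presheaf.stalk (j P)))
    (m : ℕ) (hm : RingHom.ker (j.stalkMap P).hom ≤ IsLocalRing.maximalIdeal _ ^ m) :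
    (m : ℤ) ≤ Curv2.deg k C L 1 := by
  haveI := Curves.GlobalSections.noetherianSpace_of_proper k C
  have gO := Curves.Degree.isGood_structureModule (k := k) (X := C) hdim
  have gL := Curves.Degree.isGood (k := k) hdim hL
  have hO := PicLoc.isInvertible_structureModule C
  obtain ⟨gQ, hdeg⟩ := Curves.Positivity.deg_add_hdim_cokernel hdim hO hL gO gL hs
  rw [hdeg, Curves.Degree.deg_structureModule, zero_add]
  obtain ⟨F, hPF, a, -, -, hval⟩ := SurfInt.Div.exists_frame_zeroScheme hL s hs P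
  let e := L.presheaf.germ F.V.1 P hPF F.e
  let c := C.presheaf.germ F.V.1 P hPF a
  have hc : ¬ IsUnit c := fun hu => hP
    ((genLocus_inf_eq F.he s hval).ge ((Scheme.mem_basicOpen _ _ P hPF).2 hu)).1
  have hone : SurfInt.Div.germOne L s P = c • e := by
    rw [SurfInt.Div.germOne_eq L s hPF, hval, StalkModule.germ_smul]
  obtain ⟨-, hfree⟩ := SurfInt.Div.span_germ_eq_top F.he hPF
  let φ := (j.stalkMap P).hom
  have hφ : Function.Surjective φ := j.stalkMap_surjective P
  obtain ⟨h, hh⟩ := hφ c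
  have hhm : h ∈ IsLocalRing.maximalIdeal (S.presheaf.stalk (j P)) :=
    fun hu => hc (hh ▸ hu.map φ)
  let Q := cokernel s
  let π := StalkModule.stalkMapₗ (cokernel.π s) P
  have hker : ∀ r : S.presheaf.stalk (j P), π (φ r • e) = 0 →
      r ∈ IsLocalRing.maximalIdeal _ ^ m ⊔ _root_.Ideal.span {h} := by
    intro r hr
    have hex := (Stalk.exact_iff_stalk (ShortComplex.mk s (cokernel.π s) (cokernel.condition s))).mp
      (ShortComplex.exact_cokernel s) P
    rw [ShortComplex.ab_exact_iff_function_exact] at hex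
    obtain ⟨t, ht⟩ := (SurfInt.Div.range_stalk_section L s P _).1 ((hex _).1 hr)
    rw [hone, ← mul_smul] at ht
    have h0 : φ r - t * c = 0 := hfree _ (by rw [sub_smul, ht, sub_self])
    obtain ⟨t, rfl⟩ := hφ t
    rw [← hh, ← map_mul, ← map_sub] at h0
    rw [show r = (r - t * h) + t * h from (sub_add_cancel _ _).symm]
    exact Submodule.add_mem_sup (hm h0) (_root_.Ideal.mul_mem_left _ _ (_root_.Ideal.mem_span_singleton_self h))
  let κ : k →+* S.presheaf.stalk (j P) :=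
    ((S.presheaf.germ ⊤ (j P) trivial).hom).comp (Coh.toGlobal (S ↘ Spec (CommRingCat.of k)))
  have hκ : ∀ a : k, φ (κ a) = C.presheaf.germ ⊤ P trivial (Coh.toGlobal (C ↘ Spec (CommRingCat.of k)) a) := by
    intro a
    change (j.stalkMap P).hom ((S.presheaf.germ ⊤ (j P) trivial).hom _) = _
    rw [Scheme.Hom.germ_stalkMap_apply, ← hj]
    rfl
  choose r hr hr' using fun i : Fin m => SetLike.not_le_iff_exists.1 (not_pow_le hd hhm (i : ℕ))
  have hflasque : TopCat.Presheaf.IsFlasque (Coh.toAb Q).obj :=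
    (Curves.Positivity.isTorsion_cokernel hO hL hs).flasque hdim
  have hlift : ∀ v : Q.presheaf.stalk P, ∃ u : Γ(Q, ⊤), Q.presheaf.germ ⊤ P trivial u = v := by
    intro v
    obtain ⟨W, hW, w, rfl⟩ := TopCat.Presheaf.exists_germ_eq Q.presheaf v
    obtain ⟨u, hu⟩ := (AddCommGrpCat.epi_iff_surjective _).1
      (hflasque.epi (homOfLE (le_top : W ≤ ⊤)).op) w
    exact ⟨u, by rw [← TopCat.Presheaf.germ_res_apply Q.presheaf (homOfLE le_top) P hW u]; exact congrArg _ hu⟩
  choose v hv using fun i => hlift (π (φ (r i) • e))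
  letI := Curves.GlobalSections.secModule k Q
  haveI := gQ.fin₀
  haveI : Module.Finite k (Q.val.obj (op ⊤) : Type u) :=
    Module.Finite.equiv (Curves.GlobalSections.h0Linear k Q)
  have hli : LinearIndependent k (M := (Q.val.obj (op ⊤) : Type u)) v := by
    rw [Fintype.linearIndependent_iff]
    intro g hg
    refine eq_zero_of_sum_mem κ r hr hr' g (hker _ ?_)
    have h1 := congrArg (Q.presheaf.germ ⊤ P trivial) hg
    erw [map_zero, map_sum] at h1
    refine Eq.trans ?_ h1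
    rw [map_sum, Finset.sum_smul, map_sum]
    refine Finset.sum_congr rfl fun i _ => ?_
    rw [map_mul, mul_smul, map_smul, ← hv i, hκ]
    exact (StalkModule.germ_smul _ _ _).symm
  have := hli.fintype_card_le_finrank
  rw [Fintype.card_fin, ← (Curves.GlobalSections.h0Linear k Q).finrank_eq] at this
  exact_mod_cast this

/-- A section vanishing at a rational point and not at another. -/
theorem exists_section {C : Scheme.{u}} [C.Over (Spec (CommRingCat.of k))] {L : C.Modules}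
    (hL : PicF.IsInvertible L) {x y : C}
    (hres : Function.Surjective fun a : k => C.residue x (SmoothCurve.Curve.stalkConst (C ↘ Spec (CommRingCat.of k)) x a))
    (t₀ t₁ : Coh.structureModule C ⟶ L) (hx₀ : x ∈ CohB1.genLocus L t₀) (hy₀ : y ∉ CohB1.genLocus L t₀)
    (hy₁ : y ∈ CohB1.genLocus L t₁) :
    ∃ s : Coh.structureModule C ⟶ L, x ∉ CohB1.genLocus L s ∧ y ∈ CohB1.genLocus L s := by
  obtain ⟨U, e, hxU, he⟩ := TensorMod.Gen.isInvertible_iff.1 hL x
  obtain ⟨V, f, hyV, hf⟩ := TensorMod.Gen.isInvertible_iff.1 hL y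
  obtain ⟨a₀, ha₀⟩ := exists_coord he (SecTwist.val t₀ U)
  obtain ⟨a₁, ha₁⟩ := exists_coord he (SecTwist.val t₁ U)
  obtain ⟨b₀, hb₀⟩ := exists_coord hf (SecTwist.val t₀ V)
  obtain ⟨b₁, hb₁⟩ := exists_coord hf (SecTwist.val t₁ V)
  have u₀ : IsUnit (C.presheaf.germ U x hxU a₀) :=
    (Scheme.mem_basicOpen _ _ x hxU).1 ((genLocus_inf_eq he t₀ ha₀).le ⟨hx₀, hxU⟩)
  obtain ⟨lam, hlam⟩ := hres (- C.residue x (C.presheaf.germ U x hxU a₁) * (C.residue x (C.presheaf.germ U x hxU a₀))⁻¹)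
  let γ : Γ(C, ⊤) := Coh.toGlobal (C ↘ Spec (CommRingCat.of k)) lam
  obtain ⟨s, hs⟩ := exists_hom_of_sec (L := L)
    (SecTwist.val t₁ ⊤ + γ • SecTwist.val t₀ ⊤)
  have hsv : ∀ W : C.Opens, SecTwist.val s W = SecTwist.val t₁ W +
      C.presheaf.map (homOfLE (le_top : W ≤ ⊤)).op γ • SecTwist.val t₀ W := by
    intro W
    rw [← sv_eq_val, ← rs_sv s le_top, hs]
    refine ((L.presheaf.map (homOfLE (le_top : W ≤ ⊤)).op).hom.map_add _ _).trans ?_
    exact congrArg₂ (· + ·) (rs_sv t₁ le_top) ((TensorMod.Dual.rs_smul L (le_top : W ≤ ⊤) γ _).trans (congrArg _ (rs_sv t₀ le_top)))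
  refine ⟨s, ?_, ?_⟩
  · intro hxs
    have ha : SecTwist.val s U = (a₁ + C.presheaf.map (homOfLE (le_top : U ≤ ⊤)).op γ * a₀) • e := by
      rw [hsv, ha₀, ha₁, add_smul, mul_smul]; rfl
    have hu := (Scheme.mem_basicOpen _ _ x hxU).1 ((genLocus_inf_eq he s ha).le ⟨hxs, hxU⟩)
    refine (IsLocalRing.residue_ne_zero_iff_isUnit _).2 hu ?_
    change C.residue x _ = 0
    rw [map_add, map_mul, map_add, map_mul, TopCat.Presheaf.germ_res_apply]
    have hl : C.residue x (C.presheaf.germ ⊤ x trivial γ) = _ := hlam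
    have hne : C.residue x (C.presheaf.germ U x hxU a₀) ≠ 0 := (IsLocalRing.residue_ne_zero_iff_isUnit _).2 u₀
    rw [hl, inv_mul_cancel_right₀ hne, add_neg_cancel]
  · have hb : SecTwist.val s V = (b₁ + C.presheaf.map (homOfLE (le_top : V ≤ ⊤)).op γ * b₀) • f := by
      rw [hsv, hb₀, hb₁, add_smul, mul_smul]; rfl
    refine ((genLocus_inf_eq hf s hb).ge ((Scheme.mem_basicOpen _ _ y hyV).2 ?_)).1
    rw [map_add, map_mul]
    have v₁ : IsUnit (C.presheaf.germ V y hyV b₁) :=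
      (Scheme.mem_basicOpen _ _ y hyV).1 ((genLocus_inf_eq hf t₁ hb₁).le ⟨hy₁, hyV⟩)
    by_contra hn
    have v₀ : ¬ IsUnit (C.presheaf.germ V y hyV b₀) := fun hu =>
      hy₀ ((genLocus_inf_eq hf t₀ hb₀).ge ((Scheme.mem_basicOpen _ _ y hyV).2 hu)).1
    exact (IsLocalRing.mem_maximalIdeal _).1 ((Submodule.add_mem_iff_left _
      (_root_.Ideal.mul_mem_left _ _ ((IsLocalRing.mem_maximalIdeal _).2 v₀))).1
        ((IsLocalRing.mem_maximalIdeal _).2 hn)) v₁

theorem mult_le_deg [IsAlgClosed k] (S : Scheme.{u}) [S.Over (Spec (CommRingCat.of k))] [IsIntegral S]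
    [SmoothOfRelativeDimension 2 (S ↘ Spec (CommRingCat.of k))]
    (n : ℕ) (ι : S ⟶ CohB1.ProjSpace n k) [IsClosedImmersion ι]
    (hι : ι ≫ CohB1.ProjSpace.toSpec n k = S ↘ Spec (CommRingCat.of k))
    (C : Scheme.{u}) [C.Over (Spec (CommRingCat.of k))] [IsIntegral C] (hdimC : topologicalKrullDim ↥C = 1)
    (j : C ⟶ S) [IsClosedImmersion j] (hj : j ≫ (S ↘ Spec (CommRingCat.of k)) = C ↘ Spec (CommRingCat.of k))
    (P : ↥S) (hP : IsClosed ({P} : Set ↥S)) (m : ℕ)
    (hm : j.ker ≤ Scheme.IdealSheafData.vanishingIdeal ⟨{P}, hP⟩ ^ m) :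
    (m : ℤ) ≤ Curv2.deg k C ((Scheme.Modules.pullback j).obj
      ((Scheme.Modules.pullback ι).obj (Twist.twistProjSpace n k 1))) 1 := by
  haveI := SurfInt.ProjSurf.isProper (k := k) ι hι
  haveI : IsProper (C ↘ Spec (CommRingCat.of k)) := hj ▸ inferInstance
  haveI := Curves.GlobalSections.isNoetherian_of_proper k S
  haveI := Curves.GlobalSections.noetherianSpace_of_proper k C
  have hH := SurfInt.ProjSurf.isAmple (k := k) ι
  have hA := Ample.Pullback.isAmple_pullback j (Ample.Pullback.isQuasiAffine_of_isAffineHom j) hH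
  have hL := hA.1
  have hpos := SurfInt.CurvePos.deg_pos_of_isAmple (k := k) hdimC hA
  rcases Nat.eq_zero_or_pos m with rfl | hm0
  · exact_mod_cast hpos.le
  have hle : j.ker ≤ Scheme.IdealSheafData.vanishingIdeal ⟨{P}, hP⟩ := by
    refine hm.trans fun U => ?_
    rw [Scheme.IdealSheafData.ideal_pow, Pi.pow_apply]
    exact _root_.Ideal.pow_le_self hm0.ne'
  have hPr : P ∈ Set.range j := by
    have h1 : P ∈ (Scheme.IdealSheafData.vanishingIdeal ⟨{P}, hP⟩).support :=
      Scheme.IdealSheafData.le_support_iff_le_vanishingIdeal.mpr le_rfl rfl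
    have h2 := Scheme.IdealSheafData.support_antitone hle h1
    rw [← SetLike.mem_coe, Scheme.Hom.support_ker, j.isClosedEmbedding.isClosed_range.closure_eq] at h2
    exact h2
  obtain ⟨p, rfl⟩ := hPr
  have hp : IsClosed ({p} : Set C) := by
    rw [← j.isClosedEmbedding.injective.preimage_image {p}, Set.image_singleton]
    exact hP.preimage j.continuous
  let P1 := Twist.twistProjSpace n k 1
  have hP1 : PicF.IsInvertible P1 := (HProj.QuasiProj.isAmple_twist_projSpace n k).1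
  have hsec : ∀ z : C, ∃ t : Coh.structureModule C ⟶ (Scheme.Modules.pullback j).obj
      ((Scheme.Modules.pullback ι).obj P1), z ∈ CohB1.genLocus _ t := by
    intro z
    obtain ⟨t, ht⟩ := ProjKoszul.Mult.exists_mem_chart (n := n) (R := k) (ι (j z))
    obtain ⟨t', ht'⟩ := exists_pullback_section ι (z := j z) hP1 _ (CohDelta.ProjChi.mem_genLocus_sect ht)
    exact exists_pullback_section j hH.1 t' ht'
  obtain ⟨t₀, ht₀⟩ := hsec p
  obtain ⟨q, hq⟩ := (Set.ne_univ_iff_exists_notMem _).1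
    (fun h => SurfInt.GGAmple.genLocus_ne_top (k := k) hdimC hA t₀ (Opens.ext h))
  obtain ⟨t₁, ht₁⟩ := hsec q
  obtain ⟨s, hsp, hsq⟩ := exists_section hL
    (SmoothCurve.Curve.residue_stalkConst_surjective (C ↘ Spec (CommRingCat.of k)) hp) t₀ t₁ ht₀ hq ht₁
  refine le_deg hdimC.le j hj hL (H97.CurvePositivity.ne_zero_of_mem_genLocus hL hsq) p hsp ?_ m ?_
  · rw [ProjSpace.SmoothDimEq.ringKrullDim_stalk_closed k (S ↘ Spec (CommRingCat.of k)) 2 hP]
    norm_num
  · intro r hr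
    obtain ⟨U, hU, hpU, -⟩ := exists_isAffineOpen_mem_and_subset (show j p ∈ (⊤ : S.Opens) from trivial)
    rw [Cyc.PP.GysPush.ker_stalkMap_eq j ⟨U, hU⟩ p hpU, ← stalkIdeal_eq _ ⟨U, hU⟩ hpU] at hr
    have h1 : stalkIdeal j.ker (j p) ≤ stalkIdeal (Scheme.IdealSheafData.vanishingIdeal ⟨{j p}, hP⟩ ^ m) (j p) := by
      rw [stalkIdeal_eq _ ⟨U, hU⟩ hpU, stalkIdeal_eq _ ⟨U, hU⟩ hpU]
      exact _root_.Ideal.map_mono (hm ⟨U, hU⟩)
    rw [ModelFibre.StalkIdeal.stalkIdeal_pow] at h1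
    refine _root_.Ideal.pow_right_mono (IsLocalRing.le_maximalIdeal fun ht => ?_) m (h1 hr)
    exact (ModelFibre.StalkIdeal.stalkIdeal_eq_top_iff _ _).1 ht (Scheme.IdealSheafData.le_support_iff_le_vanishingIdeal.mpr le_rfl rfl)

end Groth.Agent.H97.MultDeg
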