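import Groth.Agent.Lib.MultiBound96.ZTwist
import Groth.Agent.Lib.SurfInt.ProjSurf

/-! A bound on the cohomology of integral multi-twists. -/

set_option autoImplicit false
set_option linter.style.haveILetI false
universe u
open CategoryTheory CategoryTheory.Limits AlgebraicGeometry TopologicalSpace

noncomputable section

namespace Groth.Agent.H97.MultiBd

open Groth.Agent.Lib Groth.Agent.Lib.MultiBound96 Groth.Agent.Lib.PosLin.CohBound
open Groth.Agent.Lib.TensorMod.Basic (comm assoc tensorIso leftUnit rightUnit)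

variable {X : Scheme.{u}} {r : ℕ}

/-- `⊗ L_j^{a_j}`. -/
def G (L M : Fin r → X.Modules) (a : Fin r → ℤ) : X.Modules :=
  CohB1.tensorMod (FGA.multiTwist L fun j => (a j).toNat) (FGA.multiTwist M fun j => (-(a j)).toNat)

theorem multiTwist_zero (L : Fin r → X.Modules) :
    Nonempty (FGA.multiTwist L (fun _ => 0) ≅ Coh.structureModule X) := by
  suffices h : ∀ l : List (Fin r), Nonempty (FGA.tensorList (l.map fun i => CohB1.tensorPow (L i) 0) ≅
      Coh.structureModule X) from h _
  intro l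
  induction l with
  | nil => exact ⟨Iso.refl _⟩
  | cons i l ih =>
    obtain ⟨e⟩ := ih
    exact ⟨tensorIso (Iso.refl _) e ≪≫ rightUnit _⟩

theorem iso_G {L M : Fin r → X.Modules} (hM : ∀ j, ClSub.IsInverseOf (L j) (M j))
    (F : (Fin r → ℤ) → X.Modules) (hF0 : Nonempty (F 0 ≅ Coh.structureModule X))
    (hF : ∀ (a : Fin r → ℤ) (j : Fin r), Nonempty (F (a + Pi.single j 1) ≅ CohB1.tensorMod (F a) (L j))) :
    ∀ (a : Fin r → ℤ), Nonempty (F a ≅ G L M a) := by
  classical
  intro a
  induction hn : absSum a using Nat.strong_induction_on generalizing a with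
  | _ n ih =>
  by_cases ha : a = 0
  · subst ha
    obtain ⟨e₀⟩ := hF0
    obtain ⟨e₁⟩ := multiTwist_zero (X := X) L
    obtain ⟨e₂⟩ := multiTwist_zero (X := X) M
    exact ⟨e₀ ≪≫ (rightUnit _).symm ≪≫ (tensorIso e₁ e₂).symm ≪≫
      eqToIso (congrArg₂ CohB1.tensorMod (congrArg (FGA.multiTwist L) (funext fun j => by simp))
        (congrArg (FGA.multiTwist M) (funext fun j => by simp)))⟩
  obtain ⟨j, hj⟩ := Function.ne_iff.1 ha
  simp only [Pi.zero_apply] at hj
  let s : ℤ := if 0 < a j then 1 else -1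
  let b : Fin r → ℤ := a - Pi.single j s
  have hlt : absSum b < absSum a := by
    refine Finset.sum_lt_sum (fun i _ => ?_) ⟨j, Finset.mem_univ _, ?_⟩
    · by_cases hi : i = j
      · subst hi; simp only [b, s, Pi.sub_apply, Pi.single_eq_same]; split <;> omega
      · simp [b, Pi.single_eq_of_ne hi]
    · simp only [b, s, Pi.sub_apply, Pi.single_eq_same]; split <;> omega
  obtain ⟨e⟩ := ih _ (hn ▸ hlt) b rfl
  rcases lt_or_gt_of_ne hj with hneg | hpos
  · have hs : s = -1 := if_neg (by omega)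
    have hb : b = a + Pi.single j 1 := by
      simp only [b, hs, Pi.single_neg, sub_neg_eq_add]
    obtain ⟨f⟩ := hF a j
    rw [← hb] at f
    obtain ⟨m⟩ := exists_multiTwist_bump M (fun i => (-(b i)).toNat) j 1
    obtain ⟨i'⟩ := hM j
    have hu : Function.update (fun i => (-(b i)).toNat) j ((-(b j)).toNat + 1) = fun i => (-(a i)).toNat := by
      funext i
      by_cases hi : i = j
      · subst hi; simp [hb]; omega
      · simp [hb, Function.update_of_ne hi, Pi.single_eq_of_ne hi]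
    have hl : (fun i => (b i).toNat) = fun i => (a i).toNat := by
      funext i
      by_cases hi : i = j
      · subst hi; simp [hb]; omega
      · simp [hb, Pi.single_eq_of_ne hi]
    rw [hu] at m
    exact ⟨(rightUnit _).symm ≪≫ tensorIso (Iso.refl (F a)) i'.symm ≪≫ (assoc _ _ _).symm ≪≫
      tensorIso (f.symm ≪≫ e) (Iso.refl _) ≪≫ assoc _ _ _ ≪≫
      tensorIso (eqToIso (congrArg (FGA.multiTwist L) hl))
        (comm _ _ ≪≫ tensorIso (leftUnit _).symm (Iso.refl _) ≪≫ m.symm)⟩
  · have hs : s = 1 := if_pos hpos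
    have hb : a = b + Pi.single j 1 := by simp only [b, hs, sub_add_cancel]
    obtain ⟨f⟩ := hF b j
    rw [← hb] at f
    obtain ⟨m⟩ := exists_multiTwist_bump L (fun i => (b i).toNat) j 1
    have hu : Function.update (fun i => (b i).toNat) j ((b j).toNat + 1) = fun i => (a i).toNat := by
      funext i
      by_cases hi : i = j
      · subst hi; simp [b, hs]; omega
      · simp [b, Function.update_of_ne hi, Pi.single_eq_of_ne hi]
    have hl : (fun i => (-(b i)).toNat) = fun i => (-(a i)).toNat := by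
      funext i
      by_cases hi : i = j
      · subst hi; simp [b, hs]; omega
      · simp [b, Pi.single_eq_of_ne hi]
    rw [hu] at m
    exact ⟨f ≪≫ tensorIso e (Iso.refl _) ≪≫ comm _ _ ≪≫ (assoc _ _ _).symm ≪≫
      tensorIso (tensorIso (leftUnit _).symm (Iso.refl _) ≪≫ m.symm) (eqToIso (congrArg (FGA.multiTwist M) hl))⟩

theorem exists_bound_ztwist {k : Type u} [Field k] [X.Over (Spec (CommRingCat.of k))]
    [IsProper (X ↘ Spec (CommRingCat.of k))] {A : X.Modules} (hA : CohB1.IsAmple A) {d : ℕ}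
    (hd : topologicalKrullDim X ≤ d) {L M : Fin r → X.Modules} (hL : ∀ j, PicF.IsInvertible (L j))
    (hM : ∀ j, ClSub.IsInverseOf (L j) (M j)) :
    ∃ K : ℕ → ℕ, ∀ (i : ℕ) (a : Fin r → ℤ),
      Module.finrank k (Coh.HH X (G L M a) i) ≤ K i * (absSum a + 1) ^ d := by
  have hO : Coh.IsCoh (Coh.structureModule X) :=
    Ample.GG.isCoh_of_isInvertible (PicLoc.isInvertible_structureModule X)
  have hp : ∀ x ∈ CohB1.support (Coh.structureModule X),
      VarDim.Basic.pdim (X ↘ Spec (CommRingCat.of k)) x < d + 1 := fun x _ => Nat.lt_succ_of_le (by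
    have h := (VarDim.Basic.pdim_le_topologicalKrullDim (X ↘ Spec (CommRingCat.of k))
      isClosed_univ.isLocallyClosed (Set.mem_univ x)).trans ((topologicalKrullDim_subspace_le X _).trans hd)
    exact_mod_cast h)
  choose K _ hK using fun i => exists_bound (k := k) hA (isInvertible_append hL hM) (d + 1)
    (Coh.structureModule X) hO hp i
  refine ⟨K, fun i a => ?_⟩
  obtain ⟨e⟩ := exists_multiTwist_append L M (fun j => (a j).toNat) (fun j => (-(a j)).toNat)
  have h := hK i (Fin.append (fun j => (a j).toNat) (fun j => (-(a j)).toNat))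
  refine le_trans (le_of_eq (hd_congr (k := k) (e.symm ≪≫ (rightUnit _).symm) i)) (h.trans (le_of_eq ?_))
  rw [sum_append, ← Finset.sum_add_distrib]
  congr 3
  · exact Finset.sum_congr rfl fun j _ => by omega

theorem main {k : Type u} [Field k] [X.Over (Spec (CommRingCat.of k))]
    [IsProper (X ↘ Spec (CommRingCat.of k))] {A : X.Modules} (hA : CohB1.IsAmple A) {d : ℕ}
    (hd : topologicalKrullDim X ≤ d) {L : Fin r → X.Modules} (hL : ∀ j, PicF.IsInvertible (L j))
    (F : (Fin r → ℤ) → X.Modules) (hF0 : Nonempty (F 0 ≅ Coh.structureModule X))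
    (hF : ∀ (a : Fin r → ℤ) (j : Fin r), Nonempty (F (a + Pi.single j 1) ≅ CohB1.tensorMod (F a) (L j))) :
    ∃ C : ℝ, 0 < C ∧ ∀ (i : ℕ) (a : Fin r → ℤ),
      (Module.finrank k (Coh.HH X (F a) i) : ℝ) ≤ C * (1 + (∑ j, |(a j : ℝ)|) ^ d) := by
  let M : Fin r → X.Modules := fun j => TensorMod.Dual.dual (L j)
  have hM : ∀ j, ClSub.IsInverseOf (L j) (M j) := fun j => ⟨TensorMod.Invertible.tensorDualIso (hL j)⟩
  obtain ⟨K, hK⟩ := exists_bound_ztwist (k := k) hA hd hL hM
  haveI := Curves.GlobalSections.noetherianSpace_of_proper k X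
  refine ⟨((∑ i ∈ Finset.range (d + 1), K i : ℕ) : ℝ) * 2 ^ d + 1, by positivity, fun i a => ?_⟩
  obtain ⟨e⟩ := iso_G hM F hF0 hF a
  rw [(Curves.LES.isoK k e i).finrank_eq]
  by_cases hi : i ≤ d
  swap
  · haveI : Subsingleton (Coh.HH X (G L M a) i) := Snapper.Chi.subsingleton_HH_of_lt hd _ (by omega)
    rw [Module.finrank_zero_of_subsingleton, Nat.cast_zero]
    positivity
  have h1 : (Module.finrank k (Coh.HH X (G L M a) i) : ℝ) ≤ (K i : ℝ) * ((absSum a : ℝ) + 1) ^ d := by
    exact_mod_cast hK i a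
  have hx : (absSum a : ℝ) = ∑ j, |(a j : ℝ)| := by
    rw [absSum, Nat.cast_sum]
    exact Finset.sum_congr rfl fun j _ => by rw [Nat.cast_natAbs, Int.cast_abs]
  rw [hx] at h1
  refine h1.trans ?_
  have h0 : (0 : ℝ) ≤ ∑ j, |(a j : ℝ)| := Finset.sum_nonneg fun j _ => abs_nonneg _
  have h2 : ((∑ j, |(a j : ℝ)|) + 1) ^ d ≤ 2 ^ d * (1 + (∑ j, |(a j : ℝ)|) ^ d) := by
    set x := ∑ j, |(a j : ℝ)|
    rcases le_total x 1 with hx1 | hx1
    · calc (x + 1) ^ d ≤ 2 ^ d := pow_le_pow_left₀ (by linarith) (by linarith) d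
        _ ≤ _ := le_mul_of_one_le_right (by positivity) (by linarith [pow_nonneg h0 d])
    · calc (x + 1) ^ d ≤ (2 * x) ^ d := pow_le_pow_left₀ (by linarith) (by linarith) d
        _ = 2 ^ d * x ^ d := mul_pow 2 x d
        _ ≤ _ := mul_le_mul_of_nonneg_left (by linarith) (by positivity)
  have h3 : (K i : ℝ) ≤ ((∑ i ∈ Finset.range (d + 1), K i : ℕ) : ℝ) := by
    exact_mod_cast Finset.single_le_sum (fun j _ => Nat.zero_le (K j)) (Finset.mem_range.2 (Nat.lt_succ_of_le hi))
  calc (K i : ℝ) * _ ≤ ((∑ i ∈ Finset.range (d + 1), K i : ℕ) : ℝ) * (2 ^ d * (1 + (∑ j, |(a j : ℝ)|) ^ d)) :=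
        mul_le_mul h3 h2 (by positivity) (by positivity)
    _ ≤ _ := by
        rw [← mul_assoc]
        exact mul_le_mul_of_nonneg_right (le_add_of_nonneg_right zero_le_one) (by positivity)

end Groth.Agent.H97.MultiBd
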