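import Groth.Agent.H97.AmpleRestrict
import Groth.Agent.H97.IdealIntoLine
import Groth.Agent.H97.AsympRR
import Groth.Agent.H97.PushInt
import Groth.Agent.H97.DivDim
import Groth.Agent.H97.CurvePositivity
import Groth.Agent.Lib.SurfInt.Semiample
import Groth.Agent.Lib.SurfInt.GGAmple
import Groth.Agent.Lib.SurfInt.Div
import Groth.Agent.Lib.SurfInt.Bound
import Mathlib.Analysis.Polynomial.Basic

/-! The Nakai-Moishezon criterion on a proper scheme over a field. -/

set_option autoImplicit false
set_option linter.style.haveILetI false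
universe u
open CategoryTheory CategoryTheory.Limits AlgebraicGeometry TopologicalSpace

namespace Groth.Agent.H97.NakaiGen

open Groth.Agent.Lib Groth.Agent.Lib.Snapper
open Groth.Agent.Lib.TensorMod.Basic (comm assoc tensorIso leftUnit rightUnit)
open Groth.Agent.Lib.TensorMod.Pullback (pb)
open Groth.Agent.Lib.Curves.LES (mapK exactK₁ exactK₂ isoK)

/-- Ampleness on an integral closed subscheme only depends on its generic point. -/
theorem isAmple_pullback_integral {T X : Scheme.{u}} [IsIntegral T] (j : T ⟶ X) [IsClosedImmersion j]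
    {L : X.Modules} (h : CohB1.IsAmple ((pb (_root_.IntMult.ptIdeal (j (genericPoint T))).subschemeι).obj L)) :
    CohB1.IsAmple ((pb j).obj L) := by
  haveI : IsIso j.toImage := inferInstance
  have hker := PushInt.ker_eq_ptIdeal j
  have hA : CohB1.IsAmple ((pb j.imageι).obj L) := by
    change CohB1.IsAmple ((pb j.ker.subschemeι).obj L)
    rw [hker]; exact h
  exact Ample.Pow.isAmple_of_iso
    ((Scheme.Modules.pullbackComp j.toImage j.imageι).app L ≪≫
      (Scheme.Modules.pullbackCongr j.toImage_imageι).app L)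
    (Ample.Pullback.isAmple_pullback j.toImage (Ample.Pullback.isQuasiAffine_of_isAffineHom _) hA)

/-- The generic point of the closure of a point. -/
theorem ptIdeal_genericPoint {X : Scheme.{u}} (y : X) [IsIntegral (_root_.IntMult.ptIdeal y).subscheme] :
    (_root_.IntMult.ptIdeal y).subschemeι (genericPoint (_root_.IntMult.ptIdeal y).subscheme) = y := by
  have hg := (genericPoint_spec (_root_.IntMult.ptIdeal y).subscheme).image
    (_root_.IntMult.ptIdeal y).subschemeι.continuous
  rw [Set.image_univ, Devissage.Closure.range_ptIdeal y, closure_closure] at hg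
  exact hg.eq isGenericPoint_closure

variable (k : Type u) [Field k] {X : Scheme.{u}} [X.Over (Spec (CommRingCat.of k))]
  [IsProper (X ↘ Spec (CommRingCat.of k))]

section Core

variable [IsIntegral X] {L : X.Modules} (hL : PicF.IsInvertible L)
  (hsub : ∀ y : X, y ≠ genericPoint X → CohB1.IsAmple ((pb (_root_.IntMult.ptIdeal y).subschemeι).obj L))

include k hL hsub in
/-- Serre vanishing for modules supported in a proper closed subset. -/
theorem vanPos_small {Q : X.Modules} (hQ : Coh.IsCoh Q) (hη : genericPoint X ∉ CohB1.support Q) :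
    AmpleRestrict.VanPos L Q := by
  haveI := Curves.GlobalSections.isNoetherian_of_proper k X
  haveI := hQ.2
  refine ProperFin.Devissage.devissage (AmpleRestrict.SubVanPos L) ⟨_, Modules.Support.isClosed_support Q⟩
    (AmpleRestrict.thick k hL _) (fun y hy => ?_) Q ⟨hQ, subset_rfl⟩ Q (𝟙 Q) inferInstance hQ
  refine ⟨_, Devissage.Closure.cohIn_closureStructureSheaf y,
    Devissage.Closure.length_closureStructureSheaf y, AmpleRestrict.subVanPos_push k _ hL fun N hN => ?_⟩
  letI : (_root_.IntMult.ptIdeal y).subscheme.Over (Spec (CommRingCat.of k)) :=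
    ⟨(_root_.IntMult.ptIdeal y).subschemeι ≫ (X ↘ Spec (CommRingCat.of k))⟩
  haveI : IsProper ((_root_.IntMult.ptIdeal y).subscheme ↘ Spec (CommRingCat.of k)) :=
    inferInstanceAs (IsProper ((_root_.IntMult.ptIdeal y).subschemeι ≫ (X ↘ Spec (CommRingCat.of k))))
  obtain ⟨n₀, hn₀⟩ := SurfInt.AmpleVanish.exists_subsingleton k (hsub y fun e => hη (e ▸ hy)) hN
  exact Filter.eventually_atTop.2 ⟨n₀, hn₀⟩

include k hL hsub in
/-- `L` is ample on closed subschemes without the generic point. -/
theorem isAmple_sub {D : X.IdealSheafData} (hD : genericPoint X ∉ D.support) :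
    CohB1.IsAmple ((pb D.subschemeι).obj L) := by
  letI : D.subscheme.Over (Spec (CommRingCat.of k)) := ⟨D.subschemeι ≫ (X ↘ Spec (CommRingCat.of k))⟩
  haveI : IsProper (D.subscheme ↘ Spec (CommRingCat.of k)) :=
    inferInstanceAs (IsProper (D.subschemeι ≫ (X ↘ Spec (CommRingCat.of k))))
  refine AmpleRestrict.isAmple_of_points k (PicLoc.isInvertible_pullback _ hL) fun z => ?_
  haveI := IntTheory.Curves.isIntegral_ptIdeal z
  refine Ample.Pow.isAmple_of_iso ((Scheme.Modules.pullbackComp _ D.subschemeι).app L).symm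
    (isAmple_pullback_integral ((_root_.IntMult.ptIdeal z).subschemeι ≫ D.subschemeι) (hsub _ fun e => hD ?_))
  rw [← e]
  exact D.range_subschemeι.subset ⟨_, rfl⟩

include k in
/-- A map with small cokernel is bijective in degrees at least two on high twists. -/
theorem eventually_bijective [IsNoetherian X] {J A : X.Modules} (f : J ⟶ A) [Mono f]
    (hJ : Coh.IsCoh J) (hA : Coh.IsCoh A) (hη : genericPoint X ∉ CohB1.support (cokernel f))
    (hL : PicF.IsInvertible L)
    (hsub : ∀ y : X, y ≠ genericPoint X → CohB1.IsAmple ((pb (_root_.IntMult.ptIdeal y).subschemeι).obj L)) :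
    ∀ᶠ n in Filter.atTop, ∀ q : ℕ,
      Module.finrank k (Coh.HH X (CohB1.tensorMod J (CohB1.tensorPow L n)) (q + 2)) =
        Module.finrank k (Coh.HH X (CohB1.tensorMod A (CohB1.tensorPow L n)) (q + 2)) := by
  refine (vanPos_small k hL hsub (CohBasics.Closure.isCoh_cokernel f hJ.1 hA) hη).mono fun n hn q => ?_
  have hT := CurveBundle.Twist.shortExact (TensorMod.Invertible.isInvertible_tensorPow hL n)
    (Devissage.Basic.exists_ses_mono f)
  refine (LinearEquiv.ofBijective (mapK k (TensorMod.Basic.tmap f (𝟙 (CohB1.tensorPow L n))) (q + 2)) ⟨?_, ?_⟩).finrank_eq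
  · exact (injective_iff_map_eq_zero _).2 fun y hy => by
      obtain ⟨z, hz⟩ := (exactK₁ k hT (q + 1) (q + 2) rfl y).1 hy
      rw [← hz, show z = 0 from (hn q).elim _ _, map_zero]
  · intro y
    exact (exactK₂ k hT (q + 2) y).1 ((hn (q + 1)).elim _ _)

include k hL hsub in
/-- A power has a nonzero section. -/
theorem exists_section {d : ℕ} (hX : topologicalKrullDim X = d) (hd : 1 ≤ d)
    (hpos : 0 < (-1 : ℤ) ^ d * Vanish.sym k X d (List.replicate d L) (Coh.structureModule X)) :
    ∃ (m : ℕ) (s : Coh.structureModule X ⟶ CohB1.tensorPow L (m + 1)), s ≠ 0 := by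
  classical
  haveI := Curves.GlobalSections.isNoetherian_of_proper k X
  obtain ⟨M, hM, ⟨e⟩⟩ := TensorMod.Invertible.exists_inverse hL
  obtain ⟨J, u, v, hJ, hu, hv, hu', hv'⟩ := IdealIntoLine.exists_common hM
  have h1 := eventually_bijective k u hJ (Twist.isCoh_structureModule X) hu' hL hsub
  have h2 := eventually_bijective k v hJ (Ample.GG.isCoh_of_isInvertible hM) hv' hL hsub
  obtain ⟨m₀, hm₀⟩ := Filter.eventually_atTop.1 (h1.and h2)
  let h : ℕ → ℕ → ℕ := fun i m => Module.finrank k (Coh.HH X (CohB1.tensorPow L m) i)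
  have hstab : ∀ m, m₀ ≤ m → ∀ q, h (q + 2) (m + 1) = h (q + 2) m := fun m hm q => by
    obtain ⟨a, b⟩ := hm₀ (m + 1) (by omega)
    have e₁ : Module.finrank k (Coh.HH X (CohB1.tensorMod (Coh.structureModule X) (CohB1.tensorPow L (m + 1))) (q + 2)) =
        h (q + 2) (m + 1) := (isoK k (leftUnit _) (q + 2)).finrank_eq
    have e₂ : Module.finrank k (Coh.HH X (CohB1.tensorMod M (CohB1.tensorPow L (m + 1))) (q + 2)) = h (q + 2) m :=
      (isoK k (comm _ _ ≪≫ assoc _ _ _ ≪≫ tensorIso (Iso.refl _) e ≪≫ rightUnit _) (q + 2)).finrank_eq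
    rw [← e₁, ← e₂, ← a q, b q]
  have hconst : ∀ m, m₀ ≤ m → ∀ q, h (q + 2) m = h (q + 2) m₀ := fun m hm q => by
    induction m, hm using Nat.le_induction with
    | base => rfl
    | succ m hm ih => rw [hstab m hm q, ih]
  let R : ℤ := ∑ q ∈ Finset.range d, (-1 : ℤ) ^ (q + 2) * (h (q + 2) m₀ : ℤ)
  have hχ : ∀ m, m₀ ≤ m → Curv2.euler k X (CohB1.tensorPow L m) ≤ h 0 m + R := fun m hm => by
    rw [Chi.euler_eq_eulerCharLE (d := d + 1) (hX.le.trans (by exact_mod_cast Nat.le_succ d))]
    unfold FGA.eulerCharLE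
    rw [Finset.sum_range_succ', Finset.sum_range_succ']
    have e : ∑ q ∈ Finset.range d, (-1 : ℤ) ^ (q + 1 + 1) * (h (q + 1 + 1) m : ℤ) = R :=
      Finset.sum_congr rfl fun q _ => by rw [show q + 1 + 1 = q + 2 from rfl, hconst m hm q]
    simp only [zero_add, pow_one, pow_zero]
    change ∑ q ∈ Finset.range d, (-1 : ℤ) ^ (q + 1 + 1) * (h (q + 1 + 1) m : ℤ) + -1 * (h 1 m : ℤ) + 1 * (h 0 m : ℤ) ≤ _
    rw [e]
    have : (0 : ℤ) ≤ (h 1 m : ℤ) := Int.natCast_nonneg _
    linarith
  let a : ℕ → ℚ := fun i => (((-1 : ℤ) ^ i * Vanish.sym k X d (List.replicate i L) (Coh.structureModule X) : ℤ) : ℚ) /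
    (i.factorial : ℚ)
  let p : Polynomial ℚ := ∑ i ∈ Finset.range (d + 1), Polynomial.C (a i) * descPochhammer ℚ i
  have hcoeff : p.coeff d = a d := by
    simp only [p, Polynomial.finsetSum_coeff, Polynomial.coeff_C_mul]
    rw [Finset.sum_range_succ, Finset.sum_eq_zero fun i hi => ?_]
    · have := (monic_descPochhammer ℚ d).coeff_natDegree
      rw [descPochhammer_natDegree] at this
      rw [this]; ring
    · rw [Finset.mem_range] at hi
      rw [Polynomial.coeff_eq_zero_of_natDegree_lt (by rw [descPochhammer_natDegree]; omega), mul_zero]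
  have had : 0 < a d := div_pos (Int.cast_pos.2 hpos) (by positivity)
  have hdeg : p.natDegree = d := by
    refine le_antisymm (Polynomial.natDegree_sum_le_of_forall_le _ _ fun i hi => ?_)
      (Polynomial.le_natDegree_of_ne_zero (by rw [hcoeff]; exact had.ne'))
    refine (Polynomial.natDegree_C_mul_le _ _).trans ?_
    rw [descPochhammer_natDegree]
    rw [Finset.mem_range] at hi; omega
  have heval : ∀ m : ℕ, (Curv2.euler k X (CohB1.tensorPow L m) : ℚ) = p.eval (m : ℚ) := fun m => by
    rw [AsympRR.euler_pow k hX hL m, Int.cast_sum]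
    simp only [p, Polynomial.eval_finsetSum, Polynomial.eval_mul, Polynomial.eval_C]
    refine Finset.sum_congr rfl fun i _ => ?_
    simp only [a, Int.cast_mul, Int.cast_pow, Int.cast_neg, Int.cast_one, Int.cast_natCast]
    rw [Nat.cast_choose_eq_descPochhammer_div]
    ring
  have htend := (Polynomial.tendsto_atTop_of_leadingCoeff_nonneg p
    (Polynomial.natDegree_pos_iff_degree_pos.1 (by rw [hdeg]; omega))
    (by rw [Polynomial.leadingCoeff, hdeg, hcoeff]; exact had.le)).comp tendsto_natCast_atTop_atTop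
  obtain ⟨m, hm, hmR⟩ :=
    ((Filter.eventually_ge_atTop (m₀ + 1)).and (htend.eventually_gt_atTop (R : ℚ))).exists
  have hlt : R < Curv2.euler k X (CohB1.tensorPow L m) := by
    have : (R : ℚ) < (Curv2.euler k X (CohB1.tensorPow L m) : ℚ) := by rw [heval]; exact hmR
    exact_mod_cast this
  have hne : h 0 m ≠ 0 := fun h0 => by
    have := hχ m (by omega)
    rw [h0] at this
    simp only [Nat.cast_zero, zero_add] at this
    linarith
  obtain ⟨m, rfl⟩ : ∃ m', m = m' + 1 := ⟨m - 1, by omega⟩
  obtain ⟨s, hs⟩ := SurfInt.Bound.exists_hom_of_finrank_ne_zero (k := k) _ hne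
  exact ⟨m, s, hs⟩

include k hL hsub in
/-- The inductive step. -/
theorem isAmple_core {d : ℕ} (hX : topologicalKrullDim X = d) (hd : 2 ≤ d)
    (hpos : 0 < (-1 : ℤ) ^ d * Vanish.sym k X d (List.replicate d L) (Coh.structureModule X)) :
    CohB1.IsAmple L := by
  haveI := Curves.GlobalSections.isNoetherian_of_proper k X
  let q := X ↘ Spec (CommRingCat.of k)
  obtain ⟨m, s, hs⟩ := exists_section k hL hsub hX (by omega) hpos
  have hLm := TensorMod.Invertible.isInvertible_tensorPow hL (m + 1)
  obtain ⟨hD, ⟨e⟩, -, -⟩ := SurfInt.Div.divisor_spec hLm s hs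
  have hηD : genericPoint X ∉ (PicF2.zeroScheme (CohB1.tensorPow L (m + 1)) s).support := fun h => by
    obtain ⟨z, hz, hne⟩ := DivDim.exists_generalization hD h
    exact hne (hz.antisymm (genericPoint_specializes z)).eq
  obtain ⟨n₀, hn⟩ := SurfInt.Semiample.eventually_genAt k _ e
    (Ample.Pow.isAmple_of_iso (Ample.Pow.pullbackPow _ L (m + 1)).symm
      ((Ample.Pow.isAmple_tensorPow_iff (PicLoc.isInvertible_pullback _ hL) m.succ_pos).mp
        (isAmple_sub k hL hsub hηD)))
  suffices CohB1.IsAmple (CohB1.tensorPow (CohB1.tensorPow L (m + 1)) (n₀ + 1)) from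
    (Ample.Pow.isAmple_tensorPow_iff hL m.succ_pos).mpr ((Ample.Pow.isAmple_tensorPow_iff hLm n₀.succ_pos).mpr this)
  refine SurfInt.GGAmple.isAmple k (TensorMod.Invertible.isInvertible_tensorPow hLm _) (hn (n₀ + 1) n₀.le_succ)
    fun C hC hCd => ?_
  haveI := hC
  have hy : C.subschemeι (genericPoint C.subscheme) ≠ genericPoint X := fun h => by
    have hg := (genericPoint_spec C.subscheme).image C.subschemeι.continuous
    rw [Set.image_univ, C.range_subschemeι, C.support.isClosed.closure_eq, h] at hg
    have hu : (C.support : Set X) = Set.univ := hg.def.symm.trans (genericPoint_spec X).def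
    rw [hu, ← VarDim.Basic.topologicalKrullDim_scheme_eq, hX] at hCd
    exact absurd (show d = 1 by exact_mod_cast hCd) (by omega)
  have hA : CohB1.IsAmple ((pb C.subschemeι).obj L) := isAmple_pullback_integral C.subschemeι (hsub _ hy)
  have hLC := PicLoc.isInvertible_pullback C.subschemeι hL
  exact Ample.Pow.isAmple_of_iso
    (Ample.Pow.powIso (Ample.Pow.pullbackPow C.subschemeι L (m + 1)).symm _ ≪≫
      (Ample.Pow.pullbackPow C.subschemeι (CohB1.tensorPow L (m + 1)) (n₀ + 1)).symm)
    ((Ample.Pow.isAmple_tensorPow_iff (TensorMod.Invertible.isInvertible_tensorPow hLC _) n₀.succ_pos).mp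
      ((Ample.Pow.isAmple_tensorPow_iff hLC m.succ_pos).mp hA))

end Core

/-- **Nakai-Moishezon.** -/
theorem isAmple {N : ℕ} (hN : topologicalKrullDim X ≤ N) {L : X.Modules} (hL : PicF.IsInvertible L)
    (hpos : ∀ y : X, 0 < VarDim.Basic.pdim (X ↘ Spec (CommRingCat.of k)) y →
      0 < (-1 : ℤ) ^ VarDim.Basic.pdim (X ↘ Spec (CommRingCat.of k)) y *
        Vanish.sym k X N (List.replicate (VarDim.Basic.pdim (X ↘ Spec (CommRingCat.of k)) y) L)
          (_root_.Cyc.closureStructureSheaf y)) :
    CohB1.IsAmple L := by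
  haveI := Curves.GlobalSections.isNoetherian_of_proper k X
  let q := X ↘ Spec (CommRingCat.of k)
  refine AmpleRestrict.isAmple_of_points k hL fun y => ?_
  induction hd : VarDim.Basic.pdim q y using Nat.strong_induction_on generalizing y with
  | _ d ih =>
  let I := _root_.IntMult.ptIdeal y
  let T := I.subscheme
  let i := I.subschemeι
  haveI : IsIntegral T := IntTheory.Curves.isIntegral_ptIdeal y
  letI : T.Over (Spec (CommRingCat.of k)) := ⟨i ≫ q⟩
  haveI : IsProper (T ↘ Spec (CommRingCat.of k)) := inferInstanceAs (IsProper (i ≫ q))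
  haveI := Curves.GlobalSections.isNoetherian_of_proper k T
  have hA := PicLoc.isInvertible_pullback i hL
  have hT : topologicalKrullDim T = (d : WithBot ℕ∞) := by
    rw [IntTheory.Curves.dim_ptIdeal y, VarDim.Basic.topologicalKrullDim_isGenericPoint q
      (isGenericPoint_closure (x := y)), hd]
  rcases Nat.eq_zero_or_pos d with rfl | hd0
  · have hcl : IsClosed ({y} : Set X) := (VarDim.Basic.pdim_eq_zero_iff q y).1 hd
    haveI : Subsingleton T := ⟨fun a b => by
      refine i.isClosedEmbedding.injective ?_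
      have ha : i a ∈ closure ({y} : Set X) := Devissage.Closure.range_ptIdeal y ▸ ⟨a, rfl⟩
      have hb : i b ∈ closure ({y} : Set X) := Devissage.Closure.range_ptIdeal y ▸ ⟨b, rfl⟩
      rw [hcl.closure_eq] at ha hb
      exact ha.trans hb.symm⟩
    haveI : Finite T := Finite.of_subsingleton
    haveI : DiscreteTopology T := Subsingleton.discreteTopology
    haveI : IsAffine T := inferInstance
    exact Ample.RelAmple.isAmple_of_isQuasiAffine hA
  have hposT : 0 < (-1 : ℤ) ^ d * Vanish.sym k T d (List.replicate d ((pb i).obj L)) (Coh.structureModule T) := by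
    have hl : ∀ M ∈ List.replicate d L, PicF.IsInvertible M := fun M hM => List.eq_of_mem_replicate hM ▸ hL
    have hO := Twist.isCoh_structureModule T
    have h := IntTheory.Push.sym_push (k := k) (X' := T) i rfl hN hT.le (List.replicate d L) hl _ hO (by
      rw [AsympRR.dim_support_structureModule, hT, List.length_replicate])
    rw [List.map_replicate] at h
    rw [h]
    have := hpos y (hd.symm ▸ hd0)
    rwa [hd] at this
  have hsub : ∀ z : T, z ≠ genericPoint T →
      CohB1.IsAmple ((pb (_root_.IntMult.ptIdeal z).subschemeι).obj ((pb i).obj L)) := fun z hz => by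
    haveI := IntTheory.Curves.isIntegral_ptIdeal z
    refine Ample.Pow.isAmple_of_iso ((Scheme.Modules.pullbackComp _ i).app L).symm
      (isAmple_pullback_integral ((_root_.IntMult.ptIdeal z).subschemeι ≫ i) ?_)
    have e : ((_root_.IntMult.ptIdeal z).subschemeι ≫ i) (genericPoint (_root_.IntMult.ptIdeal z).subscheme) = i z :=
      congrArg i (ptIdeal_genericPoint z)
    rw [e]
    refine ih (VarDim.Basic.pdim q (i z)) ?_ (i z) rfl
    rw [← hd]
    refine VarDim.Basic.pdim_lt q (specializes_iff_mem_closure.2 (Devissage.Closure.range_ptIdeal y ▸ ⟨z, rfl⟩))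
      fun e' => hz (i.isClosedEmbedding.injective ?_)
    exact (ptIdeal_genericPoint y).trans e' |>.symm
  by_cases hd2 : 2 ≤ d
  · exact isAmple_core k hA hsub hT hd2 hposT
  · obtain rfl : d = 1 := by omega
    have h1 := AsympRR.euler_pow k hT hA 1
    simp only [Finset.sum_range_succ, Finset.sum_range_zero, zero_add, pow_zero, Nat.choose_zero_right,
      Nat.choose_self, Nat.cast_one, one_mul, pow_one, List.replicate_zero] at h1
    have e0 : Curv2.euler k T (Coh.structureModule T) = Vanish.sym k T 1 [] (Coh.structureModule T) :=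
      Chi.euler_eq_eulerCharLE hT.le _
    have e1 : Curv2.euler k T ((pb i).obj L) = Curv2.euler k T (CohB1.tensorPow ((pb i).obj L) 1) :=
      Lib.Curves.Euler.euler_eq_of_iso (Ample.Pow.powOne _).symm
    refine CurvePositivity.isAmple_of_deg_pos k (by simpa using hT) hA ?_
    unfold Curv2.deg
    simp only [pow_one] at hposT
    simp only [Nat.cast_one, one_mul]
    linarith

end Groth.Agent.H97.NakaiGen
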