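import Groth.Agent.H97.NefExt
import Groth.Agent.H97.CurveAmple
import Groth.Agent.Lib.CurveBundle.Point
import Groth.Agent.S5733

/-! A nef bundle tensored with an ample line is ample on a curve. -/

set_option autoImplicit false
set_option linter.style.haveILetI false
universe u
open CategoryTheory CategoryTheory.Limits AlgebraicGeometry

noncomputable section

namespace Groth.Agent.H97.NefAmple

open Groth.Agent.Lib Groth.Agent.Lib.Snapper Groth.Agent.Lib.Nakai
open Groth.Agent.Lib.TensorMod.Basic (tensorIso tmap comm assoc leftUnit rightUnit)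
open Groth.Agent.Lib.TensorMod.Invertible (isInvertible_tensorMod isInvertible_tensorPow isInvertible_dual tensorDualIso)
open Groth.Agent.Lib.TensorMod.Dual (dual)
open Groth.Agent.Lib.Ample.Pow

local notation "pb" => Scheme.Modules.pullback

theorem isAmple_O1 {k : Type u} [Field k] {C : Scheme.{u}} [C.Over (Spec (CommRingCat.of k))]
    [IsProper (C ↘ Spec (CommRingCat.of k))] [IsIntegral C] {E : C.Modules}
    (hE : FlatMod.IsFinLocFree E) (hnef : NefBundle.NefTest k E) {H : C.Modules} (hH : CohB1.IsAmple H)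
    (B : SymAlg.PE.Tw C) (j : CohB1.tensorMod H E ⟶ B.alg.toModule)
    (hj : RelProj.IsGrSymAlg (CohB1.tensorMod H E) B.alg j) : CohB1.IsAmple B.O1 := by
  have hHE : FlatMod.IsFinLocFree (CohB1.tensorMod H E) :=
    TensorMod.LocFree.isFinLocFree_tensorMod (TensorMod.LocFree.of_rank (TensorMod.LocFree.of_isInvertible hH.1)) hE
  have hq : Coh.IsQCoh (CohB1.tensorMod H E) := TensorMod.QCohInv.isQCoh_of_isFinLocFree hHE
  haveI := Curves.GlobalSections.isNoetherian_of_proper k C
  let π := B.p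
  haveI : IsProper π := HProj.Proper.isProper_of_isProjective
    ⟨B.alg, B.P, B.p, B.chart, Iso.refl _, B.gen, Cyc.CH.BdlExists.isFTDeg_one hq hj hHE, B.hP, Category.id_comp _⟩
  let G := SymAlg.PE.Tw.Gens.ofSym B hq hj
  let q : (pb π).obj (CohB1.tensorMod H E) ⟶ B.O1 :=
    ((Scheme.Modules.pullbackPushforwardAdjunction π).homEquiv _ B.O1).symm G.canon
  haveI hepi : Epi q := Groth.Agent.S5732.result _ hq B.alg j hj B.p B.chart B.hP B.O1 B.lam
    B.hO G.canon fun U hU e x => by
      erw [G.canon_app hU e]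
      exact (B.val_sec (G.mem U hU e) x).trans (Localization.mk_one_eq_algebraMap _)
  letI : B.P.Over (Spec (CommRingCat.of k)) := ⟨π ≫ (C ↘ Spec (CommRingCat.of k))⟩
  haveI : IsProper (B.P ↘ Spec (CommRingCat.of k)) :=
    inferInstanceAs (IsProper (π ≫ (C ↘ Spec (CommRingCat.of k))))
  obtain ⟨N, hN⟩ := DimBound.exists_dim_bound k B.P
  have hO := B.isInvertible
  let h := (pb π).obj H
  have hh : PicF.IsInvertible h := PicLoc.isInvertible_pullback π hH.1
  let a := CohB1.tensorMod ((pb π).obj (dual H)) B.O1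
  have hdH := PicLoc.isInvertible_pullback π (isInvertible_dual hH.1)
  have ha : PicF.IsInvertible a := isInvertible_tensorMod hdH hO
  let e1 : E ≅ CohB1.tensorMod (dual H) (CohB1.tensorMod H E) :=
    (leftUnit E).symm ≪≫ tensorIso ((tensorDualIso hH.1).symm ≪≫ comm _ _) (Iso.refl E) ≪≫ assoc _ _ _
  haveI := H97.CurveAmple.epi_tmap hdH q
  let q' : (pb π).obj E ⟶ a := ((pb π).mapIso e1 ≪≫ TensorMod.Pullback.pullbackTensorIso π _ _).hom ≫
    (comm _ _).hom ≫ tmap q (𝟙 ((pb π).obj (dual H))) ≫ (comm _ _).hom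
  haveI : Epi q' := epi_comp _ _
  have hanef : Kleiman.Nef k N a :=
    (NefBC.nefCl_iff hN _).1 (NefBundle.nefCl_quotient (k := k) hnef π rfl ha q')
  have hrel : RelAmple.IsRelAmple π ((pb (𝟙 B.P)).obj B.O1) :=
    Groth.Agent.S5722.result π _ hq B.alg j hj B.P B.p B.chart B.hP B.O1 B.lam B.hO
      (𝟙 _) (Category.id_comp _) Topology.IsEmbedding.id
  obtain ⟨m₀, -, hm⟩ := ProjMor.Comp.eventually_isAmple π hrel hH
  let m := m₀ + 1
  have hA : CohB1.IsAmple (CohB1.tensorMod B.O1 (CohB1.tensorPow h m)) :=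
    isAmple_of_iso (tensorIso ((Scheme.Modules.pullbackId B.P).app B.O1) (pullbackPow π H m))
      (hm m (Nat.le_succ _))
  have key := Kleiman.isAmple_tensor (k := k) hN ha hanef hA (b := m) (p := 1) (Nat.succ_pos _) one_pos
  let hm' := CohB1.tensorPow h m
  let d := (pb π).obj (dual H)
  let e2 : CohB1.tensorMod (CohB1.tensorPow d m) hm' ≅ Coh.structureModule B.P :=
    (powTensor d h m).symm ≪≫ powIso ((TensorMod.Pullback.pullbackTensorIso π _ _).symm ≪≫
      (pb π).mapIso (comm _ _ ≪≫ tensorDualIso hH.1) ≪≫ PicLoc.pullbackStructureIso π) m ≪≫ powUnit B.P m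
  let e3 : CohB1.tensorMod (CohB1.tensorPow a m) (CohB1.tensorPow (CohB1.tensorMod B.O1 hm') 1) ≅
      CohB1.tensorPow B.O1 (m + 1) :=
    tensorIso (powTensor d B.O1 m) (powOne _ ≪≫ comm _ _) ≪≫
      middleFour (CohB1.tensorPow d m) (CohB1.tensorPow B.O1 m) hm' B.O1 ≪≫
      tensorIso e2 (Iso.refl _) ≪≫ leftUnit _
  exact (isAmple_tensorPow_iff hO (Nat.succ_pos m)).2 (isAmple_of_iso e3 key)

theorem deg_quotient_nonneg {k : Type u} [Field k] [IsAlgClosed k] {C : Scheme.{u}}
    [C.Over (Spec (CommRingCat.of k))] [IsProper (C ↘ Spec (CommRingCat.of k))] [IsIntegral C]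
    (hC : topologicalKrullDim C = 1) (hreg : ∀ x : C, IsRegularLocalRing (C.presheaf.stalk x))
    {F : C.Modules} (hF : FlatMod.IsFinLocFree F) {M : C.Modules} (hM : PicF.IsInvertible M) (q : F ⟶ M) [Epi q]
    (hamp : ∀ (H : C.Modules), CohB1.IsAmple H → ∀ (B : SymAlg.PE.Tw C)
      (j : CohB1.tensorMod H F ⟶ B.alg.toModule), RelProj.IsGrSymAlg (CohB1.tensorMod H F) B.alg j →
      CohB1.IsAmple B.O1) :
    0 ≤ Curv2.deg k C M 1 := by
  haveI := Curves.GlobalSections.isNoetherian_of_proper k C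
  haveI := CurveBundle.RankTwoExt.curveCtx_of_regular (k := k) hC hreg
  obtain ⟨x, -, hx⟩ := IsClosed.exists_closed_singleton (S := (Set.univ : Set C)) isClosed_univ
    Set.univ_nonempty
  obtain ⟨-, hI, hId⟩ := CurveBundle.Point.point_facts_ctx k hC hx
  set J := ClSub.idealMod (Scheme.IdealSheafData.vanishingIdeal (X := C) ⟨{x}, hx⟩)
  let H := dual J
  have hH := isInvertible_dual hI
  have hd : Curv2.deg k C H 1 = 1 := by
    have h := H97.CurveEuler.deg_tensor (k := k) hC.le (TensorMod.LocFree.of_isInvertible hI)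
      (TensorMod.LocFree.of_isInvertible hH)
    have h0 : Curv2.deg k C (CohB1.tensorMod J H) (1 * 1) = 0 := by
      unfold Curv2.deg
      rw [Curves.Euler.euler_eq_of_iso (k := k) (tensorDualIso hI)]
      simp
    rw [h0, hId] at h
    change Curv2.deg k C (dual J) 1 = 1
    push_cast at h
    omega
  have hHamp := H97.CurvePositivity.isAmple_of_deg_pos (k := k) (L := H) hC hH (by rw [hd]; exact one_pos)
  have hHF : FlatMod.IsFinLocFree (CohB1.tensorMod H F) :=
    TensorMod.LocFree.isFinLocFree_tensorMod (TensorMod.LocFree.of_rank (TensorMod.LocFree.of_isInvertible hH)) hF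
  have hq : Coh.IsQCoh (CohB1.tensorMod H F) := TensorMod.QCohInv.isQCoh_of_isFinLocFree hHF
  haveI : (CohB1.tensorMod H F).IsQuasicoherent := hq
  have hj := SymAlg.Exists.isGrSymAlg (CohB1.tensorMod H F)
  let B : SymAlg.PE.Tw C := SymAlg.PE.Tw.ofAlg (SymAlg.Exists.grAlg (CohB1.tensorMod H F)) (SymAlg.Gen.isGenDegOne hj hq)
  haveI : IsProper B.p := HProj.Proper.isProper_of_isProjective
    ⟨B.alg, B.P, B.p, B.chart, Iso.refl _, B.gen, Cyc.CH.BdlExists.isFTDeg_one hq hj hHF, B.hP, Category.id_comp _⟩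
  have hHM := isInvertible_tensorMod hH hM
  haveI := H97.CurveAmple.epi_tmap hH q
  obtain ⟨r, ⟨hr, τ, -⟩, -⟩ := SymAlg.PE.existsUnique_map (B := B) hq hj (𝟙 C) hHM
    ((Scheme.Modules.pullbackId C).hom.app _ ≫ (comm _ _).hom ≫ tmap q (𝟙 H) ≫ (comm _ _).hom)
  haveI : IsClosedImmersion (r ≫ B.p) := hr.symm ▸ inferInstance
  haveI : IsClosedImmersion r := IsClosedImmersion.of_comp r B.p
  have hA := isAmple_of_iso τ (Lib.Ample.Pullback.isAmple_pullback r
    (Lib.Ample.Pullback.isQuasiAffine_of_isAffineHom r) (hamp H hHamp B _ hj))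
  have hp := H97.CurvePositivity.deg_pos_of_isAmple (k := k) hC (L := CohB1.tensorMod H M) hA
  have h := H97.CurveEuler.deg_tensor (k := k) hC.le (TensorMod.LocFree.of_isInvertible hH)
    (TensorMod.LocFree.of_isInvertible hM)
  rw [one_mul, hd] at h
  push_cast at h
  dsimp only [H] at *
  nlinarith

end Groth.Agent.H97.NefAmple
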