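import Groth.Agent.H97.NefProper
import Groth.Agent.H56.DimBaseChange
import Groth.Agent.Lib.IntTheory.BaseChange
import Groth.Agent.S16712

/-! Nefness and field extensions. -/

set_option autoImplicit false
set_option linter.style.haveILetI false
universe u
open CategoryTheory CategoryTheory.Limits AlgebraicGeometry

namespace Groth.Agent.H97.NefBC

open Groth.Agent.Lib Groth.Agent.Lib.Snapper Groth.Agent.Lib.Nakai

/-- Nef in the sense of closed subschemes. -/
def NefCl (k : Type u) [Field k] {X : Scheme.{u}} [X.Over (Spec (CommRingCat.of k))] (L : X.Modules) : Prop :=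
  ∀ C : X.IdealSheafData, IsIntegral C.subscheme → topologicalKrullDim (C.support : Set X) = 1 →
    0 ≤ Curv2.euler k X (CohB1.tensorMod (ClSub.quotMod C) L) - Curv2.euler k X (ClSub.quotMod C)

variable {k : Type u} [Field k] {X : Scheme.{u}} [X.Over (Spec (CommRingCat.of k))]
  [IsProper (X ↘ Spec (CommRingCat.of k))]

theorem nefCl_iff {N : ℕ} (hN : topologicalKrullDim X ≤ N) (L : X.Modules) :
    NefCl k L ↔ Kleiman.Nef k N L := by
  refine ⟨fun h z hz => ?_, fun h C hC hd => ?_⟩
  · rw [NefProper.ip_single hN]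
    exact h _ (IntTheory.Curves.isIntegral_ptIdeal z) (by
      rw [CurveLift.dim_support_ptIdeal (X ↘ Spec (CommRingCat.of k)) z,
        show VarDim.Basic.pdim (X ↘ Spec (CommRingCat.of k)) z = 1 from hz]; rfl)
  · haveI := hC
    obtain ⟨hI, -, hy⟩ := CurveLift.genPt (X ↘ Spec (CommRingCat.of k)) C (d := 1) hd
    rw [hI]
    change 0 ≤ Curv2.euler k X (CohB1.tensorMod (Cyc.closureStructureSheaf _) L) -
      Curv2.euler k X (Cyc.closureStructureSheaf _)
    rw [← NefProper.ip_single hN]
    exact h _ hy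

theorem nefCl_of_iso {L L' : X.Modules} (e : L ≅ L') (h : NefCl k L) : NefCl k L' := fun C hC hd => by
  rw [← Curves.Euler.euler_eq_of_iso (k := k) (TensorMod.Basic.tensorIso (Iso.refl (ClSub.quotMod C)) e)]
  exact h C hC hd

/-- Chow cover with an ample module. -/
theorem exists_cover (k : Type u) [Field k] (X : Scheme.{u}) [X.Over (Spec (CommRingCat.of k))]
    [IsProper (X ↘ Spec (CommRingCat.of k))] : ∃ (Z : Scheme.{u}) (π : Z ⟶ X) (H : Z.Modules),
    IsProper π ∧ Surjective π ∧ CohB1.IsAmple H := by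
  haveI := Curves.GlobalSections.isNoetherian_of_proper k X
  let r := X ↘ Spec (CommRingCat.of k)
  obtain ⟨n, X', π, j, U, hj, hjr, hπ, hsurj, -, -, -, -⟩ := Chow.Projective.chow r (Or.inl inferInstance)
  haveI := hj
  haveI := hπ
  haveI : IsProper (π ≫ r) := inferInstance
  haveI : IsProper (j ≫ CohB1.ProjSpaceOver.toBase n (Spec (CommRingCat.of k))) := hjr ▸ inferInstance
  haveI : IsSeparated (CohB1.ProjSpaceOver.toBase n (Spec (CommRingCat.of k))) := by
    rw [← ProjSpace.BaseChange.overSpecIso_hom_toSpec]; infer_instance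
  haveI : IsProper j := IsProper.of_comp j (CohB1.ProjSpaceOver.toBase n (Spec (CommRingCat.of k)))
  haveI : IsClosedImmersion j := IsClosedImmersion.of_isPreimmersion j j.isClosedMap.isClosed_range
  let ι := j ≫ (ProjSpace.BaseChange.overSpecIso n k).hom
  exact ⟨X', π, (Scheme.Modules.pullback ι).obj (Twist.twist (CohB1.polyGrading n k) 1), hπ, hsurj,
    Ample.Pullback.isAmple_pullback ι (Ample.Pullback.isQuasiAffine_of_isAffineHom ι)
      (HProj.QuasiProj.isAmple_twist_projSpace n k)⟩

variable {K : Type u} [Field K] [Algebra k K] {X' : Scheme.{u}} [X'.Over (Spec (CommRingCat.of K))]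
  {g : X' ⟶ X}
  (hsq : IsPullback g (X' ↘ Spec (CommRingCat.of K)) (X ↘ Spec (CommRingCat.of k))
    (Spec.map (CommRingCat.ofHom (algebraMap k K))))

include hsq

theorem isProper_sq : IsProper (X' ↘ Spec (CommRingCat.of K)) :=
  MorphismProperty.of_isPullback hsq inferInstance

theorem isAffineHom_sq : IsAffineHom g :=
  MorphismProperty.of_isPullback hsq.flip inferInstance

theorem nefCl_baseChange {L : X.Modules} (hL : PicF.IsInvertible L) (h : NefCl k L) :
    NefCl K ((Scheme.Modules.pullback g).obj L) := by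
  haveI := isProper_sq hsq
  obtain ⟨Z, π, H, hπ, hπs, hH⟩ := exists_cover k X
  haveI := hπ
  haveI := hπs
  letI : Z.Over (Spec (CommRingCat.of k)) := ⟨π ≫ (X ↘ Spec (CommRingCat.of k))⟩
  haveI : IsProper (Z ↘ Spec (CommRingCat.of k)) :=
    inferInstanceAs (IsProper (π ≫ (X ↘ Spec (CommRingCat.of k))))
  let Z' := pullback π g
  letI : Z'.Over (Spec (CommRingCat.of K)) := ⟨pullback.snd π g ≫ (X' ↘ Spec (CommRingCat.of K))⟩
  haveI : IsProper (Z' ↘ Spec (CommRingCat.of K)) :=
    inferInstanceAs (IsProper (pullback.snd π g ≫ (X' ↘ Spec (CommRingCat.of K))))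
  have hsqZ : IsPullback (pullback.fst π g) (Z' ↘ Spec (CommRingCat.of K)) (Z ↘ Spec (CommRingCat.of k))
      (Spec.map (CommRingCat.ofHom (algebraMap k K))) :=
    (IsPullback.of_hasPullback π g).paste_vert hsq
  haveI := isAffineHom_sq hsqZ
  obtain ⟨N, hN⟩ := DimBound.exists_dim_bound k Z
  obtain ⟨N', hN'⟩ := DimBound.exists_dim_bound K Z'
  have hL₁ := PicLoc.isInvertible_pullback π hL
  have h₁ : NefCl k ((Scheme.Modules.pullback π).obj L) :=
    (Groth.Agent.S16712.result k X Z π rfl L hL).1 h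
  have hamp : ∀ ν : ℕ, 0 < ν → CohB1.IsAmple (CohB1.tensorMod
      (CohB1.tensorPow ((Scheme.Modules.pullback (pullback.fst π g)).obj ((Scheme.Modules.pullback π).obj L)) ν)
      ((Scheme.Modules.pullback (pullback.fst π g)).obj (CohB1.tensorPow H 1))) := fun ν hν =>
    Lib.Ample.Pow.isAmple_of_iso
      (TensorMod.Pullback.pullbackTensorIso _ _ _ ≪≫
        TensorMod.Basic.tensorIso (Lib.Ample.Pow.pullbackPow _ _ ν) (Iso.refl _))
      (Ample.Pullback.isAmple_pullback (pullback.fst π g) (Ample.Pullback.isQuasiAffine_of_isAffineHom _)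
        (Kleiman.isAmple_tensor (k := k) hN hL₁ ((nefCl_iff hN _).1 h₁) hH hν one_pos))
  have h₂ : NefCl K ((Scheme.Modules.pullback (pullback.fst π g)).obj ((Scheme.Modules.pullback π).obj L)) :=
    (nefCl_iff hN' _).2 (NefConv.nef_of_forall_ample (k := K) hN'
      (PicLoc.isInvertible_pullback _ hL₁)
      (PicLoc.isInvertible_pullback _ (TensorMod.Invertible.isInvertible_tensorPow hH.1 1)) hamp)
  refine (Groth.Agent.S16712.result K X' Z' (pullback.snd π g) rfl _ (PicLoc.isInvertible_pullback g hL)).2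
    (nefCl_of_iso ?_ h₂)
  exact (Scheme.Modules.pullbackComp (pullback.fst π g) π).app L ≪≫
    (Scheme.Modules.pullbackCongr pullback.condition).app L ≪≫
    ((Scheme.Modules.pullbackComp (pullback.snd π g) g).app L).symm

theorem nefCl_of_baseChange {L : X.Modules} (hL : PicF.IsInvertible L)
    (h : NefCl K ((Scheme.Modules.pullback g).obj L)) : NefCl k L := by
  haveI := isProper_sq hsq
  obtain ⟨N, hN⟩ := DimBound.exists_dim_bound k X
  obtain ⟨N', hN'⟩ := DimBound.exists_dim_bound K X'
  refine (nefCl_iff hN L).2 (NefConv.nef_of_curves (k := k) hN hL fun Y i _ hY hYd => ?_)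
  haveI := hY
  letI : Y.Over (Spec (CommRingCat.of k)) := ⟨i ≫ (X ↘ Spec (CommRingCat.of k))⟩
  haveI : IsProper (Y ↘ Spec (CommRingCat.of k)) :=
    inferInstanceAs (IsProper (i ≫ (X ↘ Spec (CommRingCat.of k))))
  haveI := Curves.GlobalSections.isNoetherian_of_proper k Y
  let Y' := pullback i g
  letI : Y'.Over (Spec (CommRingCat.of K)) := ⟨pullback.snd i g ≫ (X' ↘ Spec (CommRingCat.of K))⟩
  have hsqY : IsPullback (pullback.fst i g) (Y' ↘ Spec (CommRingCat.of K)) (Y ↘ Spec (CommRingCat.of k))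
      (Spec.map (CommRingCat.ofHom (algebraMap k K))) :=
    (IsPullback.of_hasPullback i g).paste_vert hsq
  have hY' : topologicalKrullDim Y' ≤ (1 : ℕ) :=
    ((H56.DimBaseChange.topologicalKrullDim_baseChange _ _ _ _ hsqY).trans hYd).le
  have h0 := NefConv.curveDeg_nonneg (k := K) hN' (PicLoc.isInvertible_pullback g hL)
    ((nefCl_iff hN' _).1 h) (pullback.snd i g) hY'
  have e : (Scheme.Modules.pullback (pullback.fst i g)).obj ((Scheme.Modules.pullback i).obj L) ≅
      (Scheme.Modules.pullback (pullback.snd i g)).obj ((Scheme.Modules.pullback g).obj L) :=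
    (Scheme.Modules.pullbackComp (pullback.fst i g) i).app L ≪≫
      (Scheme.Modules.pullbackCongr pullback.condition).app L ≪≫
      ((Scheme.Modules.pullbackComp (pullback.snd i g) g).app L).symm
  unfold Pic13.curveDeg at h0 ⊢
  change 0 ≤ FGA.eulerCharLE K Y' _ 1 - FGA.eulerCharLE K Y' _ 1 at h0
  change 0 ≤ FGA.eulerCharLE k Y _ 1 - FGA.eulerCharLE k Y _ 1
  rw [← IntTheory.BaseChange.eulerCharLE hsqY (Twist.isCoh_structureModule Y) 1,
    Chi.eulerCharLE_of_iso (PicLoc.pullbackStructureIso (pullback.fst i g)) 1,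
    ← IntTheory.BaseChange.eulerCharLE hsqY (Lib.Ample.GG.isCoh_of_isInvertible (PicLoc.isInvertible_pullback i hL)) 1,
    Chi.eulerCharLE_of_iso e 1]
  exact h0

end Groth.Agent.H97.NefBC
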