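import Groth.Agent.H97.CurveLift
import Groth.Agent.Lib.Nakai.Top
import Groth.Agent.Lib.Normalization.InFieldVariety
import Groth.Agent.Lib.Normalization.DimOne
import Groth.Agent.H4.CurveThrough
import Groth.Agent.H97.DimOneSetup

/-! Curve-test nefness descends along surjections. -/

set_option autoImplicit false
set_option linter.style.haveILetI false
universe u
open CategoryTheory CategoryTheory.Limits AlgebraicGeometry TopologicalSpace

namespace Groth.Agent.H97.NefCurve

open Groth.Agent.Lib Groth.Agent.Lib.Snapper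

variable {k : Type u} [Field k]

/-- A regular proper curve over a given integral proper curve. -/
theorem exists_regular {D : Scheme.{u}} [D.Over (Spec (CommRingCat.of k))]
    [IsProper (D ↘ Spec (CommRingCat.of k))] [IsIntegral D] (hD : topologicalKrullDim D = 1) :
    ∃ (C' : Scheme.{u}) (ν : C' ⟶ D), IsProper (ν ≫ (D ↘ Spec (CommRingCat.of k))) ∧ IsIntegral C' ∧
      topologicalKrullDim C' = 1 ∧ (∀ z : C', IsRegularLocalRing (C'.presheaf.stalk z)) ∧
      Function.Surjective ν := by
  haveI : D.IsSeparated := ⟨by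
    rw [← Limits.terminal.comp_from (D ↘ Spec (CommRingCat.of k))]; infer_instance⟩
  haveI := Curves.GlobalSections.isNoetherian_of_proper k D
  haveI : QuasiCompact (D.fromSpecStalk (genericPoint D)) := quasiCompact_of_compactSpace _
  haveI : QuasiSeparated (D.fromSpecStalk (genericPoint D)) := by
    haveI : IsSeparated (D.fromSpecStalk (genericPoint D) ≫ terminal.from D) := inferInstance
    haveI := IsSeparated.of_comp (D.fromSpecStalk (genericPoint D)) (terminal.from D)
    infer_instance
  haveI := Normalization.InFieldVariety.isFinite_normalizationι k D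
  let ν := Curv2.normalizationι D
  have hsurj := Normalization.Basic.surjective_normalizationι D
  haveI : Surjective ν := ⟨hsurj⟩
  haveI : IsProper (ν ≫ (D ↘ Spec (CommRingCat.of k))) := inferInstance
  haveI : IsLocallyNoetherian (Curv2.normalization D) := Normalization.DimOne.isLocallyNoetherian_normalization D hD.le
  have hle : topologicalKrullDim ↥(Curv2.normalization D) ≤ 1 :=
    (SchTopo.Basic.topologicalKrullDim_le_of_specializes_eq ν fun a b h e =>
      SchTopo.Basic.isIntegralHom_eq_of_specializes _ h e).trans hD.le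
  have hdim : topologicalKrullDim ↥(Curv2.normalization D) = 1 := by
    refine le_antisymm hle ?_
    have h1 := VarDim.Fibre.pdim_apply_le (ν ≫ (D ↘ Spec (CommRingCat.of k))) (D ↘ Spec (CommRingCat.of k)) ν rfl
      (genericPoint (Curv2.normalization D))
    haveI : IsDominant ν := inferInstance
    rw [SchTopo.Basic.topologicalKrullDim_eq_krullDim_scheme] at *
    have h2 : ν (genericPoint (Curv2.normalization D)) = genericPoint D := by
      have hg := (genericPoint_spec (Curv2.normalization D)).image ν.continuous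
      rw [Set.image_univ, Set.range_eq_univ.2 hsurj, closure_univ] at hg
      exact hg.eq (genericPoint_spec D)
    rw [h2] at h1
    have e1 := VarDim.Basic.topologicalKrullDim_irreducibleSpace (D ↘ Spec (CommRingCat.of k))
    have e2 := VarDim.Basic.topologicalKrullDim_irreducibleSpace (ν ≫ (D ↘ Spec (CommRingCat.of k)))
    rw [SchTopo.Basic.topologicalKrullDim_eq_krullDim_scheme] at e1 e2
    rw [e1] at hD
    rw [e2, ← hD]
    exact_mod_cast h1
  refine ⟨_, ν, inferInstance, inferInstance, hdim, fun z => ?_, hsurj⟩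
  haveI := Normalization.DimOne.isIntegrallyClosed_stalk D hD.le z
  have hd := DimOneSetup.ringKrullDim_stalk_le_one hle z
  rcases hd.lt_or_eq with h | h
  · haveI : Ring.KrullDimLE 0 ((Curv2.normalization D).presheaf.stalk z) :=
      Ring.krullDimLE_iff.2 (Order.le_of_lt_succ h)
    letI : Field ((Curv2.normalization D).presheaf.stalk z) :=
      (Ring.KrullDimLE.isField_of_isDomain).toField
    infer_instance
  · exact H4.CurveThrough.isRegularLocalRing_of_normal_dimOne _ h

variable {X Y : Scheme.{u}} [X.Over (Spec (CommRingCat.of k))] [IsProper (X ↘ Spec (CommRingCat.of k))]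
  [Y.Over (Spec (CommRingCat.of k))] [IsProper (Y ↘ Spec (CommRingCat.of k))]

/-- The degree of a pullback between integral curves. -/
theorem deg_pullback [IsIntegral X] [IsIntegral Y] (hX : topologicalKrullDim X = 1) (hY : topologicalKrullDim Y = 1)
    (h : Y ⟶ X) (hh : h ≫ (X ↘ Spec (CommRingCat.of k)) = Y ↘ Spec (CommRingCat.of k))
    (hgen : h (genericPoint Y) = genericPoint X) {M : X.Modules} (hM : PicF.IsInvertible M) :
    ∃ r : ℕ, 0 < r ∧ Curv2.deg k Y ((Scheme.Modules.pullback h).obj M) 1 = r * Curv2.deg k X M 1 := by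
  haveI := Curves.GlobalSections.isNoetherian_of_proper k X
  haveI := Curves.GlobalSections.isNoetherian_of_proper k Y
  haveI := IntTheory.Push.isProper h hh
  have hdeg : ∀ {Z : Scheme.{u}} [Z.Over (Spec (CommRingCat.of k))] [IsProper (Z ↘ Spec (CommRingCat.of k))]
      [IsIntegral Z], topologicalKrullDim Z = 1 → ∀ {L : Z.Modules}, PicF.IsInvertible L →
      Curv2.euler k Z (CohB1.tensorMod (Cyc.closureStructureSheaf (genericPoint Z)) L) -
        Curv2.euler k Z (Cyc.closureStructureSheaf (genericPoint Z)) = Curv2.deg k Z L 1 := by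
    intro Z _ _ _ hZ L hL
    haveI := Curves.GlobalSections.isNoetherian_of_proper k Z
    rw [CurveLift.euler_diff L (N := 1) hZ.le,
      Nakai.Top.sym_generic (k := k) (n := 1) hZ (l := [L]) (fun N hN => by rw [List.mem_singleton.1 hN]; exact hL) rfl]
    unfold Curv2.deg
    rw [Curves.Euler.euler_eq_of_iso (TensorMod.Basic.rightUnit L).symm, Chi.euler_eq_eulerCharLE (d := 1) hZ.le,
      Chi.euler_eq_eulerCharLE (d := 1) hZ.le, Nat.cast_one, one_mul]
    exact neg_sub _ _
  have hyd := Nakai.Top.pd_generic (k := k) (X := Y) (n := 1) hY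
  have hxd := Nakai.Top.pd_generic (k := k) (X := X) (n := 1) hX
  have e := CurveLift.euler_diff_pullback h hh hM (y := genericPoint Y) hyd
  rw [hdeg hY (PicLoc.isInvertible_pullback h hM), hgen, hdeg hX hM] at e
  refine ⟨h.residueDegree (genericPoint Y), ?_, e⟩
  refine Cyc.Residue.residueDegree_pos_of_eq
    (PushInt.deltaCompat (X ↘ Spec (CommRingCat.of k)) (Y ↘ Spec (CommRingCat.of k)) h hh) _ ?_
  rw [VarDim.Basic.fdelta_eq, VarDim.Basic.fdelta_eq, hgen]
  exact congrArg Nat.cast (hyd.trans hxd.symm)

theorem main (f : Y ⟶ X) (hf : f ≫ (X ↘ Spec (CommRingCat.of k)) = Y ↘ Spec (CommRingCat.of k)) [Surjective f]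
    (E : X.Modules)
    (hnef : ∀ (C : Scheme.{u}) [C.Over (Spec (CommRingCat.of k))] [IsProper (C ↘ (Spec (CommRingCat.of k)))] [IsIntegral C],
      topologicalKrullDim C = 1 → (∀ x : C, IsRegularLocalRing (C.presheaf.stalk x)) →
      ∀ (g : C ⟶ Y), g ≫ (Y ↘ (Spec (CommRingCat.of k))) = C ↘ (Spec (CommRingCat.of k)) →
      ∀ (M : C.Modules), PicF.IsInvertible M →
      ∀ (q : (Scheme.Modules.pullback g).obj ((Scheme.Modules.pullback f).obj E) ⟶ M), Epi q → 0 ≤ Curv2.deg k C M 1)
    (C : Scheme.{u}) [C.Over (Spec (CommRingCat.of k))] [IsProper (C ↘ (Spec (CommRingCat.of k)))] [IsIntegral C]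
    (hC : topologicalKrullDim C = 1) (g : C ⟶ X)
    (hg : g ≫ (X ↘ (Spec (CommRingCat.of k))) = C ↘ (Spec (CommRingCat.of k)))
    (M : C.Modules) (hM : PicF.IsInvertible M) (q : (Scheme.Modules.pullback g).obj E ⟶ M) (hq : Epi q) :
    0 ≤ Curv2.deg k C M 1 := by
  haveI := Curves.GlobalSections.isNoetherian_of_proper k X
  haveI := Curves.GlobalSections.isNoetherian_of_proper k Y
  haveI := IntTheory.Push.isProper f hf
  -- the fibre product
  let P := Limits.pullback f g
  let snd : P ⟶ C := Limits.pullback.snd f g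
  let fst : P ⟶ Y := Limits.pullback.fst f g
  letI : P.Over (Spec (CommRingCat.of k)) := ⟨snd ≫ (C ↘ Spec (CommRingCat.of k))⟩
  haveI : IsProper snd := inferInstanceAs (IsProper (Limits.pullback.snd f g))
  haveI : Surjective snd := inferInstanceAs (Surjective (Limits.pullback.snd f g))
  haveI : IsProper (P ↘ Spec (CommRingCat.of k)) := inferInstanceAs (IsProper (snd ≫ _))
  haveI := Curves.GlobalSections.isNoetherian_of_proper k P
  obtain ⟨w, hw, hwd⟩ := CurveLift.exists_point (C ↘ Spec (CommRingCat.of k)) (P ↘ Spec (CommRingCat.of k))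
    snd rfl (genericPoint C)
  replace hwd := hwd.trans (Nakai.Top.pd_generic (k := k) (X := C) (n := 1) hC)
  -- the curve upstairs and its normalisation
  let ι := (_root_.IntMult.ptIdeal w).subschemeι
  letI : (_root_.IntMult.ptIdeal w).subscheme.Over (Spec (CommRingCat.of k)) :=
    ⟨ι ≫ (P ↘ Spec (CommRingCat.of k))⟩
  haveI : IsProper ((_root_.IntMult.ptIdeal w).subscheme ↘ Spec (CommRingCat.of k)) :=
    inferInstanceAs (IsProper (ι ≫ (P ↘ Spec (CommRingCat.of k))))
  haveI := IntTheory.Curves.isIntegral_ptIdeal w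
  have hD : topologicalKrullDim (_root_.IntMult.ptIdeal w).subscheme = 1 := by
    rw [IntTheory.Curves.dim_ptIdeal,
      VarDim.Basic.topologicalKrullDim_isGenericPoint (P ↘ Spec (CommRingCat.of k))
        (isGenericPoint_closure (x := w)), hwd]
    rfl
  obtain ⟨C', ν, hν, hC'i, hC'd, hreg, hsurj⟩ := exists_regular (k := k) hD
  letI : C'.Over (Spec (CommRingCat.of k)) := ⟨ν ≫ ι ≫ (P ↘ Spec (CommRingCat.of k))⟩
  haveI : IsProper (C' ↘ Spec (CommRingCat.of k)) := hν
  haveI := hC'i
  let h : C' ⟶ C := ν ≫ ι ≫ snd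
  let g' : C' ⟶ Y := ν ≫ ι ≫ fst
  have hh : h ≫ (C ↘ Spec (CommRingCat.of k)) = C' ↘ Spec (CommRingCat.of k) := by
    simp only [h, Category.assoc]; rfl
  have hcomm : g' ≫ f = h ≫ g := by simp only [g', h, fst, snd, Category.assoc, Limits.pullback.condition]
  have hg' : g' ≫ (Y ↘ Spec (CommRingCat.of k)) = C' ↘ Spec (CommRingCat.of k) := by
    rw [← hf, ← Category.assoc, hcomm, Category.assoc, hg, hh]
  have hgen : h (genericPoint C') = genericPoint C := by
    have h1 : ν (genericPoint C') = genericPoint (_root_.IntMult.ptIdeal w).subscheme := by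
      have hg := (genericPoint_spec C').image ν.continuous
      rw [Set.image_univ, Set.range_eq_univ.2 hsurj, closure_univ] at hg
      exact hg.eq (genericPoint_spec _)
    have h2 : ι (genericPoint (_root_.IntMult.ptIdeal w).subscheme) = w := by
      have hg := (genericPoint_spec (_root_.IntMult.ptIdeal w).subscheme).image ι.continuous
      rw [Set.image_univ, Devissage.Closure.range_ptIdeal, closure_closure] at hg
      exact hg.eq isGenericPoint_closure
    simp only [h, Scheme.Hom.comp_apply, h1, h2, hw]
  haveI := hq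
  haveI : PreservesColimitsOfSize.{u, u} (Scheme.Modules.pullback h) :=
    (Scheme.Modules.pullbackPushforwardAdjunction h).leftAdjoint_preservesColimits
  haveI : (Scheme.Modules.pullback h).PreservesEpimorphisms :=
    Functor.preservesEpimorphisms_of_adjunction (Scheme.Modules.pullbackPushforwardAdjunction h)
  haveI : Epi ((Scheme.Modules.pullback h).map q) := Functor.map_epi _ q
  have key := hnef C' hC'd hreg g' hg' _ (PicLoc.isInvertible_pullback h hM)
    ((((Scheme.Modules.pullbackComp g' f).app E) ≪≫ (Scheme.Modules.pullbackCongr hcomm).app E ≪≫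
      ((Scheme.Modules.pullbackComp h g).app E).symm).hom ≫ (Scheme.Modules.pullback h).map q) inferInstance
  obtain ⟨r, hr, e⟩ := deg_pullback (k := k) hC hC'd h hh hgen hM
  rw [e] at key
  exact nonneg_of_mul_nonneg_right key (by exact_mod_cast hr)

end Groth.Agent.H97.NefCurve
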