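import Groth.Agent.H97.NefBC
import Groth.Agent.H97.NefCurve
import Groth.Agent.H97.DegCurve
import Groth.Agent.S17284

/-! Nef bundles through their projective bundles; base change. -/

set_option autoImplicit false
set_option linter.style.haveILetI false
universe u
open CategoryTheory CategoryTheory.Limits AlgebraicGeometry

namespace Groth.Agent.H97.NefBundle

open Groth.Agent.Lib Groth.Agent.Lib.Snapper

variable {k : Type u} [Field k] {X : Scheme.{u}} [X.Over (Spec (CommRingCat.of k))]
  [IsProper (X ↘ Spec (CommRingCat.of k))]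

/-- Nef in the curve-test sense. -/
def NefTest (k : Type u) [Field k] {X : Scheme.{u}} [X.Over (Spec (CommRingCat.of k))] (E : X.Modules) : Prop :=
  ∀ (C : Scheme.{u}) [C.Over (Spec (CommRingCat.of k))] [IsProper (C ↘ (Spec (CommRingCat.of k)))] [IsIntegral C],
    topologicalKrullDim C = 1 → (∀ x : C, IsRegularLocalRing (C.presheaf.stalk x)) →
    ∀ (f : C ⟶ X), f ≫ (X ↘ (Spec (CommRingCat.of k))) = C ↘ (Spec (CommRingCat.of k)) →
    ∀ (M : C.Modules), PicF.IsInvertible M →
    ∀ (q : (Scheme.Modules.pullback f).obj E ⟶ M), Epi q → 0 ≤ Curv2.deg k C M 1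

theorem deg_nonneg_of_nefCl {C : Scheme.{u}} [C.Over (Spec (CommRingCat.of k))]
    [IsProper (C ↘ Spec (CommRingCat.of k))] [IsIntegral C] (hC : topologicalKrullDim C = 1)
    (h : C ⟶ X) (hh : h ≫ (X ↘ Spec (CommRingCat.of k)) = C ↘ Spec (CommRingCat.of k))
    {L : X.Modules} (hL : PicF.IsInvertible L) (hnef : NefBC.NefCl k L) :
    0 ≤ Curv2.deg k C ((Scheme.Modules.pullback h).obj L) 1 := by
  refine Groth.Agent.S17276.result k C hC _ (PicLoc.isInvertible_pullback h hL) fun Z hZ hd => ?_
  haveI := hZ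
  obtain ⟨hI, -, hy⟩ := CurveLift.genPt (C ↘ Spec (CommRingCat.of k)) Z (d := 1) hd
  rw [hI]
  generalize Z.subschemeι (genericPoint Z.subscheme) = y at hy
  change 0 ≤ Curv2.euler k C (CohB1.tensorMod (Cyc.closureStructureSheaf y) ((Scheme.Modules.pullback h).obj L)) -
    Curv2.euler k C (Cyc.closureStructureSheaf y)
  rw [CurveLift.euler_diff_pullback h hh hL hy]
  by_cases hx : VarDim.Basic.pdim (X ↘ Spec (CommRingCat.of k)) (h y) = 1
  · refine mul_nonneg (Int.natCast_nonneg _) ?_
    exact hnef _ (IntTheory.Curves.isIntegral_ptIdeal (h y)) (by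
      rw [CurveLift.dim_support_ptIdeal (X ↘ Spec (CommRingCat.of k)) (h y), hx]; rfl)
  · rw [PushInt.residueDegree_eq_zero (X ↘ Spec (CommRingCat.of k)) (C ↘ Spec (CommRingCat.of k)) h hh (y := y)
      (by rw [hy]; exact hx)]
    simp

/-- A line quotient of the pullback of a nef module is nef. -/
theorem nefCl_quotient {E : X.Modules} (hE : NefTest k E) {P : Scheme.{u}}
    [P.Over (Spec (CommRingCat.of k))] [IsProper (P ↘ Spec (CommRingCat.of k))] (p : P ⟶ X)
    (hp : p ≫ (X ↘ Spec (CommRingCat.of k)) = P ↘ Spec (CommRingCat.of k))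
    {O1 : P.Modules} (hO : PicF.IsInvertible O1) (q : (Scheme.Modules.pullback p).obj E ⟶ O1) [Epi q] :
    NefBC.NefCl k O1 := by
  intro Z hZ hd
  haveI := hZ
  obtain ⟨hI, -, hy⟩ := CurveLift.genPt (P ↘ Spec (CommRingCat.of k)) Z (d := 1) hd
  letI : Z.subscheme.Over (Spec (CommRingCat.of k)) := ⟨Z.subschemeι ≫ (P ↘ Spec (CommRingCat.of k))⟩
  haveI : IsProper (Z.subscheme ↘ Spec (CommRingCat.of k)) :=
    inferInstanceAs (IsProper (Z.subschemeι ≫ (P ↘ Spec (CommRingCat.of k))))
  have hZ1 : topologicalKrullDim Z.subscheme = 1 := by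
    rw [Z.subschemeι.isClosedEmbedding.isEmbedding.toHomeomorph.isHomeomorph.topologicalKrullDim_eq,
      Z.range_subschemeι]
    exact hd
  obtain ⟨C', ν, hν, hC'i, hC'd, hreg, hsurj⟩ := NefCurve.exists_regular (k := k) hZ1
  letI : C'.Over (Spec (CommRingCat.of k)) := ⟨ν ≫ Z.subschemeι ≫ (P ↘ Spec (CommRingCat.of k))⟩
  haveI : IsProper (C' ↘ Spec (CommRingCat.of k)) := hν
  haveI := hC'i
  let h : C' ⟶ P := ν ≫ Z.subschemeι
  have hh : h ≫ (P ↘ Spec (CommRingCat.of k)) = C' ↘ Spec (CommRingCat.of k) := by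
    simp only [h, Category.assoc]; rfl
  have hgen : h (genericPoint C') = Z.subschemeι (genericPoint Z.subscheme) := by
    have h1 : ν (genericPoint C') = genericPoint Z.subscheme := by
      have hg := (genericPoint_spec C').image ν.continuous
      rw [Set.image_univ, Set.range_eq_univ.2 hsurj, closure_univ] at hg
      exact hg.eq (genericPoint_spec _)
    simp only [h, Scheme.Hom.comp_apply, h1]
  have hη := Lib.Nakai.Top.pd_generic (k := k) (X := C') (n := 1) hC'd
  have e := CurveLift.euler_diff_pullback h hh hO (y := genericPoint C') hη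
  rw [DegCurve.euler_diff_generic hC'd (PicLoc.isInvertible_pullback h hO), hgen] at e
  haveI : (Scheme.Modules.pullback h).PreservesEpimorphisms :=
    Functor.preservesEpimorphisms_of_adjunction (Scheme.Modules.pullbackPushforwardAdjunction h)
  haveI : Epi ((Scheme.Modules.pullback h).map q) := Functor.map_epi _ q
  have key := hE C' hC'd hreg (h ≫ p) (by rw [Category.assoc, hp, hh]) _
    (PicLoc.isInvertible_pullback h hO)
    (((Scheme.Modules.pullbackComp h p).app E).inv ≫ (Scheme.Modules.pullback h).map q) inferInstance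
  rw [e] at key
  rw [hI]
  haveI := Curves.GlobalSections.isNoetherian_of_proper k C'
  haveI := Curves.GlobalSections.isNoetherian_of_proper k P
  haveI : IsProper h := IntTheory.Push.isProper h hh
  have hpos : (0 : ℤ) < h.residueDegree (genericPoint C') := Int.natCast_pos.2
    (Cyc.Residue.residueDegree_pos_of_eq
      (PushInt.deltaCompat (P ↘ Spec (CommRingCat.of k)) (C' ↘ Spec (CommRingCat.of k)) h hh) _ (by
        rw [VarDim.Basic.fdelta_eq, VarDim.Basic.fdelta_eq, hgen, hy]
        exact congrArg Nat.cast hη))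
  exact nonneg_of_mul_nonneg_right key hpos

end Groth.Agent.H97.NefBundle
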