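import Groth.Agent.H97.IpCut
import Groth.Agent.H97.CurvePositivity
import Groth.Agent.Lib.Cyc.CH.BdlExists
import Groth.Agent.Lib.Cyc.CH.Bdl
import Groth.Agent.Lib.Cyc.CH.Fund
import Groth.Agent.Lib.CurveBundle.DetDeg
import Groth.Agent.Lib.CurveBundle.RankTwoExt
import Groth.Agent.Lib.ProjMor.Comp
import Groth.Agent.S5722

/-! A nef bundle on a curve has nonnegative degree. -/

set_option autoImplicit false
set_option linter.style.haveILetI false
set_option linter.unusedSectionVars false
universe u
open CategoryTheory CategoryTheory.Limits AlgebraicGeometry TopologicalSpace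

noncomputable section

namespace Groth.Agent.H97.NefDeg

open Groth.Agent.Lib Groth.Agent.Lib.Snapper Groth.Agent.Lib.Nakai Groth.Agent.Lib.IntTheory
open Groth.Agent.Lib.TensorMod.Basic (tensorIso leftUnit rightUnit)
open Groth.Agent.Lib.TensorMod.Invertible (isInvertible_tensorMod isInvertible_tensorPow isInvertible_dual tensorDualIso)
open Groth.Agent.Lib.TensorMod.Dual (dual)

local notation "pb" => Scheme.Modules.pullback

theorem exists_twist_ample {k' : Type u} [Field k'] {C : Scheme.{u}} [C.Over (Spec (CommRingCat.of k'))]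
    [IsIntegral C] [IsProper (C ↘ Spec (CommRingCat.of k'))] (hdimC : topologicalKrullDim C = 1) {H B : C.Modules}
    (hH : PicF.IsInvertible H) (hd : 0 < Curv2.deg k' C H 1) (hB : PicF.IsInvertible B) :
    ∃ m : ℕ, CohB1.IsAmple (CohB1.tensorMod B (CohB1.tensorPow H m)) := by
  set m := (-Curv2.deg k' C B 1).toNat + 1 with hm
  refine ⟨m, H97.CurvePositivity.isAmple_of_deg_pos (k := k') hdimC
    (isInvertible_tensorMod hB (isInvertible_tensorPow hH m)) ?_⟩
  have h := H97.CurveEuler.deg_tensor (k := k') hdimC.le (TensorMod.LocFree.of_isInvertible hB)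
    (TensorMod.LocFree.of_isInvertible (isInvertible_tensorPow hH m))
  rw [one_mul, H97.CurvePositivity.deg_tensorPow (k := k') hdimC.le hH] at h
  rw [h]
  have h2 : (m : ℤ) ≤ (m : ℤ) * Curv2.deg k' C H 1 := le_mul_of_one_le_right (by positivity) hd
  push_cast
  omega

open Groth.Agent.Lib.Ample Groth.Agent.Lib.Ample.GenLocus Groth.Agent.Lib.Ample.GG Groth.Agent.Lib.TensorMod
  Groth.Agent.Lib.TensorMod.Dual Groth.Agent.Lib.TensorMod.Gen in
/-- A generating section is surjective on stalks. -/
theorem surjective_of_mem_genLocus {C : Scheme.{u}} {L : C.Modules} (s : Coh.structureModule C ⟶ L) {x : C}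
    (hx : x ∈ CohB1.genLocus L s) : Function.Surjective (Groth.Agent.Lib.Modules.StalkModule.stalkMapₗ s x) := by
  intro v
  obtain ⟨W, hxW, c, rfl⟩ := TopCat.Presheaf.exists_germ_eq L.presheaf v
  obtain ⟨a, ha⟩ := exists_coord ((Groth.Agent.Lib.Ample.Basis.isGen_genLocus s).res (inf_le_left : CohB1.genLocus L s ⊓ W ≤ _))
    (rs L inf_le_right c)
  refine ⟨gm (M := Coh.structureModule C) (U := CohB1.genLocus L s ⊓ W) (show x ∈ CohB1.genLocus L s ⊓ W from ⟨hx, hxW⟩) (a • one C _),
    (Groth.Agent.Lib.Modules.StalkModule.stalkMapₗ_germ _ _ _).trans ?_⟩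
  rw [Scheme.Modules.Hom.app_smul]
  exact (congrArg (gm (⟨hx, hxW⟩ : x ∈ CohB1.genLocus L s ⊓ W))
    ((congrArg (a • ·) (rs_sv s inf_le_left).symm).trans ha.symm)).trans (gm_rs _ _ _)

variable {k : Type u} [Field k] {P : Scheme.{u}} [P.Over (Spec (CommRingCat.of k))]
  [IsProper (P ↘ Spec (CommRingCat.of k))] {N : ℕ} (hN : topologicalKrullDim P ≤ N)
  {C : Scheme.{u}} [IsIntegral C] {π : P ⟶ C} {ξ : P.Modules} (hξ : PicF.IsInvertible ξ)

/-- `ξ ⊗ π^*B`. -/
abbrev tw (π : P ⟶ C) (ξ : P.Modules) (B : C.Modules) : P.Modules :=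
  CohB1.tensorMod ξ ((pb π).obj B)

omit [P.Over (Spec (CommRingCat.of k))] [IsProper (P ↘ Spec (CommRingCat.of k))] [IsIntegral C] in
include hξ in
theorem tw_inv {L : C.Modules} (hL : PicF.IsInvertible L) : PicF.IsInvertible (tw π ξ L) :=
  isInvertible_tensorMod hξ (PicLoc.isInvertible_pullback π hL)

theorem ip_cons_iso {L L' : P.Modules} (e : L ≅ L') (l : List P.Modules) (y : P) :
    Cut.ip k N (L :: l) y = Cut.ip k N (L' :: l) y := by
  rw [Cut.ip, Cut.ip, Vanish.sym_cons, Vanish.sym_cons, List.length_cons, List.length_cons,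
    Vanish.sym_of_iso l (tensorIso e (Iso.refl (Cyc.closureStructureSheaf y)))]

include hN

/-- The dual gives the negative. -/
theorem ip_dual {L : C.Modules} (hL : PicF.IsInvertible L) {l : List P.Modules}
    (hl : ∀ M ∈ l, PicF.IsInvertible M) {y : P} (hy : Main.pd k y ≤ l.length + 1) :
    Cut.ip k N ((pb π).obj (dual L) :: l) y = - Cut.ip k N ((pb π).obj L :: l) y := by
  have h := Cut.ip_tensor (k := k) hN (PicLoc.isInvertible_pullback π hL)
    (PicLoc.isInvertible_pullback π (isInvertible_dual hL)) hl hy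
  rw [ip_cons_iso ((TensorMod.Pullback.pullbackTensorIso π L (dual L)).symm ≪≫
    (pb π).mapIso (tensorDualIso hL) ≪≫ PicLoc.pullbackStructureIso π) l y, IpCut.ip_unit hl] at h
  omega

/-- On a subvariety over a closed point, pullbacks from the base meet trivially. -/
theorem ip_pullback_of_ne {A : C.Modules} (hA : PicF.IsInvertible A) {l : List P.Modules}
    (hl : ∀ M ∈ l, PicF.IsInvertible M) {z : P} (hz : π z ≠ genericPoint C)
    (hdimC : topologicalKrullDim C = 1) (hpd : Main.pd k z = l.length + 1) :
    Cut.ip k N ((pb π).obj A :: l) z = 0 := by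
  have hcl : IsClosed ({π z} : Set C) := (SmoothCurve.Curve.eq_genericPoint_or_isClosed hdimC (π z)).resolve_left hz
  obtain ⟨U, hxU, ⟨t⟩⟩ := hA (π z)
  set i := (IntMult.ptIdeal z).subschemeι
  have hrange : Set.range (i ≫ π) ⊆ Set.range U.ι := by
    rintro _ ⟨w, rfl⟩
    have h1 : z ⤳ i w := specializes_iff_mem_closure.2
      (Devissage.Closure.range_ptIdeal z ▸ Set.mem_range_self w)
    have h2 : π (i w) ∈ ({π z} : Set C) := hcl.closure_subset (h1.map π.continuous).mem_closure
    rw [Scheme.Opens.range_ι, Scheme.Hom.comp_apply, Set.mem_singleton_iff.1 h2]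
    exact hxU
  let h := IsOpenImmersion.lift U.ι (i ≫ π) hrange
  let eA : (pb i).obj ((pb π).obj A) ≅ Coh.structureModule _ :=
    (Scheme.Modules.pullbackComp i π).app A ≪≫
      (Scheme.Modules.pullbackCongr (IsOpenImmersion.lift_fac U.ι (i ≫ π) hrange).symm).app A ≪≫
      ((Scheme.Modules.pullbackComp h U.ι).app A).symm ≪≫
      (pb h).mapIso (((Scheme.Modules.restrictFunctorIsoPullback U.ι).app A).symm ≪≫ t) ≪≫
      PicLoc.pullbackStructureIso h
  have hAi := PicLoc.isInvertible_pullback i (PicLoc.isInvertible_pullback π hA)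
  have hF := TensorMod.LocFree.of_rank (TensorMod.LocFree.of_isInvertible hAi)
  haveI := TensorMod.QCohInv.isQCoh_of_isInvertible hAi
  haveI := TensorMod.QCohInv.isQCoh_of_isInvertible
    (PicLoc.isInvertible_pullback i (PicLoc.isInvertible_structureModule P))
  let σ : (pb i).obj (Coh.structureModule P) ⟶ (pb i).obj ((pb π).obj A) :=
    (PicLoc.pullbackStructureIso i ≪≫ eA.symm).hom
  have hno : ∀ w, w ∉ IpCut.zset σ hF := fun w => IpCut.notMem_zset σ hF hAi inferInstance
  haveI : Nonempty (IntMult.ptIdeal z).subscheme := (IntTheory.Curves.isIntegral_ptIdeal z).nonempty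
  rw [IpCut.ip_eq_of_map hN hl (PicLoc.isInvertible_structureModule P) (PicLoc.isInvertible_pullback π hA)
    hpd σ hF ⟨Classical.arbitrary _, hno _⟩ fun w hw _ => absurd hw (hno w), IpCut.ip_unit hl]

/-- Two pullbacks from the curve meet trivially. -/
theorem ip_pair_zero {k' : Type u} [Field k'] [C.Over (Spec (CommRingCat.of k'))]
    [IsProper (C ↘ Spec (CommRingCat.of k'))]
    (hdimC : topologicalKrullDim C = 1) {A H B : C.Modules} (hA : PicF.IsInvertible A)
    (hH0 : PicF.IsInvertible H) (hHd : 0 < Curv2.deg k' C H 1) (hB : PicF.IsInvertible B)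
    {l : List P.Modules} (hl : ∀ M ∈ l, PicF.IsInvertible M) {y : P} (hy : π y = genericPoint C)
    (hpd : Main.pd k y = l.length + 2) :
    Cut.ip k N ((pb π).obj B :: (pb π).obj A :: l) y = 0 := by
  have hl' : ∀ M ∈ (pb π).obj A :: l, PicF.IsInvertible M := fun M hM => by
    rcases List.mem_cons.1 hM with rfl | hM
    exacts [PicLoc.isInvertible_pullback π hA, hl M hM]
  have hamp : ∀ B' : C.Modules, CohB1.IsAmple B' → Cut.ip k N ((pb π).obj B' :: (pb π).obj A :: l) y = 0 := by
    intro B' hB'
    obtain ⟨n, s, hs, -⟩ := hB'.2.2 (genericPoint C)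
    have hM := isInvertible_tensorPow hB'.1 (n + 1)
    set i := (IntMult.ptIdeal y).subschemeι
    have hMi := PicLoc.isInvertible_pullback i (PicLoc.isInvertible_pullback π hM)
    have hF := TensorMod.LocFree.of_rank (TensorMod.LocFree.of_isInvertible hMi)
    haveI := TensorMod.QCohInv.isQCoh_of_isInvertible hMi
    haveI := TensorMod.QCohInv.isQCoh_of_isInvertible
      (PicLoc.isInvertible_pullback i (PicLoc.isInvertible_pullback π (PicLoc.isInvertible_structureModule C)))
    let σ := (pb i).map ((pb π).map s)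
    have hgood : ∀ w, π (i w) = genericPoint C → w ∉ IpCut.zset σ hF := by
      intro w hw
      refine IpCut.notMem_zset σ hF hMi ?_
      let g := (IntMult.ptIdeal y).subscheme.fromSpecResidueField w
      have hepi : Epi ((pb (g ≫ i ≫ π)).map s) := by
        refine Cyc.CH.epi_pullback_of_surjective _ s fun x => ?_
        rw [Scheme.Hom.comp_apply, Scheme.Hom.comp_apply, Scheme.fromSpecResidueField_apply, hw]
        exact surjective_of_mem_genLocus s hs
      let e : pb i ⋙ pb g ≅ pb (g ≫ i) := Scheme.Modules.pullbackComp g i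
      let e' : pb π ⋙ pb (g ≫ i) ≅ pb ((g ≫ i) ≫ π) := Scheme.Modules.pullbackComp (g ≫ i) π
      let e'' : pb π ⋙ pb i ⋙ pb g ≅ pb (g ≫ i ≫ π) :=
        Functor.isoWhiskerLeft (pb π) e ≪≫ e' ≪≫ Scheme.Modules.pullbackCongr (Category.assoc g i π)
      have hnat := e''.hom.naturality s
      haveI := hepi
      haveI : Epi ((pb g).map σ ≫ e''.hom.app (CohB1.tensorPow B' (n + 1))) := by
        change Epi ((pb π ⋙ pb i ⋙ pb g).map s ≫ e''.hom.app _)
        rw [hnat]; infer_instance
      have : Epi (((pb g).map σ ≫ e''.hom.app (CohB1.tensorPow B' (n + 1))) ≫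
          e''.inv.app (CohB1.tensorPow B' (n + 1))) := epi_comp _ _
      simpa using this
    haveI : IsIntegral (IntMult.ptIdeal y).subscheme := IntTheory.Curves.isIntegral_ptIdeal y
    obtain ⟨w₀, hw₀⟩ : y ∈ Set.range i := by
      rw [show i = (IntMult.ptIdeal y).subschemeι from rfl, Devissage.Closure.range_ptIdeal]
      exact subset_closure rfl
    have h1 := IpCut.ip_eq_of_map hN hl' (PicLoc.isInvertible_pullback π (PicLoc.isInvertible_structureModule C))
      (PicLoc.isInvertible_pullback π hM) (y := y) (by simpa using hpd) σ hF ⟨w₀, hgood w₀ ((congrArg π hw₀).trans hy)⟩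
      fun w hw hwd => ip_pullback_of_ne hN hA hl (fun h => hgood w h hw) hdimC (by simpa using hwd)
    rw [ip_cons_iso (PicLoc.pullbackStructureIso π), IpCut.ip_unit hl',
      ip_cons_iso (Ample.Pow.pullbackPow π B' (n + 1)),
      Cut.ip_pow (k := k) hN (PicLoc.isInvertible_pullback π hB'.1) hl' (by simp [hpd])] at h1
    exact (mul_eq_zero.1 h1).resolve_left (by exact_mod_cast n.succ_ne_zero)
  have hH := H97.CurvePositivity.isAmple_of_deg_pos (k := k') hdimC hH0 hHd
  obtain ⟨m, hm⟩ := exists_twist_ample (k' := k') hdimC hH0 hHd hB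
  have h1 := hamp _ hm
  rw [ip_cons_iso (TensorMod.Pullback.pullbackTensorIso π _ _),
    Cut.ip_tensor (k := k) hN (PicLoc.isInvertible_pullback π hB)
      (PicLoc.isInvertible_pullback π (isInvertible_tensorPow hH.1 m)) hl' (by simp [hpd]),
    ip_cons_iso (Ample.Pow.pullbackPow π H m),
    Cut.ip_pow (k := k) hN (PicLoc.isInvertible_pullback π hH.1) hl' (by simp [hpd]), hamp H hH, mul_zero,
    add_zero] at h1
  exact h1

omit hN

theorem descend {W : Scheme.{u}} (i : W ⟶ P) {L M F : C.Modules} (a : L ⟶ M) (b : M ⟶ F) (hab : a ≫ b = 0)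
    (hex : (ShortComplex.mk a b hab).ShortExact) (ψ : (pb i).obj ((pb π).obj M) ⟶ (pb i).obj ξ) [Epi ψ]
    (h : (pb i).map ((pb π).map a) ≫ ψ = 0) :
    ∃ φ : (pb i).obj ((pb π).obj F) ⟶ (pb i).obj ξ, Epi φ := by
  haveI : PreservesColimitsOfSize.{0, 0} (pb π) :=
    (Scheme.Modules.pullbackPushforwardAdjunction π).leftAdjoint_preservesColimits
  haveI : PreservesColimitsOfSize.{0, 0} (pb i) :=
    (Scheme.Modules.pullbackPushforwardAdjunction i).leftAdjoint_preservesColimits
  haveI : (pb π).PreservesZeroMorphisms :=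
    Functor.preservesZeroMorphisms_of_preserves_initial_object
  haveI : (pb i).PreservesZeroMorphisms :=
    Functor.preservesZeroMorphisms_of_preserves_initial_object
  haveI : Epi (ShortComplex.mk a b hab).g := hex.epi_g
  have hc := CokernelCofork.mapIsColimit _
    (CokernelCofork.mapIsColimit _ hex.gIsCokernel (pb π)) (pb i)
  obtain ⟨φ₀, hφ₀⟩ := CokernelCofork.IsColimit.desc' hc ψ h
  let φ : (pb i).obj ((pb π).obj F) ⟶ (pb i).obj ξ := φ₀
  exact ⟨φ, epi_of_epi_fac (show (pb i).map ((pb π).map b) ≫ φ = ψ from hφ₀)⟩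

include hN hξ

/-- The product of `ξ - L` over a filtration kills every point where the quotient factors through. -/
theorem vanish {F : C.Modules} {l : List C.Modules} (hl : Cyc.CH.Filt F l) :
    ∀ (y : P) (ψ : (pb (IntMult.ptIdeal y).subschemeι).obj ((pb π).obj F) ⟶
        (pb (IntMult.ptIdeal y).subschemeι).obj ξ), Epi ψ →
      ∀ r : List P.Modules, (∀ M ∈ r, PicF.IsInvertible M) → Main.pd k y = l.length + r.length →
        Cut.ip k N (l.map (fun L => tw π ξ (dual L)) ++ r) y = 0 := by
  induction hl with
  | zero hz =>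
    intro y ψ hψ r _ _
    haveI : Nonempty (IntMult.ptIdeal y).subscheme := (IntTheory.Curves.isIntegral_ptIdeal y).nonempty
    haveI := hψ
    exact (Cyc.CH.SubMap.isEmpty_of_isZero (TensorMod.LocFree.of_isInvertible (PicLoc.isInvertible_pullback _ hξ))
      ψ (Functor.map_isZero _ (Functor.map_isZero _ hz)) (Classical.arbitrary _)).elim
  | @cons L M C' l hL a b hab hex h ih =>
    intro y ψ hψ r hr hpd
    have hl := h.inv
    have hrest : ∀ Q ∈ l.map (fun L => tw π ξ (dual L)) ++ r, PicF.IsInvertible Q := fun Q hQ => by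
      rcases List.mem_append.1 hQ with hQ | hQ
      · obtain ⟨L', hL', rfl⟩ := List.mem_map.1 hQ
        exact tw_inv hξ (isInvertible_dual (hl L' hL'))
      · exact hr Q hQ
    rw [List.length_cons] at hpd
    haveI : IsIntegral (IntMult.ptIdeal y).subscheme := IntTheory.Curves.isIntegral_ptIdeal y
    haveI : Epi ψ := hψ
    let i := (IntMult.ptIdeal y).subschemeι
    have hξi := PicLoc.isInvertible_pullback i hξ
    have hF := TensorMod.LocFree.of_rank (TensorMod.LocFree.of_isInvertible hξi)
    haveI := TensorMod.QCohInv.isQCoh_of_isInvertible hξi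
    haveI := TensorMod.QCohInv.isQCoh_of_isInvertible
      (PicLoc.isInvertible_pullback i (PicLoc.isInvertible_pullback π hL))
    let σ := (pb i).map ((pb π).map a) ≫ ψ
    by_cases hall : ∀ w, w ∈ IpCut.zset σ hF
    · obtain ⟨φ, hφ⟩ := descend (π := π) i a b hab hex ψ (IpCut.eq_zero_of_zset σ hF hall)
      have h1 := ih y φ hφ (tw π ξ (dual L) :: r)
        (fun Q hQ => by
          rcases List.mem_cons.1 hQ with rfl | hQ
          exacts [tw_inv hξ (isInvertible_dual hL), hr Q hQ])
        (by rw [List.length_cons]; omega)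
      rw [List.map_cons, List.cons_append]
      exact (Cut.ip_perm (k := k) List.perm_middle.symm y).trans h1
    · push Not at hall
      have hcut := IpCut.ip_eq_of_map (k := k) hN hrest (PicLoc.isInvertible_pullback π hL) hξ (y := y)
        (by simp only [List.length_append, List.length_map]; omega) σ hF hall fun w hw hwd => by
          let z := i w
          haveI := IntTheory.Curves.isIntegral_ptIdeal z
          obtain ⟨g, hg⟩ := H75.RedKer.exists_lift (IntMult.ptIdeal z).subschemeι i (by
            rw [Devissage.Closure.range_ptIdeal]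
            exact closure_minimal (Set.singleton_subset_iff.2 ⟨w, rfl⟩) i.isClosedEmbedding.isClosed_range)
          haveI : IsClosedImmersion (g ≫ i) := hg.symm ▸ inferInstance
          haveI : IsClosedImmersion g := IsClosedImmersion.of_comp g i
          have hrange : Set.range g ⊆ IpCut.zset σ hF := by
            rintro _ ⟨x, rfl⟩
            have h2 : z ⤳ i (g x) := by
              rw [← Scheme.Hom.comp_apply, hg]
              exact specializes_iff_mem_closure.2 (Devissage.Closure.range_ptIdeal z ▸ Set.mem_range_self x)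
            exact (i.isClosedEmbedding.isEmbedding.isInducing.specializes_iff.1 h2).mem_closed
              (Modules.ZeroLocus.idealSheaf σ hF).subschemeι.isClosedEmbedding.isClosed_range hw
          have h0 := IpCut.map_eq_zero_of_range σ hF g hrange
          let e : pb i ⋙ pb g ≅ pb (IntMult.ptIdeal z).subschemeι :=
            Scheme.Modules.pullbackComp g i ≪≫ Scheme.Modules.pullbackCongr hg
          let ψ' := e.inv.app ((pb π).obj M) ≫ (pb g).map ψ ≫ e.hom.app ξ
          haveI : (pb g).PreservesEpimorphisms :=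
            Functor.preservesEpimorphisms_of_adjunction (Scheme.Modules.pullbackPushforwardAdjunction g)
          haveI : Epi ((pb g).map ψ) := Functor.map_epi _ ψ
          haveI : Epi ψ' := epi_comp _ _
          obtain ⟨φ, hφ⟩ := descend (π := π) _ a b hab hex ψ' (by
            have hn := e.inv.naturality ((pb π).map a)
            simp only [ψ', ← Category.assoc]
            rw [hn]
            simp only [Category.assoc, Functor.comp_map]
            rw [← Functor.map_comp_assoc, h0, zero_comp, comp_zero])
          refine ih z φ hφ r hr ?_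
          simpa using hwd
      rw [List.map_cons, List.cons_append,
        Cut.ip_tensor (k := k) hN hξ (PicLoc.isInvertible_pullback π (isInvertible_dual hL)) hrest
          (by simp only [List.length_append, List.length_map]; omega),
        ip_dual hN hL hrest (by simp only [List.length_append, List.length_map]; omega), hcut]
      omega

variable {k' : Type u} [Field k'] [C.Over (Spec (CommRingCat.of k'))] [IsProper (C ↘ Spec (CommRingCat.of k'))]
  (hdimC : topologicalKrullDim C = 1) {H : C.Modules} (hH : PicF.IsInvertible H) (hHd : 0 < Curv2.deg k' C H 1)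
  {y : P} (hy : π y = genericPoint C) {n : ℕ} (hn : Main.pd k y = n + 1)

include hdimC hH hHd hy hn

theorem mix1 : ∀ (bs : List C.Modules), (∀ B ∈ bs, PicF.IsInvertible B) → ∀ (A : C.Modules),
    PicF.IsInvertible A → ∀ j, bs.length + j = n →
      Cut.ip k N ((pb π).obj A :: (bs.map (tw π ξ) ++ List.replicate j ξ)) y =
        Cut.ip k N ((pb π).obj A :: List.replicate n ξ) y
  | [], _, A, _, j, hj => by
    simp only [List.length_nil, zero_add] at hj
    subst hj; rfl
  | B :: bs, hb, A, hA, j, hj => by
    rw [List.length_cons] at hj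
    have hB := hb B List.mem_cons_self
    have hb' : ∀ B' ∈ bs, PicF.IsInvertible B' := fun B' h => hb B' (List.mem_cons_of_mem _ h)
    have hrest : ∀ Q ∈ bs.map (tw π ξ) ++ List.replicate j ξ, PicF.IsInvertible Q := fun Q hQ => by
      rcases List.mem_append.1 hQ with hQ | hQ
      · obtain ⟨L', hL', rfl⟩ := List.mem_map.1 hQ
        exact tw_inv hξ (hb' L' hL')
      · exact List.eq_of_mem_replicate hQ ▸ hξ
    have hA' : ∀ Q ∈ (pb π).obj A :: (bs.map (tw π ξ) ++ List.replicate j ξ), PicF.IsInvertible Q := fun Q hQ => by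
      rcases List.mem_cons.1 hQ with rfl | hQ
      exacts [PicLoc.isInvertible_pullback π hA, hrest Q hQ]
    rw [List.map_cons, List.cons_append, Cut.ip_perm (k := k) (List.Perm.swap _ _ _) y,
      Cut.ip_tensor (k := k) hN hξ (PicLoc.isInvertible_pullback π hB) hA'
        (by simp only [List.length_cons, List.length_append, List.length_map, List.length_replicate]; omega),
      ip_pair_zero hN hdimC hA hH hHd hB hrest hy
        (by simp only [List.length_append, List.length_map, List.length_replicate]; omega), add_zero,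
      ← mix1 bs hb' A hA (j + 1) (by omega)]
    refine Cut.ip_perm (k := k) ?_ y
    refine (List.Perm.swap _ _ _).trans (List.Perm.cons _ ?_)
    rw [List.replicate_succ]
    exact List.perm_middle.symm

/-- Expanding `∏ (ξ + B)`. -/
theorem expand : ∀ (bs : List C.Modules), (∀ B ∈ bs, PicF.IsInvertible B) → ∀ j, bs.length + j = n + 1 →
      Cut.ip k N (bs.map (tw π ξ) ++ List.replicate j ξ) y = Cut.ip k N (List.replicate (n + 1) ξ) y +
        (bs.map fun B => Cut.ip k N ((pb π).obj B :: List.replicate n ξ) y).sum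
  | [], _, j, hj => by
    simp only [List.length_nil, zero_add] at hj
    subst hj; simp
  | B :: bs, hb, j, hj => by
    rw [List.length_cons] at hj
    have hB := hb B List.mem_cons_self
    have hb' : ∀ B' ∈ bs, PicF.IsInvertible B' := fun B' h => hb B' (List.mem_cons_of_mem _ h)
    have hrest : ∀ Q ∈ bs.map (tw π ξ) ++ List.replicate j ξ, PicF.IsInvertible Q := fun Q hQ => by
      rcases List.mem_append.1 hQ with hQ | hQ
      · obtain ⟨L', hL', rfl⟩ := List.mem_map.1 hQ
        exact tw_inv hξ (hb' L' hL')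
      · exact List.eq_of_mem_replicate hQ ▸ hξ
    rw [List.map_cons, List.cons_append, Cut.ip_tensor (k := k) hN hξ (PicLoc.isInvertible_pullback π hB) hrest
        (by simp only [List.length_append, List.length_map, List.length_replicate]; omega),
      mix1 hN hξ hdimC hH hHd hy hn bs hb' B hB j (by omega), List.map_cons, List.sum_cons,
      show Cut.ip k N (ξ :: (bs.map (tw π ξ) ++ List.replicate j ξ)) y =
        Cut.ip k N (bs.map (tw π ξ) ++ List.replicate (j + 1) ξ) y from
        Cut.ip_perm (k := k) (by rw [List.replicate_succ]; exact List.perm_middle.symm) y,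
      expand bs hb' (j + 1) (by omega)]
    ring

end Groth.Agent.H97.NefDeg
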