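import Groth.Agent.H97.NefDeg
import Groth.Agent.S5732
import Groth.Agent.Lib.SymAlg.PE.Univ

/-! Nef bundles on regular curves have nonnegative degree. -/

set_option autoImplicit false
set_option linter.style.haveILetI false
universe u
open CategoryTheory CategoryTheory.Limits AlgebraicGeometry

noncomputable section

namespace Groth.Agent.H97.NefDeg

open Groth.Agent.Lib Groth.Agent.Lib.Snapper Groth.Agent.Lib.Nakai
open Groth.Agent.Lib.TensorMod.Basic (tensorIso)
open Groth.Agent.Lib.TensorMod.Invertible (isInvertible_tensorMod isInvertible_tensorPow isInvertible_dual tensorDualIso)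
open Groth.Agent.Lib.TensorMod.Dual (dual)

local notation "pb" => Scheme.Modules.pullback

theorem deg_nonneg {k : Type u} [Field k] {C : Scheme.{u}} [C.Over (Spec (CommRingCat.of k))]
    [IsProper (C ↘ Spec (CommRingCat.of k))] [IsIntegral C] (hC : topologicalKrullDim C = 1)
    (hreg : ∀ x : C, IsRegularLocalRing (C.presheaf.stalk x)) {E : C.Modules} {n : ℕ}
    (hE : FlatMod.IsFinLocFreeOfRank (n + 1) E) (hnef : NefBundle.NefTest k E) :
    0 ≤ Curv2.deg k C E (n + 1) := by
  haveI := Curves.GlobalSections.isNoetherian_of_proper k C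
  haveI hctx := CurveBundle.RankTwoExt.curveCtx_of_regular (k := k) hC hreg
  obtain ⟨l, hl, hlen, hinv, hdl⟩ := CurveBundle.DetDeg.exists_filt (k := k) (n + 1) E hE
  have hdet := Cyc.CH.isInvertible_detList hinv
  rw [CurveBundle.Degree.dg_eq_deg k (TensorMod.LocFree.of_isInvertible hdet),
    CurveBundle.Degree.dg_eq_deg k hE] at hdl
  by_contra hneg
  push Not at hneg
  set D := Cyc.CH.detList l with hD
  have hH := isInvertible_dual hdet
  have hHd : 0 < Curv2.deg k C (dual D) 1 := by
    have h := H97.CurveEuler.deg_tensor (k := k) hC.le (TensorMod.LocFree.of_isInvertible hdet)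
      (TensorMod.LocFree.of_isInvertible hH)
    have h0 : Curv2.deg k C (CohB1.tensorMod D (dual D)) (1 * 1) = 0 := by
      unfold Curv2.deg
      rw [Curves.Euler.euler_eq_of_iso (k := k) (tensorDualIso hdet)]
      simp
    rw [h0] at h
    push_cast at h
    omega
  have hHamp := H97.CurvePositivity.isAmple_of_deg_pos (k := k) hC hH hHd
  -- the projective bundle
  have hF : FlatMod.IsFinLocFree E := TensorMod.LocFree.of_rank hE
  have hq : Coh.IsQCoh E := TensorMod.QCohInv.isQCoh_of_isFinLocFree hF
  haveI : E.IsQuasicoherent := hq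
  have hj := SymAlg.Exists.isGrSymAlg E
  let B : SymAlg.PE.Tw C := SymAlg.PE.Tw.ofAlg (SymAlg.Exists.grAlg E) (SymAlg.Gen.isGenDegOne hj hq)
  let π := B.p
  haveI : IsProper π := HProj.Proper.isProper_of_isProjective
    ⟨B.alg, B.P, B.p, B.chart, Iso.refl _, B.gen, Cyc.CH.BdlExists.isFTDeg_one hq hj hF, B.hP, Category.id_comp _⟩
  let G := SymAlg.PE.Tw.Gens.ofSym B hq hj
  let q : (pb π).obj E ⟶ B.O1 :=
    ((Scheme.Modules.pullbackPushforwardAdjunction π).homEquiv E B.O1).symm G.canon
  have hepi : Epi q := Groth.Agent.S5732.result E hq B.alg (SymAlg.Exists.jmap E) hj B.p B.chart B.hP B.O1 B.lam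
    B.hO G.canon fun U hU e x => by
      erw [G.canon_app hU e]
      exact (B.val_sec (G.mem U hU e) x).trans (Localization.mk_one_eq_algebraMap _)
  have hPB : KRR.IsProjBundle π E B.O1 q :=
    ⟨TensorMod.LocFree.of_isInvertible B.isInvertible, hepi, fun T g L hL s hs => by
      haveI := hs
      exact SymAlg.PE.existsUnique_map (B := B) hq hj g (TensorMod.LocFree.isInvertible_of_rank_one hL) s⟩
  letI : B.P.Over (Spec (CommRingCat.of k)) := ⟨π ≫ (C ↘ Spec (CommRingCat.of k))⟩
  haveI : IsProper (B.P ↘ Spec (CommRingCat.of k)) :=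
    inferInstanceAs (IsProper (π ≫ (C ↘ Spec (CommRingCat.of k))))
  haveI := Curves.GlobalSections.isNoetherian_of_proper k B.P
  have hBdl := Cyc.CH.Bdl.of_isProjBundle (n := n)
    (Cyc.FieldDim.isDimFun_fdelta (C ↘ Spec (CommRingCat.of k)))
    (Cyc.FieldDim.isDimFun_fdelta (B.P ↘ Spec (CommRingCat.of k)))
    (PushInt.deltaCompat (C ↘ Spec (CommRingCat.of k)) (B.P ↘ Spec (CommRingCat.of k)) π rfl) hPB hE
  let Dt := hBdl.data
  let y := Dt.ζ (genericPoint C) 0
  have hy : π y = genericPoint C := Dt.fζ _ 0 (Nat.zero_le n)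
  have hn : Main.pd k y = n + 1 := by
    have h := Dt.dζ (genericPoint C) 0 (Nat.zero_le n)
    have hη : VarDim.Basic.pdim (C ↘ Spec (CommRingCat.of k)) (genericPoint C) = 1 :=
      Top.pd_generic (k := k) (X := C) (n := 1) hC
    simp only [VarDim.Basic.fdelta_eq, hη] at h
    change VarDim.Basic.pdim (B.P ↘ Spec (CommRingCat.of k)) (Dt.ζ (genericPoint C) 0) = n + 1
    push_cast at h
    omega
  haveI : Surjective π := ⟨fun c => ⟨Dt.ζ c 0, Dt.fζ _ 0 (Nat.zero_le n)⟩⟩
  obtain ⟨N, hN⟩ := DimBound.exists_dim_bound k B.P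
  have hξ := B.isInvertible
  haveI := hepi
  -- positivity
  have hrel : RelAmple.IsRelAmple π ((pb (𝟙 B.P)).obj B.O1) :=
    Groth.Agent.S5722.result π E hq B.alg (SymAlg.Exists.jmap E) hj B.P B.p B.chart B.hP B.O1 B.lam B.hO
      (𝟙 _) (Category.id_comp _) Topology.IsEmbedding.id
  obtain ⟨m, -, hm⟩ := ProjMor.Comp.eventually_isAmple π hrel hHamp
  have hHm := isInvertible_tensorPow hH m
  have hA : CohB1.IsAmple (tw π B.O1 (CohB1.tensorPow (dual D) m)) :=
    Lib.Ample.Pow.isAmple_of_iso (tensorIso ((Scheme.Modules.pullbackId B.P).app B.O1) (Iso.refl _)) (hm m le_rfl)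
  have hξnef : Kleiman.Nef k N B.O1 :=
    (NefBC.nefCl_iff hN _).1 (NefBundle.nefCl_quotient (k := k) hnef π rfl hξ q)
  have hHnef : Kleiman.Nef k N ((pb π).obj (dual D)) := by
    have h1 : NefBC.NefCl k (dual D) := (NefBC.nefCl_iff hC.le (dual D)).2 fun z hz => by
      have h2 := Kleiman.ip_replicate_pos (k := k) hC.le hH 1 z hz (Cut.ampleAt_of_isAmple hHamp z)
      rw [List.replicate_one] at h2
      exact h2.le
    exact (NefBC.nefCl_iff hN _).1 ((Groth.Agent.S16712.result k C B.P π rfl _ hH).1 h1)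
  let φ : C.Modules → ℤ := fun L => Cut.ip k N ((pb π).obj L :: List.replicate n B.O1) y
  have hrn : ∀ M ∈ List.replicate n B.O1, PicF.IsInvertible M := fun M hM => List.eq_of_mem_replicate hM ▸ hξ
  have hpd : Main.pd k y ≤ (List.replicate n B.O1).length + 1 := by rw [hn, List.length_replicate]
  -- the relation
  have hvan := vanish hN (π := π) hξ hl y ((pb (IntMult.ptIdeal y).subschemeι).map q)
    (by
      haveI : (pb (IntMult.ptIdeal y).subschemeι).PreservesEpimorphisms :=
        Functor.preservesEpimorphisms_of_adjunction (Scheme.Modules.pullbackPushforwardAdjunction _)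
      exact Functor.map_epi _ q)
    [] (by simp) (by rw [hn, hlen, List.length_nil, add_zero])
  rw [show l.map (fun L => tw π B.O1 (dual L)) = (l.map dual).map (tw π B.O1) by simp [List.map_map],
    show ([] : List B.P.Modules) = List.replicate 0 B.O1 from rfl,
    expand hN hξ hC hH hHd hy hn (l.map dual)
      (fun M hM => by obtain ⟨L, hL, rfl⟩ := List.mem_map.1 hM; exact isInvertible_dual (hinv L hL)) 0
      (by simp [hlen])] at hvan
  have hsum : ∀ l' : List C.Modules, (∀ L ∈ l', PicF.IsInvertible L) →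
      ((l'.map dual).map φ).sum = - φ (Cyc.CH.detList l') := by
    intro l'
    induction l' with
    | nil =>
      intro _
      change (0 : ℤ) = - Cut.ip k N ((pb π).obj (Coh.structureModule C) :: List.replicate n B.O1) y
      rw [ip_cons_iso (PicLoc.pullbackStructureIso π), IpCut.ip_unit hrn, neg_zero]
    | cons L l' ih =>
      intro hl'
      have hL := hl' L List.mem_cons_self
      have hl'' : ∀ L' ∈ l', PicF.IsInvertible L' := fun L' h => hl' L' (List.mem_cons_of_mem _ h)
      rw [List.map_cons, List.map_cons, List.sum_cons, ih hl'']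
      change Cut.ip k N ((pb π).obj (dual L) :: List.replicate n B.O1) y +
        - Cut.ip k N ((pb π).obj (Cyc.CH.detList l') :: List.replicate n B.O1) y =
        - Cut.ip k N ((pb π).obj (CohB1.tensorMod L (Cyc.CH.detList l')) :: List.replicate n B.O1) y
      rw [ip_dual hN hL hrn hpd, ip_cons_iso (TensorMod.Pullback.pullbackTensorIso π L (Cyc.CH.detList l')),
        Cut.ip_tensor (k := k) hN (PicLoc.isInvertible_pullback π hL)
          (PicLoc.isInvertible_pullback π (Cyc.CH.isInvertible_detList hl'')) hrn hpd]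
      ring
  change Cut.ip k N (List.replicate (n + 1) B.O1) y + ((l.map dual).map φ).sum = 0 at hvan
  rw [hsum l hinv, ← hD] at hvan
  have hφH : φ (dual D) = - φ D := ip_dual hN hdet hrn hpd
  have htop : 0 ≤ Cut.ip k N (List.replicate (n + 1) B.O1) y := by
    have h := Kleiman.mixed_nonneg (k := k) hN hξ hξnef (n + 1) y hn _ hA.1 (Cut.ampleAt_of_isAmple hA y) (n + 1) 0 rfl
    simpa [Kleiman.mixList] using h
  have hφ0 : 0 ≤ φ (dual D) := by
    have h := Kleiman.mixed_nonneg (k := k) hN (PicLoc.isInvertible_pullback π hH) hHnef (n + 1) y hn _ hA.1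
      (Cut.ampleAt_of_isAmple hA y) 1 n (Nat.add_comm 1 n)
    have h1 := mix1 hN hξ hC hH hHd hy hn (List.replicate n (CohB1.tensorPow (dual D) m))
      (fun M hM => List.eq_of_mem_replicate hM ▸ hHm) (dual D) hH 0 (by simp)
    simp only [Kleiman.mixList, List.replicate_one, List.singleton_append] at h
    simp only [List.map_replicate, List.replicate_zero, List.append_nil] at h1
    rw [h1] at h
    exact h
  have hzero : φ (dual D) = 0 := by omega
  have hpos := Kleiman.ip_replicate_pos (k := k) hN hA.1 (n + 1) y hn (Cut.ampleAt_of_isAmple hA y)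
  have hexp := expand hN hξ hC hH hHd hy hn (List.replicate (n + 1) (CohB1.tensorPow (dual D) m))
    (fun M hM => List.eq_of_mem_replicate hM ▸ hHm) 0 (by simp)
  rw [List.map_replicate, List.map_replicate, List.sum_replicate, List.replicate_zero, List.append_nil,
    ip_cons_iso (Lib.Ample.Pow.pullbackPow π (dual D) m),
    Cut.ip_pow (k := k) hN (PicLoc.isInvertible_pullback π hH) hrn hpd] at hexp
  change _ = _ + (n + 1) • ((m : ℤ) * φ (dual D)) at hexp
  rw [hzero, mul_zero, smul_zero, add_zero] at hexp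
  omega

end Groth.Agent.H97.NefDeg
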