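import Groth.Agent.H97.NefTensor
import Groth.Agent.Lib.Modules.AffineHom
import Groth.Agent.Lib.Modules.TensorAffine
import Groth.Agent.Lib.FundLocal.ExtPowExists
import Groth.Agent.Lib.ExtFilt.Lambda
import Groth.Agent.Lib.KVec.ExtPowPull
import Groth.Agent.Lib.KVec.ExtRank

/-! Exterior powers of nef bundles are nef. -/

set_option autoImplicit false
set_option linter.style.haveILetI false
universe u
open CategoryTheory CategoryTheory.Limits AlgebraicGeometry Opposite TopologicalSpace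
open scoped TensorProduct

noncomputable section

namespace Groth.Agent.H97.NefExt

open Groth.Agent.Lib Groth.Agent.Lib.TensorMod.Dual

/-- `M → ⋀ⁿ M → ⋀ⁿ⁺¹ M`. -/
def wedgeB (R : Type u) [CommRing R] (M : Type u) [AddCommGroup M] [Module R M] (n : ℕ) :
    M →ₗ[R] ↥(⋀[R]^n M) →ₗ[R] ↥(⋀[R]^(n + 1) M) :=
  (exteriorPower.alternatingMapLinearEquiv (R := R) (M := M) (N := ↥(⋀[R]^(n + 1) M)) (n := n)).toLinearMap.comp
    (exteriorPower.ιMulti R (n + 1) (M := M)).curryLeft

theorem wedgeB_apply (R : Type u) [CommRing R] (M : Type u) [AddCommGroup M] [Module R M] (n : ℕ) (e : M)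
    (v : Fin n → M) :
    wedgeB R M n e (exteriorPower.ιMulti R n v) = exteriorPower.ιMulti R (n + 1) (Matrix.vecCons e v) := by
  simp [wedgeB]

theorem gen_induction {R M : Type u} [CommRing R] [AddCommGroup M] [Module R M] {i : ℕ}
    {P : ↥(⋀[R]^i M) → Prop} (gen : ∀ v, P (exteriorPower.ιMulti R i v)) (zero : P 0)
    (add : ∀ a b, P a → P b → P (a + b)) (smul : ∀ (c : R) a, P a → P (c • a)) (a : ↥(⋀[R]^i M)) : P a := by
  have ha : a ∈ Submodule.span R (Set.range (exteriorPower.ιMulti R i (M := M))) := by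
    rw [exteriorPower.ιMulti_span]; trivial
  induction ha using Submodule.span_induction with
  | mem t ht => obtain ⟨v, rfl⟩ := ht; exact gen v
  | zero => exact zero
  | add a b _ _ ha hb => exact add _ _ ha hb
  | smul c a _ ha => exact smul c _ ha

variable {X : Scheme.{u}} {E Ln Lm : X.Modules} {n : ℕ}

/-- The wedge map `E ⊗ ⋀ⁿE → ⋀ⁿ⁺¹E`. -/
theorem exists_wedge [E.IsQuasicoherent] [Ln.IsQuasicoherent] (hn : ExtPow.IsExtPow n E Ln)
    (hm : ExtPow.IsExtPow (n + 1) E Lm) : ∃ ψ : CohB1.tensorMod E Ln ⟶ Lm, Epi ψ := by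
  obtain ⟨φn, hφn⟩ := hn
  obtain ⟨φm, hφm⟩ := hm
  let g : ∀ U : X.affineOpens, Γ(E, U.1) ⊗[Γ(X, U.1)] Γ(Ln, U.1) ≃ₗ[Γ(X, U.1)] Γ(CohB1.tensorMod E Ln, U.1) :=
    fun U => LinearEquiv.ofBijective (Modules.TensorAffine.gamma E Ln U.1)
      (Modules.TensorAffine.bijective_gamma U.2)
  let σn : ∀ U : X.affineOpens, ↥(⋀[Γ(X, U.1)]^n Γ(E, U.1)) →ₗ[Γ(X, U.1)] Γ(Ln, U.1) :=
    fun U => (φn U).symm.toLinearMap
  let σm : ∀ U : X.affineOpens, ↥(⋀[Γ(X, U.1)]^(n + 1) Γ(E, U.1)) →ₗ[Γ(X, U.1)] Γ(Lm, U.1) :=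
    fun U => (φm U).symm.toLinearMap
  have hσn : ∀ U, Function.Surjective (σn U) := fun U a => ⟨φn U a, (φn U).symm_apply_apply a⟩
  have hσm : ∀ U, Function.Surjective (σm U) := fun U a => ⟨φm U a, (φm U).symm_apply_apply a⟩
  let B : ∀ U : X.affineOpens, Γ(E, U.1) →ₗ[Γ(X, U.1)] Γ(Ln, U.1) →ₗ[Γ(X, U.1)] Γ(Lm, U.1) := fun U =>
    ((wedgeB Γ(X, U.1) Γ(E, U.1) n).compr₂ (φm U).symm.toLinearMap).compl₂ (φn U).toLinearMap
  let Φ : ∀ U : X.affineOpens, Γ(CohB1.tensorMod E Ln, U.1) →ₗ[Γ(X, U.1)] Γ(Lm, U.1) := fun U =>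
    (TensorProduct.lift (B U)).comp (g U).symm.toLinearMap
  have hB : ∀ (U : X.affineOpens) (e : Γ(E, U.1)) (v : Fin n → Γ(E, U.1)),
      B U e (σn U (exteriorPower.ιMulti _ n v)) =
        σm U (exteriorPower.ιMulti _ (n + 1) (Matrix.vecCons e v)) := by
    intro U e v
    show (φm U).symm (wedgeB _ _ n e (φn U ((φn U).symm _))) = _
    rw [LinearEquiv.apply_symm_apply]
    exact congrArg _ (wedgeB_apply _ _ n e v)
  have hgen : ∀ (U : X.affineOpens) (e : Γ(E, U.1)) (v : Fin n → Γ(E, U.1)),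
      Φ U (Modules.TensorSec.tens e (σn U (exteriorPower.ιMulti _ n v))) =
        σm U (exteriorPower.ιMulti _ (n + 1) (Matrix.vecCons e v)) := by
    intro U e v
    show TensorProduct.lift (B U) ((g U).symm _) = _
    rw [show (g U).symm (Modules.TensorSec.tens e (σn U (exteriorPower.ιMulti _ n v))) =
      e ⊗ₜ σn U (exteriorPower.ιMulti _ n v) from (g U).symm_apply_eq.2 rfl]
    exact (TensorProduct.lift.tmul _ _).trans (hB U e v)
  have hφ : ∀ (U V : X.affineOpens) (h : V.1 ≤ U.1) (m : Γ(CohB1.tensorMod E Ln, U.1)),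
      rs Lm h (Φ U m) = Φ V (rs _ h m) := by
    intro U V h m
    obtain ⟨z, rfl⟩ := (g U).surjective m
    induction z using TensorProduct.induction_on with
    | zero => simp [Modules.TensorSec.rs_zero]
    | add a b ha hb => simp only [map_add, Modules.TensorSec.rs_add, ha, hb]
    | tmul e a =>
      obtain ⟨a, rfl⟩ := hσn U a
      induction a using gen_induction with
      | gen v =>
        show rs Lm h (Φ U (Modules.TensorSec.tens e (σn U (exteriorPower.ιMulti _ n v)))) =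
          Φ V (rs _ h (Modules.TensorSec.tens e (σn U (exteriorPower.ιMulti _ n v))))
        rw [hgen, Modules.TensorSec.rs_tens,
          show rs Ln h (σn U (exteriorPower.ιMulti _ n v)) =
            σn V (exteriorPower.ιMulti _ n fun j => rs E h (v j)) from hφn U V h v, hgen]
        refine (hφm U V h _).trans ?_
        exact congrArg (fun w => σm V (exteriorPower.ιMulti _ (n + 1) w))
          (funext fun i => Fin.cases rfl (fun j => rfl) i)
      | zero => simp [Modules.TensorSec.rs_zero]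
      | add a b ha hb =>
        simp only [map_add, TensorProduct.tmul_add, Modules.TensorSec.rs_add, ha, hb]
      | smul c a ha =>
        simp only [map_smul, TensorProduct.tmul_smul, rs_smul, ha]
  obtain ⟨ψ, hψ⟩ := Modules.AffineHom.exists_hom_of_affine Φ hφ
  have hsurj : ∀ U : X.affineOpens, ∀ y : Γ(Lm, U.1), ∃ m, ψ.app U.1 m = y := by
    intro U y
    obtain ⟨a, rfl⟩ := hσm U y
    induction a using gen_induction with
    | gen v =>
      exact ⟨Modules.TensorSec.tens (Matrix.vecHead v) (σn U (exteriorPower.ιMulti _ n (Matrix.vecTail v))),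
        by rw [hψ, hgen]; exact congrArg _ (congrArg _ (Matrix.cons_head_tail v))⟩
    | zero => exact ⟨0, by simp⟩
    | add a b ha hb =>
      obtain ⟨m, hm⟩ := ha
      obtain ⟨m', hm'⟩ := hb
      exact ⟨m + m', by rw [map_add, hm, hm', map_add]⟩
    | smul c a ha =>
      obtain ⟨m, hm⟩ := ha
      exact ⟨c • m, by rw [Scheme.Modules.Hom.app_smul, hm, map_smul]⟩
  refine ⟨ψ, (Modules.StalkModule.epi_iff_stalkMapₗ_surjective ψ).2 fun x v => ?_⟩
  obtain ⟨W, hxW, c, rfl⟩ := TopCat.Presheaf.exists_germ_eq Lm.presheaf v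
  obtain ⟨A, hAW, hxA⟩ := Modules.AffineHom.exists_affine hxW
  obtain ⟨m, hm⟩ := hsurj A (rs Lm hAW c)
  refine ⟨(CohB1.tensorMod E Ln).presheaf.germ A.1 x hxA m, ?_⟩
  rw [Modules.StalkModule.stalkMapₗ_germ, hm]
  exact TopCat.Presheaf.germ_res_apply Lm.presheaf (homOfLE hAW) x hxA c

open Groth.Agent.Lib.CurveBundle Groth.Agent.Lib.CurveBundle.Degree

theorem nefTest_extPow {k : Type u} [Field k] {C : Scheme.{u}} [C.Over (Spec (CommRingCat.of k))]
    [IsProper (C ↘ Spec (CommRingCat.of k))] [hC : CurveCtx k C] {E : C.Modules}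
    (hE : FlatMod.IsFinLocFree E) (h : NefBundle.NefTest k E) :
    ∀ (n : ℕ) (L : C.Modules), ExtPow.IsExtPow n E L → NefBundle.NefTest k L
  | 0, L, hL => by
    obtain ⟨e⟩ := ExtFilt.Lambda.nonempty_iso_of_isExtPow (ExtFilt.Lambda.isExtPow_zero E) hL
    exact NefTensor.nefTest_quotient (𝟙 C) (Category.id_comp _) NefTensor.nefTest_structure
      ((Scheme.Modules.pullbackId C).hom.app _ ≫ e.hom)
  | n + 1, L, hL => by
    haveI : E.IsQuasicoherent := TensorMod.QCohInv.isQCoh_of_isFinLocFree hE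
    obtain ⟨Ln, hLn⟩ := FundLocal.ExtPowExists.exists_isExtPow E n
    have hr := KVec.ExtRank.rank_extPow (NefTensor.rank_of (k := k) hE) hLn
    haveI : Ln.IsQuasicoherent := TensorMod.QCohInv.isQCoh_of_isFinLocFree (TensorMod.LocFree.of_rank hr)
    obtain ⟨ψ, hψ⟩ := exists_wedge hLn hL
    haveI := hψ
    exact NefTensor.nefTest_quotient (𝟙 C) (Category.id_comp _)
      (NefTensor.nefTest_tensor hE (TensorMod.LocFree.of_rank hr) h (nefTest_extPow hE h n Ln hLn))
      ((Scheme.Modules.pullbackId C).hom.app _ ≫ ψ)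

end Groth.Agent.H97.NefExt
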