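import Groth.Agent.H97.NefBC
import Groth.Agent.S0054

/-! Nefness passes from the closed fibre to every fibre over a local base. -/

set_option autoImplicit false
set_option linter.style.haveILetI false
universe u
open CategoryTheory CategoryTheory.Limits AlgebraicGeometry

namespace Groth.Agent.H97.NefFibre

open Groth.Agent.Lib Groth.Agent.Lib.Snapper Groth.Agent.Lib.Nakai

variable {R : Type u} [CommRing R] [IsNoetherianRing R] {X : Scheme.{u}}

/-- The structure of a fibre. -/
@[reducible] noncomputable def fibOver (p : X ⟶ Spec (CommRingCat.of R)) (y : Spec (CommRingCat.of R)) :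
    (p.fiber y).Over (Spec (CommRingCat.of ((Spec (CommRingCat.of R)).residueField y))) :=
  ⟨p.fiberToSpecResidueField y⟩

theorem nef_fibre [IsLocalRing R] (p : X ⟶ Spec (CommRingCat.of R)) [IsProper p] {L : X.Modules}
    (hL : PicF.IsInvertible L) (η : Spec (CommRingCat.of R))
    (h0 : letI := fibOver p (IsLocalRing.closedPoint R)
      NefBC.NefCl ((Spec (CommRingCat.of R)).residueField (IsLocalRing.closedPoint R))
        ((Scheme.Modules.pullback (p.fiberι (IsLocalRing.closedPoint R))).obj L)) :
    letI := fibOver p η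
    NefBC.NefCl ((Spec (CommRingCat.of R)).residueField η) ((Scheme.Modules.pullback (p.fiberι η)).obj L) := by
  haveI : IsNoetherian (Spec (CommRingCat.of R)) := inferInstance
  obtain ⟨n, X', π, j, U, hj, hjr, hπ, hsurj, -, -, -, -⟩ := Chow.Projective.chow p (Or.inl inferInstance)
  haveI := hj
  haveI := hπ
  haveI := hsurj
  haveI : IsProper (π ≫ p) := inferInstance
  haveI : IsProper (j ≫ CohB1.ProjSpaceOver.toBase n (Spec (CommRingCat.of R))) := hjr ▸ inferInstance
  haveI : IsSeparated (CohB1.ProjSpaceOver.toBase n (Spec (CommRingCat.of R))) := by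
    rw [← ProjSpace.BaseChange.overSpecIso_hom_toSpec]; infer_instance
  haveI : IsProper j := IsProper.of_comp j (CohB1.ProjSpaceOver.toBase n (Spec (CommRingCat.of R)))
  haveI : IsClosedImmersion j := IsClosedImmersion.of_isPreimmersion j j.isClosedMap.isClosed_range
  let ι := j ≫ (ProjSpace.BaseChange.overSpecIso n R).hom
  let A : X'.Modules := (Scheme.Modules.pullback ι).obj (Twist.twist (CohB1.polyGrading n R) 1)
  have hA : CohB1.IsAmple A := Ample.Pullback.isAmple_pullback ι
    (Ample.Pullback.isQuasiAffine_of_isAffineHom ι) (HProj.QuasiProj.isAmple_twist_projSpace n R)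
  -- the map of fibres
  have hsq : ∀ y, ∃ g : (π ≫ p).fiber y ⟶ p.fiber y, IsPullback ((π ≫ p).fiberι y) g π (p.fiberι y) ∧
      g ≫ p.fiberToSpecResidueField y = (π ≫ p).fiberToSpecResidueField y := by
    intro y
    let g : (π ≫ p).fiber y ⟶ p.fiber y :=
      pullback.lift ((π ≫ p).fiberι y ≫ π) ((π ≫ p).fiberToSpecResidueField y)
        (by rw [Category.assoc]; exact pullback.condition)
    refine ⟨g, IsPullback.of_bot ?_ (pullback.lift_fst _ _ _).symm
      (IsPullback.of_hasPullback p ((Spec (CommRingCat.of R)).fromSpecResidueField y)), pullback.lift_snd _ _ _⟩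
    rw [show g ≫ pullback.snd p ((Spec (CommRingCat.of R)).fromSpecResidueField y) =
      (π ≫ p).fiberToSpecResidueField y from pullback.lift_snd _ _ _]
    exact IsPullback.of_hasPullback (π ≫ p) _
  have haff : ∀ y, IsAffineHom ((π ≫ p).fiberι y) := fun y =>
    MorphismProperty.pullback_fst (P := @IsAffineHom) (π ≫ p) ((Spec (CommRingCat.of R)).fromSpecResidueField y)
      (isAffineHom_of_isAffine _)
  have eL : ∀ y (g : (π ≫ p).fiber y ⟶ p.fiber y), (π ≫ p).fiberι y ≫ π = g ≫ p.fiberι y →
      Nonempty ((Scheme.Modules.pullback g).obj ((Scheme.Modules.pullback (p.fiberι y)).obj L) ≅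
        (Scheme.Modules.pullback ((π ≫ p).fiberι y)).obj ((Scheme.Modules.pullback π).obj L)) := fun y g h =>
    ⟨(Scheme.Modules.pullbackComp g (p.fiberι y)).app L ≪≫ (Scheme.Modules.pullbackCongr h.symm).app L ≪≫
      ((Scheme.Modules.pullbackComp ((π ≫ p).fiberι y) π).app L).symm⟩
  have hL' := PicLoc.isInvertible_pullback π hL
  have hA' := TensorMod.Invertible.isInvertible_tensorPow hA.1 1
  -- the ample twists
  have hamp : ∀ ν : ℕ, 0 < ν → ∀ y, CohB1.IsAmple ((Scheme.Modules.pullback ((π ≫ p).fiberι y)).obj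
      (CohB1.tensorMod (CohB1.tensorPow ((Scheme.Modules.pullback π).obj L) ν) (CohB1.tensorPow A 1))) := by
    intro ν hν y
    let c := IsLocalRing.closedPoint R
    obtain ⟨g, hg, hgs⟩ := hsq c
    haveI : IsProper g := MorphismProperty.of_isPullback hg inferInstance
    haveI : Surjective g := MorphismProperty.of_isPullback hg inferInstance
    letI := fibOver p c
    letI := fibOver (π ≫ p) c
    haveI : IsProper (p.fiber c ↘ Spec (CommRingCat.of ((Spec (CommRingCat.of R)).residueField c))) :=
      inferInstanceAs (IsProper (pullback.snd p ((Spec (CommRingCat.of R)).fromSpecResidueField c)))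
    haveI : IsProper ((π ≫ p).fiber c ↘ Spec (CommRingCat.of ((Spec (CommRingCat.of R)).residueField c))) :=
      inferInstanceAs (IsProper (pullback.snd (π ≫ p) ((Spec (CommRingCat.of R)).fromSpecResidueField c)))
    obtain ⟨e⟩ := eL c g hg.w
    have h1 := NefBC.nefCl_of_iso e
      ((Groth.Agent.S16712.result ((Spec (CommRingCat.of R)).residueField c) _ _ g hgs _ (PicLoc.isInvertible_pullback _ hL)).1 h0)
    obtain ⟨N, hN⟩ := DimBound.exists_dim_bound ((Spec (CommRingCat.of R)).residueField c) ((π ≫ p).fiber c)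
    haveI := haff c
    have h2 : CohB1.IsAmple ((Scheme.Modules.pullback ((π ≫ p).fiberι c)).obj
        (CohB1.tensorMod (CohB1.tensorPow ((Scheme.Modules.pullback π).obj L) ν) (CohB1.tensorPow A 1))) :=
      Lib.Ample.Pow.isAmple_of_iso
        (TensorMod.Pullback.pullbackTensorIso _ _ _ ≪≫ TensorMod.Basic.tensorIso
          (Lib.Ample.Pow.pullbackPow _ _ ν) (Lib.Ample.Pow.pullbackPow _ A 1)).symm
        (Kleiman.isAmple_tensor (k := ((Spec (CommRingCat.of R)).residueField c)) hN
          (PicLoc.isInvertible_pullback _ hL') ((NefBC.nefCl_iff hN _).1 h1)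
          (Ample.Pullback.isAmple_pullback _ (Ample.Pullback.isQuasiAffine_of_isAffineHom _) hA) hν one_pos)
    obtain ⟨V, hcV, hV⟩ := Groth.Agent.S0054.result (π ≫ p) _
      (TensorMod.Invertible.isInvertible_tensorMod (TensorMod.Invertible.isInvertible_tensorPow hL' ν) hA') c h2
    have hVtop : (⊤ : (Spec (CommRingCat.of R)).Opens) ≤ V := fun z _ =>
      (IsLocalRing.specializes_closedPoint (R := R) z).mem_open V.isOpen hcV
    have h3 := hV ⊤ hVtop (isAffineOpen_top _)
    haveI : IsIso ((π ≫ p) ⁻¹ᵁ (⊤ : (Spec (CommRingCat.of R)).Opens)).ι :=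
      X'.topIso.isIso_hom
    haveI := haff y
    haveI : IsAffineHom ((π ≫ p).fiberι y ≫ inv ((π ≫ p) ⁻¹ᵁ (⊤ : (Spec (CommRingCat.of R)).Opens)).ι) :=
      inferInstance
    exact Exchange.AmpleSpread.isAmple_of_comp
      ((π ≫ p).fiberι y ≫ inv ((π ≫ p) ⁻¹ᵁ (⊤ : (Spec (CommRingCat.of R)).Opens)).ι) _ _ (by simp)
      (Lib.Ample.Pow.isAmple_of_iso ((Scheme.Modules.restrictFunctorIsoPullback _).app _) h3)
  obtain ⟨g, hg, hgs⟩ := hsq η
  haveI : IsProper g := MorphismProperty.of_isPullback hg inferInstance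
  haveI : Surjective g := MorphismProperty.of_isPullback hg inferInstance
  letI := fibOver p η
  letI := fibOver (π ≫ p) η
  haveI : IsProper (p.fiber η ↘ Spec (CommRingCat.of ((Spec (CommRingCat.of R)).residueField η))) :=
    inferInstanceAs (IsProper (pullback.snd p ((Spec (CommRingCat.of R)).fromSpecResidueField η)))
  haveI : IsProper ((π ≫ p).fiber η ↘ Spec (CommRingCat.of ((Spec (CommRingCat.of R)).residueField η))) :=
    inferInstanceAs (IsProper (pullback.snd (π ≫ p) ((Spec (CommRingCat.of R)).fromSpecResidueField η)))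
  obtain ⟨e⟩ := eL η g hg.w
  obtain ⟨N, hN⟩ := DimBound.exists_dim_bound ((Spec (CommRingCat.of R)).residueField η) ((π ≫ p).fiber η)
  have h4 : NefBC.NefCl ((Spec (CommRingCat.of R)).residueField η)
      ((Scheme.Modules.pullback ((π ≫ p).fiberι η)).obj ((Scheme.Modules.pullback π).obj L)) :=
    (NefBC.nefCl_iff hN _).2 (NefConv.nef_of_forall_ample (k := ((Spec (CommRingCat.of R)).residueField η)) hN
      (PicLoc.isInvertible_pullback _ hL') (PicLoc.isInvertible_pullback _ hA')
      fun ν hν => Lib.Ample.Pow.isAmple_of_iso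
        (TensorMod.Pullback.pullbackTensorIso _ _ _ ≪≫ TensorMod.Basic.tensorIso
          (Lib.Ample.Pow.pullbackPow _ _ ν) (Iso.refl _)) (hamp ν hν η))
  exact (Groth.Agent.S16712.result ((Spec (CommRingCat.of R)).residueField η) _ _ g hgs _ (PicLoc.isInvertible_pullback _ hL)).2
    (NefBC.nefCl_of_iso e.symm h4)

end Groth.Agent.H97.NefFibre
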