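import Groth.Agent.H97.CurveLift
import Groth.Agent.Lib.Nakai.Kleiman
import Groth.Agent.Lib.Nakai.NefConv
import Groth.Agent.Lib.Chow.Projective
import Groth.Agent.Lib.ProjSpace.BaseChange
import Groth.Agent.Lib.HProj.QuasiProj
import Groth.Agent.H97.IntMult

/-! Kleiman: nef intersection numbers are nonnegative on any proper scheme. -/

set_option autoImplicit false
set_option linter.style.haveILetI false
universe u
open CategoryTheory CategoryTheory.Limits AlgebraicGeometry TopologicalSpace

namespace Groth.Agent.H97.NefProper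

open Groth.Agent.Lib Groth.Agent.Lib.Snapper Groth.Agent.Lib.Nakai

variable {k : Type u} [Field k] {X : Scheme.{u}} [X.Over (Spec (CommRingCat.of k))]
  [IsProper (X ↘ Spec (CommRingCat.of k))]

theorem ip_single {N : ℕ} (hN : topologicalKrullDim X ≤ N) (L : X.Modules) (z : X) :
    Cut.ip k N [L] z = Curv2.euler k X (CohB1.tensorMod (Cyc.closureStructureSheaf z) L) -
      Curv2.euler k X (Cyc.closureStructureSheaf z) := by
  rw [NefConv.ip_singleton_eq (k := k) hN L z, CurveLift.euler_diff L hN z]

/-- **Kleiman** on a proper scheme. -/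
theorem ip_nonneg {N : ℕ} (hN : topologicalKrullDim X ≤ N) {L : X.Modules} (hL : PicF.IsInvertible L)
    (hnef : Kleiman.Nef k N L) (y : X) :
    0 ≤ Cut.ip k N (List.replicate (Main.pd k y) L) y := by
  haveI := Curves.GlobalSections.isNoetherian_of_proper k X
  let r := X ↘ Spec (CommRingCat.of k)
  obtain ⟨n, X', π, j, U, hj, hjr, hπ, hsurj, -, -, -, -⟩ :=
    Chow.Projective.chow r (Or.inl inferInstance)
  haveI := hj
  haveI := hπ
  haveI := hsurj
  letI : X'.Over (Spec (CommRingCat.of k)) := ⟨π ≫ r⟩
  haveI : IsProper (X' ↘ Spec (CommRingCat.of k)) := inferInstanceAs (IsProper (π ≫ r))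
  haveI := Curves.GlobalSections.isNoetherian_of_proper k X'
  haveI : IsProper (j ≫ CohB1.ProjSpaceOver.toBase n (Spec (CommRingCat.of k))) := hjr ▸ inferInstance
  haveI : IsSeparated (CohB1.ProjSpaceOver.toBase n (Spec (CommRingCat.of k))) := by
    rw [← ProjSpace.BaseChange.overSpecIso_hom_toSpec]; infer_instance
  haveI : IsProper j := IsProper.of_comp j (CohB1.ProjSpaceOver.toBase n (Spec (CommRingCat.of k)))
  haveI : IsClosedImmersion j := IsClosedImmersion.of_isPreimmersion j j.isClosedMap.isClosed_range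
  let ι := j ≫ (ProjSpace.BaseChange.overSpecIso n k).hom
  let H : X'.Modules := (Scheme.Modules.pullback ι).obj (Twist.twist (CohB1.polyGrading n k) 1)
  have hH : CohB1.IsAmple H := Ample.Pullback.isAmple_pullback ι (Ample.Pullback.isQuasiAffine_of_isAffineHom ι)
    (HProj.QuasiProj.isAmple_twist_projSpace n k)
  obtain ⟨N', hN'⟩ := DimBound.exists_dim_bound k X'
  have hL' := PicLoc.isInvertible_pullback π hL
  have hnef' : Kleiman.Nef k N' ((Scheme.Modules.pullback π).obj L) := fun z hz => by
    rw [ip_single hN', CurveLift.euler_diff_pullback π rfl hL hz]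
    by_cases h1 : Main.pd k (π z) = 1
    · refine mul_nonneg (Int.natCast_nonneg _) ?_
      rw [← ip_single hN]
      exact hnef _ h1
    · rw [PushInt.residueDegree_eq_zero r (X' ↘ Spec (CommRingCat.of k)) π rfl (y := z) (by
        rw [show VarDim.Basic.pdim (X' ↘ Spec (CommRingCat.of k)) z = 1 from hz]; exact h1)]
      simp
  obtain ⟨y', hy', hyd⟩ := CurveLift.exists_point r (X' ↘ Spec (CommRingCat.of k)) π rfl y
  set d := Main.pd k y with hd
  replace hyd : VarDim.Basic.pdim (X' ↘ Spec (CommRingCat.of k)) y' = d := hyd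
  have h := Kleiman.mixed_nonneg (k := k) hN' hL' hnef' d y' hyd H hH.1 (Cut.ampleAt_of_isAmple hH y') d 0 (add_zero d)
  rw [show Kleiman.mixList ((Scheme.Modules.pullback π).obj L) H d 0 =
    (List.replicate d L).map (Scheme.Modules.pullback π).obj by simp [Kleiman.mixList]] at h
  simp only [Cut.ip, List.length_map, List.length_replicate] at h ⊢
  have hl : ∀ M ∈ List.replicate d L, PicF.IsInvertible M := fun M hM => List.eq_of_mem_replicate hM ▸ hL
  have hdim : topologicalKrullDim (CohB1.support (Cyc.closureStructureSheaf y')) ≤ ((List.replicate d L).length : ℕ) :=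
    (Devissage.Dim.dim_mono (Devissage.Closure.support_closureStructureSheaf y')).trans (by
      rw [VarDim.Basic.topologicalKrullDim_isGenericPoint (X' ↘ Spec (CommRingCat.of k))
        (isGenericPoint_closure (x := y')), hyd, List.length_replicate])
  erw [IntTheory.Push.sym_push π rfl hN hN' _ hl _ (Devissage.Closure.isCoh_closureStructureSheaf y') hdim] at h
  rw [PushInt.sym_push_closure π rfl hN hl (y := y') (by rw [List.length_replicate]; exact hyd), hy',
    mul_left_comm] at h
  have hpos : (0 : ℤ) < π.residueDegree y' := Int.natCast_pos.2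
    (Cyc.Residue.residueDegree_pos_of_eq (PushInt.deltaCompat r (X' ↘ Spec (CommRingCat.of k)) π rfl) y' (by
      rw [VarDim.Basic.fdelta_eq, VarDim.Basic.fdelta_eq, hy', hyd]))
  exact nonneg_of_mul_nonneg_right h hpos

/-- The coefficient form. -/
theorem coeff_nonneg (L : X.Modules) (hL : PicF.IsInvertible L)
    (hnef : ∀ C : X.IdealSheafData, IsIntegral C.subscheme →
      topologicalKrullDim (C.support : Set X) = 1 →
        0 ≤ Curv2.euler k X (CohB1.tensorMod (ClSub.quotMod C) L) - Curv2.euler k X (ClSub.quotMod C))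
    (Z : X.IdealSheafData) [IsIntegral Z.subscheme] {d : ℕ}
    (hZ : topologicalKrullDim (Z.support : Set X) = d) (P : MvPolynomial (Fin d) ℚ)
    (hP : ∀ n : Fin d → ℕ, (Curv2.euler k X (Curv2.tensorPows (ClSub.quotMod Z) d (fun _ => L) n) : ℚ) =
      MvPolynomial.eval (fun i => (n i : ℚ)) P) :
    0 ≤ MvPolynomial.coeff (Finsupp.equivFunOnFinite.symm fun _ : Fin d => 1) P := by
  haveI := Curves.GlobalSections.isNoetherian_of_proper k X
  obtain ⟨N, hN⟩ := DimBound.exists_dim_bound k X
  have hnef' : Kleiman.Nef k N L := fun z hz => by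
    rw [ip_single hN]
    exact hnef _ (IntTheory.Curves.isIntegral_ptIdeal z) (by
      rw [CurveLift.dim_support_ptIdeal (X ↘ Spec (CommRingCat.of k)) z,
        show VarDim.Basic.pdim (X ↘ Spec (CommRingCat.of k)) z = 1 from hz]; rfl)
  obtain ⟨hI, -, hy⟩ := CurveLift.genPt (X ↘ Spec (CommRingCat.of k)) Z hZ
  set y := Z.subschemeι (genericPoint Z.subscheme)
  have hY : ClSub.quotMod Z = Cyc.closureStructureSheaf y := by rw [hI]; rfl
  rw [hY] at hP
  have hdim : topologicalKrullDim (CohB1.support (Cyc.closureStructureSheaf y)) ≤ (d : ℕ) :=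
    (Devissage.Dim.dim_mono (Devissage.Closure.support_closureStructureSheaf y)).trans (by
      rw [VarDim.Basic.topologicalKrullDim_isGenericPoint (X ↘ Spec (CommRingCat.of k))
        (isGenericPoint_closure (x := y)), hy])
  rw [H97.IntMult.coeff_eq_sym hN (Devissage.Closure.isCoh_closureStructureSheaf y) hdim (fun _ => hL) hP,
    List.ofFn_const]
  have h := ip_nonneg hN hL hnef' y
  rw [show Main.pd k y = d from hy, Cut.ip, List.length_replicate] at h
  exact_mod_cast h

end Groth.Agent.H97.NefProper
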