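import Groth.Agent.H97.NefDegMain
import Groth.Agent.Lib.CurveBundle.HomDeg
import Groth.Agent.Lib.RefHull.DualComp
import Groth.Agent.Lib.ExtShTensor

/-! Tensor products of nef bundles are nef. -/

set_option autoImplicit false
set_option linter.style.haveILetI false
set_option linter.unusedSectionVars false
universe u
open CategoryTheory CategoryTheory.Limits AlgebraicGeometry

noncomputable section

namespace Groth.Agent.H97.NefTensor

open Groth.Agent.Lib Groth.Agent.Lib.CurveBundle Groth.Agent.Lib.CurveBundle.Degree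
open Groth.Agent.Lib.TensorMod.Basic (tmap comm comm_natural tmap_comp tensorIso)
open Groth.Agent.Lib.TensorMod.Dual (dual)
open Groth.Agent.Lib.Modules (DualAdj.tensorL)

section Adj

variable {X : Scheme.{u}} {E : X.Modules} (hE : FlatMod.IsFinLocFree E)
  (hE' : FlatMod.IsFinLocFree (dual E))

/-- `E ⊗ -` is left adjoint to `E^∨ ⊗ -`. -/
def adj : DualAdj.tensorL E ⊣ DualAdj.tensorL (dual E) :=
  (Modules.DualAdj.adjunction (Modules.DualBasis.hasDBases_of_isFinLocFree hE')).ofNatIsoLeft
    ((TensorMod.Basic.tensorFunctor X).mapIso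
      (ExtShTensor.bidualIso (Modules.DualBasis.hasDBases_of_isFinLocFree hE))).symm

theorem symm_zero {F G : X.Modules ⥤ X.Modules} (a : F ⊣ G) (A B : X.Modules) :
    (a.homEquiv A B).symm 0 = 0 := by
  haveI : PreservesColimitsOfSize.{0, 0} F := a.leftAdjoint_preservesColimits
  haveI : F.PreservesZeroMorphisms := Functor.preservesZeroMorphisms_of_preserves_initial_object
  simp [Adjunction.homEquiv_counit]

end Adj

variable {k : Type u} [Field k] {C : Scheme.{u}} [C.Over (Spec (CommRingCat.of k))]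
  [IsProper (C ↘ Spec (CommRingCat.of k))] [hC : CurveCtx k C]

include hC

theorem rank_of {F : C.Modules} (hF : FlatMod.IsFinLocFree F) :
    FlatMod.IsFinLocFreeOfRank (gr k F) F :=
  rank_gr k (Coherent.isCoh hF) (Coherent.isTorsionFree hF)

theorem dual_rank_dg {r : ℕ} {F : C.Modules} (hF : FlatMod.IsFinLocFreeOfRank r F) :
    FlatMod.IsFinLocFreeOfRank r (dual F) ∧ dg k (dual F) = - dg k F := by
  obtain ⟨h1, h2⟩ := HomDeg.dual_facts (k := k) r F hF
  exact ⟨TensorMod.LocFree.rank_of_iso (RefHull.DualComp.dualIso F) h1,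
    (dg_congr k (RefHull.DualComp.dualIso F).symm).trans h2⟩

theorem rank_dual {F : C.Modules} (hF : FlatMod.IsFinLocFree F) : FlatMod.IsFinLocFree (dual F) :=
  TensorMod.LocFree.of_rank (dual_rank_dg (k := k) (rank_of (k := k) hF)).1

/-- The image of a map to a bundle. -/
theorem exists_image {A B : C.Modules} (hA : Coh.IsCoh A) (hB : Coh.IsCoh B) (hT : TorSh.IsTorsionFree B)
    (a : A ⟶ B) : ∃ (I : C.Modules) (p : A ⟶ I) (j : I ⟶ B), Epi p ∧ Mono j ∧ p ≫ j = a ∧ Coh.IsCoh I ∧
      FlatMod.IsFinLocFreeOfRank (gr k I) I := by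
  have := hC.locNoeth
  let K := kernel a
  have hK : Coh.IsCoh K := CohBasics.Closure.isCoh_kernel a hA hB.1
  have hI : Coh.IsCoh (Abelian.coimage a) := CohBasics.Closure.isCoh_cokernel (kernel.ι a) hK.1 hA
  exact ⟨Abelian.coimage a, Abelian.coimage.π a, Abelian.factorThruCoimage a, inferInstance, inferInstance,
    Abelian.coimage.fac a, hI, (Slope.sub_bundle (k := k) (Abelian.factorThruCoimage a) hI hT).1⟩

/-- **The pairing bound.** -/
theorem dg_nonneg_of_epi {E E' M : C.Modules} (hE : FlatMod.IsFinLocFree E) (hE' : FlatMod.IsFinLocFree E')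
    (hM : PicF.IsInvertible M)
    (hn : ∀ (F : C.Modules) (p : E ⟶ F), Epi p → FlatMod.IsFinLocFree F → 0 ≤ dg k F)
    (hn' : ∀ (F : C.Modules) (p : E' ⟶ F), Epi p → FlatMod.IsFinLocFree F → 0 ≤ dg k F)
    (φ : CohB1.tensorMod E' E ⟶ M) [Epi φ] : 0 ≤ dg k M := by
  obtain ⟨hMc, hMT, hMr, -⟩ := SlopeLine.line (k := k) hM
  have hMrk := TensorMod.LocFree.of_isInvertible hM
  let aE' := adj hE' (rank_dual (k := k) hE')
  -- the target bundles
  have target : ∀ {s : ℕ} {F : C.Modules}, FlatMod.IsFinLocFreeOfRank s F →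
      Coh.IsCoh (CohB1.tensorMod (dual F) M) ∧ TorSh.IsTorsionFree (CohB1.tensorMod (dual F) M) ∧
      gr k (CohB1.tensorMod (dual F) M) = s ∧
      dg k (CohB1.tensorMod (dual F) M) = - dg k F + (s : ℤ) * dg k M := by
    intro s F hF
    obtain ⟨h1, h2⟩ := dual_rank_dg (k := k) hF
    obtain ⟨hc, -, hr, -⟩ := Slope.bundle (k := k) h1
    obtain ⟨e1, e2⟩ := Twist.gr_dg_twist k hM hc
    have h3 := TensorMod.LocFree.rank_tensorMod h1 hMrk
    obtain ⟨c1, c2, -, -⟩ := Slope.bundle (k := k) h3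
    exact ⟨c1, c2, e1.trans hr, by rw [e2, h2, hr]⟩
  obtain ⟨hW, hWT, -, -⟩ := target (rank_of (k := k) hE')
  let a : E ⟶ CohB1.tensorMod (dual E') M := aE'.homEquiv E M φ
  obtain ⟨I, p, j, hp, hj, hpj, hIc, hIr⟩ := exists_image (k := k) (Coherent.isCoh hE) hW hWT a
  have hI := TensorMod.LocFree.of_rank hIr
  let φI : CohB1.tensorMod E' I ⟶ M := (aE'.homEquiv I M).symm j
  let ψ : CohB1.tensorMod I E' ⟶ M := (comm I E').hom ≫ φI
  let aI := adj hI (rank_dual (k := k) hI)
  obtain ⟨hWI, hWIT, hWIg, hWId⟩ := target hIr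
  let b : E' ⟶ CohB1.tensorMod (dual I) M := aI.homEquiv E' M ψ
  obtain ⟨J, p', j', hp', hj', hpj', hJc, hJr⟩ := exists_image (k := k) (Coherent.isCoh hE') hWI hWIT b
  have hJ := TensorMod.LocFree.of_rank hJr
  let c : CohB1.tensorMod I J ⟶ M := (aI.homEquiv J M).symm j'
  have hψ : ψ = tmap (𝟙 I) p' ≫ c := by
    have h1 := aI.homEquiv_naturality_left_symm p' j'
    exact ((aI.homEquiv E' M).symm_apply_apply ψ).symm.trans
      ((congrArg (aI.homEquiv E' M).symm hpj').symm.trans h1)
  let aJ := adj hJ (rank_dual (k := k) hJ)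
  let d : I ⟶ CohB1.tensorMod (dual J) M := aJ.homEquiv I M ((comm J I).hom ≫ c)
  have hd : Mono d := by
    refine Preadditive.mono_of_cancel_zero _ fun {W} x hx => ?_
    have h1 : tmap (𝟙 J) x ≫ (comm J I).hom ≫ c = 0 := by
      have h := (aJ.homEquiv_naturality_left_symm x d).symm.trans
        ((congrArg (aJ.homEquiv W M).symm hx).trans (symm_zero aJ W M))
      have e : (aJ.homEquiv I M).symm d = (comm J I).hom ≫ c := Equiv.symm_apply_apply _ _
      exact (congrArg (fun t => tmap (𝟙 J) x ≫ t) e.symm).trans h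
    rw [← Category.assoc, comm_natural, Category.assoc] at h1
    have h2 : tmap x (𝟙 J) ≫ c = 0 := by
      rw [← cancel_epi (comm J W).hom, h1, comp_zero]
    have h3 : tmap x (𝟙 E') ≫ ψ = 0 := by
      have h := congrArg (fun t => tmap (𝟙 W) p' ≫ t) h2
      simp only [comp_zero, ← Category.assoc, ← tmap_comp, Category.id_comp, Category.comp_id] at h
      rw [hψ, ← Category.assoc, ← tmap_comp, Category.id_comp, Category.comp_id]
      exact h
    simp only [ψ, ← Category.assoc] at h3
    rw [comm_natural, Category.assoc] at h3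
    have h4 : tmap (𝟙 E') x ≫ φI = 0 := by rw [← cancel_epi (comm W E').hom, h3, comp_zero]
    have h5 := aE'.homEquiv_naturality_left_symm x j
    have h6 : (aE'.homEquiv W M).symm (x ≫ j) = 0 := h5.trans h4
    have h7 : x ≫ j = 0 := (aE'.homEquiv W M).symm.injective (h6.trans (symm_zero aE' W M).symm)
    exact zero_of_comp_mono j h7
  obtain ⟨hWJ, -, hWJg, -⟩ := target hJr
  have hst : gr k I ≤ gr k J := (gr_le_of_mono k d hWJ).trans_eq hWJg
  obtain ⟨hq, hg, hdq⟩ := cokernel_ses k j' hJc hWI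
  rw [hWIg] at hg
  rw [hWId] at hdq
  have h0 : gr k (cokernel j') = 0 := by omega
  have h1 := dg_nonneg_of_gr_zero k hq h0
  have hdI := hn I p hp hI
  have hdJ := hn' J p' hp' hJ
  have hs : 0 < gr k I := by
    by_contra h
    have hz := (Slope.sub_zero_rank (k := k) j hIc hWT (by omega)).1
    have ha : a = 0 := by rw [← hpj, hz.eq_of_src j 0, comp_zero]
    have hφ : φ = 0 :=
      (((aE'.homEquiv E M).symm_apply_apply φ).symm.trans (congrArg (aE'.homEquiv E M).symm ha)).trans
        (symm_zero aE' E M)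
    subst hφ
    have hM0 : IsZero M := IsZero.of_epi_zero (CohB1.tensorMod E' E) M
    let _ := hC.integral
    haveI : Epi (𝟙 M) := inferInstance
    exact (Cyc.CH.SubMap.isEmpty_of_isZero hMrk (𝟙 M) hM0 (genericPoint C))
  nlinarith

end Groth.Agent.H97.NefTensor

namespace Groth.Agent.H97.NefTensor

open Groth.Agent.Lib Groth.Agent.Lib.CurveBundle Groth.Agent.Lib.CurveBundle.Degree
open Groth.Agent.Lib.TensorMod.Basic (tmap comm)

variable {k : Type u} [Field k] {X : Scheme.{u}} [X.Over (Spec (CommRingCat.of k))]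

theorem nefTest_quotient {Y : Scheme.{u}} [Y.Over (Spec (CommRingCat.of k))] (f : Y ⟶ X)
    (hf : f ≫ (X ↘ Spec (CommRingCat.of k)) = Y ↘ Spec (CommRingCat.of k)) {E : X.Modules}
    (h : NefBundle.NefTest k E) {F : Y.Modules} (p : (Scheme.Modules.pullback f).obj E ⟶ F) [Epi p] :
    NefBundle.NefTest k F := by
  intro D _ _ _ hD hDreg g hg M hM q hq
  haveI := hq
  haveI : (Scheme.Modules.pullback g).PreservesEpimorphisms :=
    Functor.preservesEpimorphisms_of_adjunction (Scheme.Modules.pullbackPushforwardAdjunction g)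
  haveI : Epi ((Scheme.Modules.pullback g).map p) := Functor.map_epi _ p
  exact h D hD hDreg (g ≫ f) (by rw [Category.assoc, hf, hg]) M hM
    (((Scheme.Modules.pullbackComp g f).app E).inv ≫ (Scheme.Modules.pullback g).map p ≫ q) inferInstance

theorem dg_quotient_nonneg {C : Scheme.{u}} [C.Over (Spec (CommRingCat.of k))]
    [IsProper (C ↘ Spec (CommRingCat.of k))] [IsIntegral C] [CurveCtx k C] (hC : topologicalKrullDim C = 1)
    (hreg : ∀ x : C, IsRegularLocalRing (C.presheaf.stalk x)) {F : C.Modules} (hF : FlatMod.IsFinLocFree F)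
    (h : NefBundle.NefTest k F) : 0 ≤ dg k F := by
  rcases Nat.eq_zero_or_eq_succ_pred (gr k F) with h0 | h0
  · exact dg_nonneg_of_gr_zero k (Coherent.isCoh hF) h0
  · have hr := rank_of (k := k) hF
    rw [h0] at hr
    rw [dg_eq_deg k hr]
    exact NefDeg.deg_nonneg hC hreg hr h

theorem nefTest_tensor {E E' : X.Modules} (hE : FlatMod.IsFinLocFree E) (hE' : FlatMod.IsFinLocFree E')
    (h : NefBundle.NefTest k E) (h' : NefBundle.NefTest k E') :
    NefBundle.NefTest k (CohB1.tensorMod E E') := by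
  intro C _ _ _ hC hreg f hf M hM q hq
  haveI := hq
  haveI := CurveBundle.RankTwoExt.curveCtx_of_regular (k := k) hC hreg
  have hM1 := TensorMod.LocFree.of_isInvertible hM
  rw [← dg_eq_deg k hM1]
  refine dg_nonneg_of_epi (k := k) (TensorMod.LocFree.isFinLocFree_pullback f hE)
    (TensorMod.LocFree.isFinLocFree_pullback f hE') hM
    (fun F p hp hF => by haveI := hp; exact dg_quotient_nonneg hC hreg hF (nefTest_quotient f hf h p))
    (fun F p hp hF => by haveI := hp; exact dg_quotient_nonneg hC hreg hF (nefTest_quotient f hf h' p))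
    ((comm _ _).hom ≫ (TensorMod.Pullback.pullbackTensorIso f E E').inv ≫ q)

theorem nefTest_structure : NefBundle.NefTest k (Coh.structureModule X) := by
  intro C _ _ _ hC hreg f hf M hM q hq
  haveI := hq
  haveI := CurveBundle.RankTwoExt.curveCtx_of_regular (k := k) hC hreg
  let q' : Coh.structureModule C ⟶ M := (PicLoc.pullbackStructureIso f).inv ≫ q
  haveI : Epi q' := epi_comp _ _
  have hM1 := TensorMod.LocFree.of_isInvertible hM
  obtain ⟨hMc, -, hMr, -⟩ := SlopeLine.line (k := k) hM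
  obtain ⟨hOc, hOT, hOr, -⟩ := SlopeLine.line (k := k) (PicLoc.isInvertible_structureModule C)
  obtain ⟨hK, hg, hd⟩ := kernel_ses k q' hOc hMc
  have hK0 : gr k (kernel q') = 0 := by omega
  have hd0 := (Slope.sub_zero_rank (k := k) (kernel.ι q') hK hOT hK0).2
  rw [← dg_eq_deg k hM1]
  rw [H0Crit.dg_structure, hd0, zero_add] at hd
  exact hd.le

theorem nefTest_tensorPow {E : X.Modules} (hE : FlatMod.IsFinLocFree E) (h : NefBundle.NefTest k E) :
    ∀ n : ℕ, FlatMod.IsFinLocFree (CohB1.tensorPow E n) ∧ NefBundle.NefTest k (CohB1.tensorPow E n)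
  | 0 => ⟨TensorMod.LocFree.of_rank (TensorMod.LocFree.of_isInvertible (PicLoc.isInvertible_structureModule X)),
      nefTest_structure⟩
  | n + 1 =>
    have ih := nefTest_tensorPow hE h n
    ⟨TensorMod.LocFree.isFinLocFree_tensorMod ih.1 hE, nefTest_tensor ih.1 hE ih.2 h⟩

end Groth.Agent.H97.NefTensor
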