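import Groth.Agent.Lib.SurfInt.NefInt
import Groth.Agent.Lib.SurfInt.Bound
import Groth.Agent.Lib.SurfInt.CurvePos
import Groth.Agent.Lib.Curves.Degree
import Groth.Agent.Lib.HProj.QuasiProj
import Groth.Agent.Lib.Nakai.Effective

/-!
# Sections of invertible modules of negative degree on a curve of a surface
-/

set_option autoImplicit false
set_option linter.style.haveILetI false
universe u

open CategoryTheory CategoryTheory.Limits AlgebraicGeometry

namespace Groth.Agent.H97.NegCurve

open Groth.Agent.Lib Groth.Agent.Lib.SurfInt Groth.Agent.Lib.Snapper Groth.Agent.Lib.TensorMod.Basic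

variable {k : Type u} [Field k] {X : Scheme.{u}} [X.Over (Spec (CommRingCat.of k))]
  [IsIntegral X] [IsNoetherian X] [IsProper (X ↘ Spec (CommRingCat.of k))]
  [Smooth (X ↘ Spec (CommRingCat.of k))] (hdim : topologicalKrullDim X = 2)

/-- A short exact sequence whose quotient has no sections. -/
theorem finrank_eq_of_subsingleton {S : ShortComplex X.Modules} (hS : S.ShortExact)
    [h : Subsingleton (Coh.HH X S.X₃ 0)] :
    Module.finrank k (Coh.HH X S.X₁ 0) = Module.finrank k (Coh.HH X S.X₂ 0) := by
  haveI := hS.mono_f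
  have hb : Function.Bijective (Curves.LES.mapK k S.f 0) :=
    ⟨Curves.LES.mapK_injective_of_mono k _, fun x =>
      ((Curves.LES.exactK₂ k hS 0) x).1 (h.elim _ _)⟩
  exact (LinearEquiv.ofBijective _ hb).finrank_eq

include hdim

/-- If `(L·E) < 0`, sections of `L` vanish on `E`. -/
theorem finrank_twist_ideal {E : X.IdealSheafData} [IsIntegral E.subscheme]
    (hE : topologicalKrullDim (E.support : Set X) = 1) {M : X.Modules} (hM : PicF.IsInvertible M)
    (hneg : 0 < FGA.intNum k X 2 ![_root_.ClSub.idealMod E, M] (Coh.structureModule X)) :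
    Module.finrank k (Coh.HH X (CohB1.tensorMod (_root_.ClSub.idealMod E) M) 0) =
      Module.finrank k (Coh.HH X M 0) := by
  have hfin := Finite.cohFinite k X
  have hI := Effective.isInvertible_idealMod (NegDef.isEff hfin hdim (NegDef.regular_of_smooth (k := k) (X := X)) E hE)
  rw [Surface.intNum_ideal_eq_neg_deg (d := 2) hfin hdim.le hI hM] at hneg
  letI := Surface.overSub (k := k) E
  haveI : IsProper (E.subscheme ↘ Spec (CommRingCat.of k)) :=
    inferInstanceAs (IsProper (E.subschemeι ≫ (X ↘ Spec (CommRingCat.of k))))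
  have hdE : topologicalKrullDim E.subscheme ≤ 1 := by rw [Surface.dim_subscheme, hE]
  let P := (Scheme.Modules.pullback E.subschemeι).obj M
  have hP : PicF.IsInvertible P := PicLoc.isInvertible_pullback E.subschemeι hM
  haveI hP0 : Subsingleton (Coh.HH E.subscheme P 0) := by
    by_contra hc
    rw [not_subsingleton_iff_nontrivial] at hc
    have := Curves.Degree.deg_nonneg (k := k) hdE hP hc
    linarith
  haveI : P.IsQuasicoherent := TensorMod.QCohInv.isQCoh_of_isInvertible hP
  have hdb := Modules.DualBasis.hasDBases_of_isFinLocFree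
    (TensorMod.LocFree.of_rank (TensorMod.LocFree.of_isInvertible hM))
  have e : CohB1.tensorMod (_root_.ClSub.quotMod E) M ≅ (Coh.push E.subschemeι).obj P :=
    comm _ _ ≪≫
      (Modules.ProjFormula.projIso E.subschemeι hdb).app (Coh.structureModule E.subscheme) ≪≫
      (Coh.push E.subschemeι).mapIso (rightUnit P)
  haveI hQ : Subsingleton (Coh.HH X (CohB1.tensorMod (_root_.ClSub.quotMod E) M) 0) :=
    ((Curves.LES.isoK k e 0).trans
      (ZarCoh.Linear.affineLinearEquiv E.subschemeι rfl P 0)).toEquiv.subsingleton
  have hS := CurveBundle.Twist.shortExact hM (ClSub.Quot.idealSeq_shortExact E)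
  refine (finrank_eq_of_subsingleton (h := hQ) hS).trans ?_
  exact (Curves.LES.isoK k (leftUnit M) 0).finrank_eq

theorem finrank_twist_pow {E : X.IdealSheafData} [IsIntegral E.subscheme]
    (hE : topologicalKrullDim (E.support : Set X) = 1) {L : X.Modules} (hL : PicF.IsInvertible L)
    (n : ℕ)
    (hneg : ∀ j : ℕ, j ≤ n → 0 < FGA.intNum k X 2 ![_root_.ClSub.idealMod E, L] (Coh.structureModule X) +
      (j : ℤ) * FGA.intNum k X 2 ![_root_.ClSub.idealMod E, _root_.ClSub.idealMod E]
        (Coh.structureModule X)) :
    Module.finrank k (Coh.HH X (CohB1.tensorMod L (_root_.ClSub.idealMod (E ^ (n + 1)))) 0) =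
        Module.finrank k (Coh.HH X L 0) ∧
      ∀ N : X.Modules, PicF.IsInvertible N →
        FGA.intNum k X 2 ![CohB1.tensorMod L (_root_.ClSub.idealMod (E ^ (n + 1))), N]
            (Coh.structureModule X) =
          FGA.intNum k X 2 ![L, N] (Coh.structureModule X) +
            (n + 1 : ℤ) * FGA.intNum k X 2 ![_root_.ClSub.idealMod E, N] (Coh.structureModule X) := by
  have hfin := Finite.cohFinite k X
  have hEc := NegDef.isEff hfin hdim (NegDef.regular_of_smooth (k := k) (X := X)) E hE
  have hI := Effective.isInvertible_idealMod hEc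
  have hO := Twist.isCoh_structureModule X
  induction n with
  | zero =>
    refine ⟨?_, fun N hN => ?_⟩
    · rw [pow_one]
      refine (Curves.LES.isoK k (comm L (_root_.ClSub.idealMod E)) 0).finrank_eq.trans ?_
      exact finrank_twist_ideal hdim hE hL (by simpa using hneg 0 le_rfl)
    · rw [pow_one, IntNum.intNum_pair_tensor_left hfin hdim.le hL hI hN hO]
      simp
  | succ n ih =>
    obtain ⟨ih1, ih2⟩ := ih fun j hj => hneg j (hj.trans n.le_succ)
    have hP := Ideal.EffCartier.isEffCartier_pow hEc (n + 1)
    obtain ⟨e⟩ := SurfInt.Mul.nonempty_idealMod_mul hP E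
    set M := CohB1.tensorMod L (_root_.ClSub.idealMod (E ^ (n + 1))) with hMdef
    have hM : PicF.IsInvertible M :=
      TensorMod.Invertible.isInvertible_tensorMod hL (Effective.isInvertible_idealMod hP)
    let e' : CohB1.tensorMod L (_root_.ClSub.idealMod (E ^ (n + 1 + 1))) ≅
        CohB1.tensorMod M (_root_.ClSub.idealMod E) :=
      tensorIso (Iso.refl L) (eqToIso (by rw [pow_succ]) ≪≫ e.symm) ≪≫ (assoc _ _ _).symm
    refine ⟨?_, fun N hN => ?_⟩
    · rw [← ih1]
      refine (Curves.LES.isoK k (e' ≪≫ comm _ _) 0).finrank_eq.trans ?_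
      refine finrank_twist_ideal hdim hE hM ?_
      rw [IntNum.intNum_pair_comm, ih2 _ hI, IntNum.intNum_pair_comm L]
      have := hneg (n + 1) le_rfl
      push_cast at this
      linarith
    · rw [NegDef.intNum_congr_left (k := k) e',
        IntNum.intNum_pair_tensor_left hfin hdim.le hM hI hN hO, ih2 N hN]
      push_cast
      ring

/-- An ample module pulled back along a morphism is nonnegative on curves; a module with a nonzero
section is then nonnegative against it. -/
theorem nonneg_of_section [Infinite k] {Y : Scheme.{u}} (σ : X ⟶ Y) {A : Y.Modules}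
    (hA : CohB1.IsAmple A) {M : X.Modules} (hM : PicF.IsInvertible M)
    (hs : Module.finrank k (Coh.HH X M 0) ≠ 0) :
    0 ≤ FGA.intNum k X 2 ![M, (Scheme.Modules.pullback σ).obj A] (Coh.structureModule X) := by
  have hfin := Finite.cohFinite k X
  set H := (Scheme.Modules.pullback σ).obj A
  have hH : PicF.IsInvertible H := PicLoc.isInvertible_pullback σ hA.1
  obtain ⟨s, hs0⟩ := Bound.exists_hom_of_finrank_ne_zero (k := k) M hs
  obtain ⟨hD, -, -, -⟩ := Div.divisor_spec hM s hs0
  have h := Bound.intNum_zeroScheme hfin hdim hM s hs0 hH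
  have h' : FGA.intNum k X 2 ![_root_.ClSub.idealMod (PicF2.zeroScheme M s), H]
      (Coh.structureModule X) ≤ 0 := by
    refine NefInt.nonneg_effective hdim hH (fun C hC hCd => ?_) hD
    rw [Surface.intNum_ideal_eq_neg_deg (d := 2) hfin hdim.le
      (Effective.isInvertible_idealMod (NegDef.isEff hfin hdim (NegDef.regular_of_smooth (k := k) (X := X)) C hCd)) hH, neg_nonpos]
    letI := Surface.overSub (k := k) C
    haveI : IsProper (C.subscheme ↘ Spec (CommRingCat.of k)) :=
      inferInstanceAs (IsProper (C.subschemeι ≫ (X ↘ Spec (CommRingCat.of k))))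
    have hdC : topologicalKrullDim C.subscheme ≤ 1 := by rw [Surface.dim_subscheme, hCd]
    let g := C.subschemeι ≫ σ
    let z : C.subscheme := genericPoint C.subscheme
    obtain ⟨n, t, ht, -⟩ := hA.2.2 (g z)
    let t' := (PicLoc.pullbackStructureIso g).inv ≫ (Scheme.Modules.pullback g).map t
    have hloc : CohB1.genLocus _ t' = g ⁻¹ᵁ CohB1.genLocus _ t :=
      Ample.GenLocus.genLocus_pullback g (TensorMod.Invertible.isInvertible_tensorPow hA.1 (n + 1)) t
        (PicLoc.pullbackStructureIso g).symm
    let t'' := t' ≫ (Ample.Pow.pullbackPow g A (n + 1)).hom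
    have hz : z ∈ CohB1.genLocus _ t'' := by
      rw [Ample.GenLocus.genLocus_comp_iso, hloc]
      exact ht
    have hPA : PicF.IsInvertible ((Scheme.Modules.pullback g).obj A) :=
      PicLoc.isInvertible_pullback g hA.1
    have hne := SurfInt.Pencil.ne_zero_of_mem_genLocus
      (TensorMod.Invertible.isInvertible_tensorPow hPA (n + 1)) hz
    haveI := Curves.GlobalSections.isNoetherian_of_proper k C.subscheme
    have hdeg : 0 ≤ Curv2.deg k C.subscheme
        (CohB1.tensorPow ((Scheme.Modules.pullback g).obj A) (n + 1)) 1 :=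
      Curves.Degree.deg_nonneg hdC (TensorMod.Invertible.isInvertible_tensorPow hPA (n + 1))
        (by
          haveI := Curves.Positivity.mono_of_ne_zero (PicLoc.isInvertible_structureModule C.subscheme)
            (TensorMod.Invertible.isInvertible_tensorPow hPA (n + 1)) hne
          haveI : Nontrivial (Coh.HH C.subscheme (Coh.structureModule C.subscheme) 0) :=
            haveI : Nontrivial ((Coh.structureModule C.subscheme).val.obj (Opposite.op ⊤) : Type u) :=
              inferInstanceAs (Nontrivial Γ(C.subscheme, ⊤))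
            (Curves.GlobalSections.h0Equiv _).toEquiv.nontrivial
          exact (Curves.LES.mapK_injective_of_mono k t'').nontrivial)
    rw [CurvePos.deg_tensorPow hdC hPA] at hdeg
    have hd : 0 ≤ Curv2.deg k C.subscheme ((Scheme.Modules.pullback g).obj A) 1 := by
      rcases le_or_gt 0 (Curv2.deg k C.subscheme ((Scheme.Modules.pullback g).obj A) 1) with hp | hp
      · exact hp
      · push_cast at hdeg; nlinarith
    let eg : (Scheme.Modules.pullback C.subschemeι).obj H ≅ (Scheme.Modules.pullback g).obj A :=
      (Scheme.Modules.pullbackComp C.subschemeι σ).app A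
    rwa [Curves.Euler.deg_eq_of_iso eg]
  linarith

end Groth.Agent.H97.NegCurve
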