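import Groth.Agent.Lib.Ample.Basis
import Groth.Agent.Lib.Modules.TensorGen
import Groth.Agent.Lib.AssPt.Modules
import Groth.Agent.Lib.Snapper.Finite
import Groth.Agent.Lib.Snapper.Twist
import Groth.Agent.Lib.UnifReg.Hyperplane
import Groth.Agent.Lib.Curves.GlobalSections
import Groth.Agent.Lib.Ample.GenLocus
import Groth.Agent.Lib.TensorMod.Invertible
import Groth.Agent.Lib.Ample.GG
import Groth.Agent.Lib.Curves.LES

/-! `H⁰(F ⊗ L^{-n}) = 0` for `n ≫ 0` when `L` is ample and no associated point of `F` is closed. -/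

set_option autoImplicit false
set_option linter.style.haveILetI false
universe u
open CategoryTheory CategoryTheory.Limits AlgebraicGeometry Opposite TopologicalSpace

namespace Groth.Agent.H97.NegTwist

open Groth.Agent.Lib Groth.Agent.Lib.TensorMod Groth.Agent.Lib.TensorMod.Dual Groth.Agent.Lib.TensorMod.Gen
open Groth.Agent.Lib.DerivedOX
open Groth.Agent.Lib.TensorMod.Basic Groth.Agent.Lib.Ample.GenLocus Groth.Agent.Lib.Modules.TensorGen

variable {X : Scheme.{u}}

/-- A non-closed point specialises to arbitrarily many closed points. -/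
theorem exists_closed_points [JacobsonSpace X] {x : X} (hx : ¬ IsClosed ({x} : Set X)) (N : ℕ) :
    ∃ y : Fin N → X, Function.Injective y ∧ ∀ i, x ⤳ y i ∧ IsClosed ({y i} : Set X) := by
  have hinf : (closure ({x} : Set X) ∩ closedPoints X).Infinite := fun hfin => hx (by
    have hcl : IsClosed (closure ({x} : Set X) ∩ closedPoints X) := by
      rw [← Set.biUnion_of_singleton (closure ({x} : Set X) ∩ closedPoints X)]
      exact hfin.isClosed_biUnion fun y hy => hy.2
    have h1 := closure_inter_closedPoints (isClosed_closure (s := ({x} : Set X)))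
    rw [hcl.closure_eq] at h1
    have h2 : x ∈ closedPoints X := (h1.ge (subset_closure rfl)).2
    exact h2)
  let e := hinf.natEmbedding
  exact ⟨fun i => (e i.1).1, fun a b h => Fin.ext (e.injective (Subtype.ext h)),
    fun i => ⟨specializes_iff_mem_closure.2 (e i.1).2.1, (e i.1).2.2⟩⟩

/-- Sections of a power separating finitely many closed points. -/
theorem exists_separating [QuasiSeparatedSpace X] {L : X.Modules} (hL : CohB1.IsAmple L) {N : ℕ}
    (y : Fin N → X) (hy : Function.Injective y) (hyc : ∀ i, IsClosed ({y i} : Set X)) :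
    ∃ D : ℕ, ∃ t : Fin N → (Coh.structureModule X ⟶ CohB1.tensorPow L D),
      ∀ i j, y j ∈ CohB1.genLocus _ (t i) ↔ i = j := by
  classical
  obtain ⟨hi, -, -⟩ := Ample.Pow.isAmple_iff.1 hL
  have hsel : ∀ i, ∃ n : ℕ, 0 < n ∧ ∃ s : Coh.structureModule X ⟶ CohB1.tensorPow L n,
      y i ∈ CohB1.genLocus _ s ∧ ∀ j, j ≠ i → y j ∉ CohB1.genLocus _ s := by
    intro i
    let C : Set X := ⋃ j : {j : Fin N // j ≠ i}, {y j.1}
    have hC : IsClosed C := isClosed_iUnion_of_finite fun j => hyc j.1
    obtain ⟨n, hn, s, hs, hsU, -⟩ := Ample.Basis.exists_locus_subset hL (U := ⟨Cᶜ, hC.isOpen_compl⟩)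
      (x := y i) (fun h => by
        obtain ⟨j, hj⟩ := Set.mem_iUnion.1 h
        exact j.2 (hy hj).symm)
    exact ⟨n, hn, s, hs, fun j hj h => hsU h (Set.mem_iUnion.2 ⟨⟨j, hj⟩, rfl⟩)⟩
  choose n hn s hs hso using hsel
  let K := ∏ i, n i
  let q : Fin N → ℕ := fun i => ∏ w ∈ Finset.univ.erase i, n w
  have hnq : ∀ i, n i * q i = K := fun i => Finset.mul_prod_erase _ _ (Finset.mem_univ i)
  let t : Fin N → (Coh.structureModule X ⟶ CohB1.tensorPow L K) := fun i =>
    SecTwist.powHom (s i) (q i) ≫ (Ample.Pow.powMul L (n i) (q i) ≪≫ Ample.Pow.powCongr L (hnq i)).hom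
  have ht : ∀ i, CohB1.genLocus _ (t i) = CohB1.genLocus _ (s i) := fun i => by
    rw [genLocus_comp_iso, genLocus_powHom (Invertible.isInvertible_tensorPow hi _) _ _
      (Finset.prod_pos fun w _ => hn w)]
  refine ⟨K, t, fun i j => ?_⟩
  rw [ht]
  exact ⟨fun h => by_contra fun hne => hso i j (Ne.symm hne) h, fun h => h ▸ hs i⟩

/-- Tensoring with an invertible module does not change associated points. -/
theorem isAssPoint_tensor {M P : X.Modules} (hP : PicF.IsInvertible P) (x : X) :
    Curv2.IsAssPoint (CohB1.tensorMod M P) x ↔ Curv2.IsAssPoint M x := by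
  obtain ⟨U, g, hx, hg⟩ := isInvertible_iff.1 hP x
  let l : M.presheaf.stalk x →ₗ[X.presheaf.stalk x]
      TensorProduct (X.presheaf.stalk x) (M.presheaf.stalk x) (P.presheaf.stalk x) :=
    (TensorProduct.mk (X.presheaf.stalk x) (M.presheaf.stalk x) (P.presheaf.stalk x)).flip
      (P.presheaf.germ U x hx g)
  have hl : Function.Bijective l := bijective_tmul_germ hg hx
  exact ((TensorSheaf.tensorStalk x M P).trans (LinearEquiv.ofBijective l hl).symm).isAssociatedPrime_iff

/-- Multiplication by a section whose locus holds the associated points is injective. -/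
theorem tg_injective_of_assPoints {M P : X.Modules} [M.IsQuasicoherent]
    (u : Coh.structureModule X ⟶ P) (h : ∀ x, Curv2.IsAssPoint M x → x ∈ CohB1.genLocus P u) :
    Function.Injective (tg M (sv u ⊤)) := by
  rw [injective_iff_map_eq_zero]
  intro v hv
  refine AssPt.Modules.eq_zero_of_germ_eq_zero_assPoints v fun x hx hass => ?_
  have hxG := h x hass
  refine (bijective_tmul_germ (M := M) (Ample.Basis.isGen_genLocus u) hxG).1 ?_
  have e1 := congrArg (fun z => TensorSheaf.tensorStalk x M P ((CohB1.tensorMod M P).presheaf.germ ⊤ x trivial z)) hv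
  simp only [tg_apply, tensorStalk_germ_tmul, map_zero] at e1
  rw [← TopCat.Presheaf.germ_res_apply P.presheaf (homOfLE (le_top : CohB1.genLocus P u ≤ ⊤)) x hxG] at e1
  simp only [TensorProduct.zero_tmul]
  rw [← rs_sv u (le_top : CohB1.genLocus P u ≤ ⊤)]
  exact e1.trans (map_zero _)

section Over

variable {k : Type u} [Field k] [X.Over (Spec (CommRingCat.of k))] [IsProper (X ↘ (Spec (CommRingCat.of k)))]

omit [IsProper (X ↘ (Spec (CommRingCat.of k)))] in
theorem h0_eq (G : X.Modules) :
    letI := Curves.GlobalSections.secModule k G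
    Module.finrank k (G.val.obj (op ⊤) : Type u) = Module.finrank k (Coh.HH X G 0) :=
  letI := Curves.GlobalSections.secModule k G
  (Curves.GlobalSections.h0Linear k G).finrank_eq.symm

theorem finite_sections {G : X.Modules} (hG : Coh.IsCoh G) :
    letI := Curves.GlobalSections.secModule k G
    Module.Finite k (G.val.obj (op ⊤) : Type u) :=
  letI := Curves.GlobalSections.secModule k G
  haveI := Snapper.Finite.cohFinite k X G hG 0
  Module.Finite.equiv (Curves.GlobalSections.h0Linear k G)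

theorem h0_mono {G P : X.Modules} (hG : Coh.IsCoh G) (hP : PicF.IsInvertible P)
    (u : Coh.structureModule X ⟶ P) (h : ∀ x, Curv2.IsAssPoint G x → x ∈ CohB1.genLocus P u) :
    Module.finrank k (Coh.HH X G 0) ≤ Module.finrank k (Coh.HH X (CohB1.tensorMod G P) 0) := by
  haveI := Curves.GlobalSections.isNoetherian_of_proper k X
  haveI := hG.1
  have hC : Coh.IsCoh (CohB1.tensorMod G P) := by
    obtain ⟨h1, h2⟩ := hG
    obtain ⟨h3, h4⟩ := Ample.GG.isCoh_of_isInvertible hP
    exact ⟨TensorMod.TensorQCoh.isQCoh_tensorMod G _, TensorMod.TensorQCoh.isFiniteType_tensorMod G _⟩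
  letI := Curves.GlobalSections.secModule k G
  letI := Curves.GlobalSections.secModule k (CohB1.tensorMod G P)
  haveI := finite_sections (k := k) hC
  let l : (G.val.obj (op ⊤) : Type u) →ₗ[k] ((CohB1.tensorMod G P).val.obj (op ⊤) : Type u) :=
    { toFun := tg G (sv u ⊤)
      map_add' := map_add _
      map_smul' := fun c v => (tg G (sv u ⊤)).map_smul (Coh.toGlobal (X ↘ Spec (CommRingCat.of k)) c) v }
  rw [← h0_eq, ← h0_eq]
  exact LinearMap.finrank_le_finrank_of_injective (f := l) (tg_injective_of_assPoints u h)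

/-- A non-zero section makes twists by separating sections independent. -/
theorem le_h0 {G L : X.Modules} (hG : Coh.IsCoh G) (hP : PicF.IsInvertible L) {x : X} {N : ℕ}
    (y : Fin N → X) (hxy : ∀ i, x ⤳ y i) (t : Fin N → (Coh.structureModule X ⟶ L))
    (ht : ∀ i j, y j ∈ CohB1.genLocus L (t i) ↔ i = j)
    (v : Γ(G, ⊤)) (hv : G.presheaf.germ ⊤ x trivial v ≠ 0) :
    N ≤ Module.finrank k (Coh.HH X (CohB1.tensorMod G L) 0) := by
  haveI := Curves.GlobalSections.isNoetherian_of_proper k X
  haveI := hG.1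
  have hC : Coh.IsCoh (CohB1.tensorMod G L) := by
    obtain ⟨h1, h2⟩ := hG
    obtain ⟨h3, h4⟩ := Ample.GG.isCoh_of_isInvertible hP
    exact ⟨TensorMod.TensorQCoh.isQCoh_tensorMod G _, TensorMod.TensorQCoh.isFiniteType_tensorMod G _⟩
  letI := Curves.GlobalSections.secModule k (CohB1.tensorMod G L)
  haveI := finite_sections (k := k) hC
  rw [← h0_eq]
  let b : Fin N → ((CohB1.tensorMod G L).val.obj (op ⊤) : Type u) := fun i => tg G (sv (t i) ⊤) v
  refine le_of_eq_of_le (Fintype.card_fin N).symm (LinearIndependent.fintype_card_le_finrank (b := b) ?_)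
  rw [Fintype.linearIndependent_iff]
  intro c hc i
  let T : X ⟶ Spec (CommRingCat.of k) := X ↘ Spec (CommRingCat.of k)
  have hc' : (∑ j, (show Γ(X, ⊤) from Coh.toGlobal T (c j)) •
      (tg G (sv (t j) ⊤) v : Γ(CohB1.tensorMod G L, ⊤))) = 0 := hc
  obtain ⟨W, e, hW, he⟩ := isInvertible_iff.1 hP (y i)
  choose a ha using fun j => exists_coord he (sv (t j) W)
  have hxW : x ∈ W := (hxy i).mem_open W.isOpen hW
  let f : Γ(X, W) := ∑ j, rf (le_top : W ≤ ⊤) (show Γ(X, ⊤) from Coh.toGlobal T (c j)) * a j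
  -- the coefficient kills the section at `x`
  have h1 : rs (CohB1.tensorMod G L) (le_top : W ≤ ⊤) (∑ j, (show Γ(X, ⊤) from Coh.toGlobal T (c j)) •
      (tg G (sv (t j) ⊤) v : Γ(CohB1.tensorMod G L, ⊤))) =
      f • tg G e (rs G le_top v) := by
    rw [rs, map_sum, Finset.sum_smul]
    refine Finset.sum_congr rfl fun j _ => ?_
    show rs (CohB1.tensorMod G L) le_top ((show Γ(X, ⊤) from Coh.toGlobal T (c j)) •
      (tg G (sv (t j) ⊤) v : Γ(CohB1.tensorMod G L, ⊤))) = _
    rw [rs_smul, rs_tg, rs_sv, ha j, mul_smul]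
    congr 1
    show (SecTwist.tmul G L W _ (a j • e) : Γ(CohB1.tensorMod G L, W)) = _
    rw [← pairM_id, Pullback.pairM_smul_right, pairM_id]
    rfl
  rw [hc'] at h1
  have h2 : X.presheaf.germ W x hxW f • G.presheaf.germ ⊤ x trivial v = 0 := by
    refine (bijective_tmul_germ (M := G) he hxW).1 ?_
    have e0 := congrArg ((CohB1.tensorMod G L).presheaf.germ W x hxW) h1
    simp only [rs, map_zero, Modules.StalkModule.germ_smul] at e0
    have e1 := (congrArg (TensorSheaf.tensorStalk x G L) e0).trans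
      ((TensorSheaf.tensorStalk x G L).map_smul (X.presheaf.germ W x hxW f) _)
    have e2 := tensorStalk_germ_tmul hxW (rs G (le_top : W ≤ ⊤) v) e
    rw [show G.presheaf.germ W x hxW (rs G (le_top : W ≤ ⊤) v) = G.presheaf.germ ⊤ x trivial v from
      TopCat.Presheaf.germ_res_apply G.presheaf _ x hxW v] at e2
    have e3 := ((map_zero (TensorSheaf.tensorStalk x G L)).symm.trans e1).trans
      (congrArg (fun z => X.presheaf.germ W x hxW f • z) e2)
    simp only [TensorProduct.zero_tmul, ← TensorProduct.smul_tmul']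
    exact e3.symm
  have hnu : ¬ IsUnit (X.presheaf.germ W x hxW f) := fun hu => hv ((hu.smul_eq_zero).1 h2)
  -- hence it is not a unit at `y i`
  have hyu : ¬ IsUnit (X.presheaf.germ W (y i) hW f) := fun hu => hnu
    ((X.mem_basicOpen f x hxW).1 ((hxy i).mem_open (X.basicOpen f).isOpen ((X.mem_basicOpen f _ hW).2 hu)))
  by_contra hci
  apply hyu
  have hgen : ∀ j, IsUnit (X.presheaf.germ W (y i) hW (a j)) ↔ j = i := fun j => by
    rw [← X.mem_basicOpen, ← genLocus_inf_eq he (t j) (ha j), ← ht j i]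
    exact ⟨fun h => h.1, fun h => ⟨h, hW⟩⟩
  simp only [f, map_sum, map_mul]
  rw [Finset.sum_eq_add_sum_sdiff_singleton_of_mem (Finset.mem_univ i)]
  by_contra hn
  have hm : ∀ j ∈ (Finset.univ \ {i} : Finset (Fin N)), X.presheaf.germ W (y i) hW
      (rf le_top (show Γ(X, ⊤) from Coh.toGlobal T (c j))) * X.presheaf.germ W (y i) hW (a j) ∈
      IsLocalRing.maximalIdeal (X.presheaf.stalk (y i)) := fun j hj =>
    Ideal.mul_mem_left _ _ ((IsLocalRing.mem_maximalIdeal _).2 fun hu => by
      simp only [Finset.mem_sdiff, Finset.mem_singleton] at hj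
      exact hj.2 ((hgen j).1 hu))
  have hs := Ideal.sum_mem _ hm
  have hmem := (IsLocalRing.mem_maximalIdeal _).2 hn
  rw [Ideal.add_mem_iff_left _ hs] at hmem
  refine (IsLocalRing.mem_maximalIdeal _).1 hmem (IsUnit.mul ?_ ((hgen i).2 rfl))
  exact (((Ne.isUnit hci).map (Coh.toGlobal T)).map (X.presheaf.map (homOfLE le_top).op).hom).map _

end Over

theorem exists_bound (k : Type u) [Field k] [X.Over (Spec (CommRingCat.of k))]
    [IsProper (X ↘ (Spec (CommRingCat.of k)))] {L M F : X.Modules} (hL : CohB1.IsAmple L) (hM : ClSub.IsInverseOf L M)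
    (hMi : PicF.IsInvertible M) (hF : Coh.IsCoh F)
    (hass : ∀ x : X, IsClosed ({x} : Set X) → ¬ Curv2.IsAssPoint F x) :
    ∃ n₀ : ℕ, ∀ n : ℕ, n₀ ≤ n → Subsingleton (Coh.HH X (CohB1.tensorMod F (CohB1.tensorPow M n)) 0) := by
  classical
  haveI := Curves.GlobalSections.isNoetherian_of_proper k X
  haveI : JacobsonSpace X := LocallyOfFiniteType.jacobsonSpace (X ↘ Spec (CommRingCat.of k))
  obtain ⟨w⟩ := hM
  have hfin := UnifReg.Hyperplane.finite_assPoints hF
  obtain ⟨e, he, u, huA, -, -⟩ := Ample.Basis.exists_locus_of_finite hL _ hfin ⊤ (Set.subset_univ _)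
  have hG : ∀ n, Coh.IsCoh (CohB1.tensorMod F (CohB1.tensorPow M n)) := fun n => by
    obtain ⟨h1, h2⟩ := hF
    obtain ⟨h3, h4⟩ := Ample.GG.isCoh_of_isInvertible (Invertible.isInvertible_tensorPow hMi n)
    exact ⟨TensorMod.TensorQCoh.isQCoh_tensorMod F _, TensorMod.TensorQCoh.isFiniteType_tensorMod F _⟩
  have hA : ∀ n x, Curv2.IsAssPoint (CohB1.tensorMod F (CohB1.tensorPow M n)) x ↔ Curv2.IsAssPoint F x :=
    fun n x => isAssPoint_tensor (Invertible.isInvertible_tensorPow hMi n) x
  let h := fun n => Module.finrank k (Coh.HH X (CohB1.tensorMod F (CohB1.tensorPow M n)) 0)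
  have hcancel : ∀ r d, Module.finrank k (Coh.HH X (CohB1.tensorMod (CohB1.tensorMod F (CohB1.tensorPow M (r + d)))
      (CohB1.tensorPow L d)) 0) = h r := fun r d =>
    (Curves.LES.isoK k (Basic.assoc _ _ _ ≪≫ tensorIso (Iso.refl F)
      (tensorIso (Ample.Pow.powAdd M r d) (Iso.refl _) ≪≫ Basic.assoc _ _ _ ≪≫
        tensorIso (Iso.refl _) ((Ample.Pow.powTensor M L d).symm ≪≫
          Ample.Pow.powIso (comm M L ≪≫ w) d ≪≫ Ample.Pow.powUnit X d) ≪≫ rightUnit _)) 0).finrank_eq
  have hstep : ∀ r, h (r + e) ≤ h r := fun r => by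
    rw [← hcancel r e]
    exact h0_mono (hG _) (Invertible.isInvertible_tensorPow hL.1 e) u fun x hx => huA ((hA _ x).1 hx)
  let B := (Finset.range e).sup h
  have hB : ∀ n, h n ≤ B := fun n => by
    induction n using Nat.strong_induction_on with
    | _ n ih =>
      rcases lt_or_ge n e with hn | hn
      · exact Finset.le_sup (Finset.mem_range.2 hn)
      · obtain ⟨r, rfl⟩ : ∃ r, n = r + e := ⟨n - e, by omega⟩
        exact (hstep r).trans (ih r (by omega))
  -- separating sections for every associated point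
  have hsep : ∀ x, Curv2.IsAssPoint F x → ∃ (y : Fin (B + 1) → X) (D : ℕ)
      (t : Fin (B + 1) → (Coh.structureModule X ⟶ CohB1.tensorPow L D)),
      (∀ i, x ⤳ y i) ∧ ∀ i j, y j ∈ CohB1.genLocus _ (t i) ↔ i = j := fun x hx => by
    obtain ⟨y, hy, hy'⟩ := exists_closed_points (fun hc => hass x hc hx) (B + 1)
    obtain ⟨D, t, ht⟩ := exists_separating hL y hy fun i => (hy' i).2
    exact ⟨y, D, t, fun i => (hy' i).1, ht⟩
  choose y D t hxy ht using hsep
  haveI := hfin.fintype
  refine ⟨∑ x : {x : X | Curv2.IsAssPoint F x}, D x.1 x.2, fun n hn => ?_⟩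
  refine (Curves.GlobalSections.h0Equiv _).toEquiv.subsingleton_congr.2
    (subsingleton_of_forall_eq 0 fun (v : Γ(CohB1.tensorMod F (CohB1.tensorPow M n), ⊤)) => ?_)
  haveI := (hG n).1
  refine AssPt.Modules.eq_zero_of_germ_eq_zero_assPoints v fun x _ hx => ?_
  by_contra hv
  have hx' := (hA n x).1 hx
  have hD : D x hx' ≤ n := le_trans
    (Finset.single_le_sum (f := fun z : {x : X | Curv2.IsAssPoint F x} => D z.1 z.2)
      (fun _ _ => Nat.zero_le _) (Finset.mem_univ ⟨x, hx'⟩)) hn
  obtain ⟨r, rfl⟩ : ∃ r, n = r + D x hx' := ⟨n - D x hx', by omega⟩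
  have := le_h0 (k := k) (hG _) (Invertible.isInvertible_tensorPow hL.1 _) (y x hx') (hxy x hx')
    (t x hx') (ht x hx') v hv
  rw [hcancel] at this
  have := hB r
  omega

end Groth.Agent.H97.NegTwist
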