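import Groth.Agent.Lib.IntTheory.ProductCurves
import Groth.Agent.Lib.SurfRR.Regular
import Groth.Agent.Lib.SurfInt.Curve

/-!
# Intersection numbers of sections and fibres of a fibration of a surface over a curve
-/

set_option autoImplicit false
set_option linter.style.haveILetI false
universe u

open CategoryTheory CategoryTheory.Limits AlgebraicGeometry

namespace Groth.Agent.H97.SectionFibre

open Groth.Agent.Lib Groth.Agent.Lib.SurfInt

variable (k : Type u) [Field k] [IsAlgClosed k] {X C : Scheme.{u}}
  [X.Over (Spec (CommRingCat.of k))] [IsIntegral X] [IsProper (X ↘ Spec (CommRingCat.of k))]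
  [C.Over (Spec (CommRingCat.of k))] [IsIntegral C] [IsProper (C ↘ Spec (CommRingCat.of k))]

/-- For a surjective morphism from a regular surface to a regular curve with a section:
`(section · fibre) = 1` and `(fibre · fibre) = 0`. -/
theorem main (hdim : topologicalKrullDim X = 2) (hreg : ∀ x : X, IsRegularLocalRing (X.presheaf.stalk x))
    (hdimC : topologicalKrullDim C = 1) (hregC : ∀ x : C, IsRegularLocalRing (C.presheaf.stalk x))
    (π : X ⟶ C) (hπ : π ≫ (C ↘ Spec (CommRingCat.of k)) = X ↘ Spec (CommRingCat.of k))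
    (hsurj : Function.Surjective π) (σ : C ⟶ X) (hσ : σ ≫ π = 𝟙 C)
    {y : C} (hy : IsClosed ({y} : Set C)) :
    FGA.intNum k X 2 ![_root_.ClSub.idealMod σ.ker,
        _root_.ClSub.idealMod ((Curves.PointIdeal.ptI hy).comap π)] (Coh.structureModule X) = 1 ∧
      FGA.intNum k X 2 ![_root_.ClSub.idealMod ((Curves.PointIdeal.ptI hy).comap π),
        _root_.ClSub.idealMod ((Curves.PointIdeal.ptI hy).comap π)] (Coh.structureModule X) = 0 := by
  haveI := Curves.GlobalSections.isNoetherian_of_proper k X
  haveI := Curves.GlobalSections.isNoetherian_of_proper k C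
  haveI : Smooth (C ↘ Spec (CommRingCat.of k)) :=
    H4.CurveThrough.smooth_of_regular_closed _ fun x _ => hregC x
  have hC : Curve.IsSmoothProperCurve k C (C ↘ Spec (CommRingCat.of k)) :=
    ⟨inferInstance, inferInstance, inferInstance, hdimC⟩
  haveI : IsProper π := by
    haveI : IsProper (π ≫ (C ↘ Spec (CommRingCat.of k))) := by rw [hπ]; infer_instance
    exact IsProper.of_comp π (C ↘ Spec (CommRingCat.of k))
  -- the point
  let x : Spec (CommRingCat.of k) ⟶ C := pointOfClosedPoint (C ↘ Spec (CommRingCat.of k)) y hy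
  have hx : x ≫ (C ↘ Spec (CommRingCat.of k)) = 𝟙 _ :=
    pointOfClosedPoint_comp (C ↘ Spec (CommRingCat.of k)) y hy
  obtain ⟨hxcl, hcart, hdeg, htriv⟩ := IntTheory.ProductCurves.point_divisor k hC x hx
  haveI := hxcl
  have hker : x.ker = Curves.PointIdeal.ptI hy := by
    rw [H75.RedKer.ker_eq_vanishingIdeal]
    congr 1
    ext1
    have hr : Set.range x = {y} := by
      refine Set.eq_singleton_iff_unique_mem.2
        ⟨⟨IsLocalRing.closedPoint k, pointOfClosedPoint_apply _ y hy _⟩, ?_⟩
      rintro _ ⟨z, rfl⟩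
      exact pointOfClosedPoint_apply _ y hy z
    simp only [hr, hy.closure_eq]
  rw [← hker]
  set F := x.ker.comap π
  have hIy := ClSub.Cartier.isInvertible_idealMod hcart
  -- the fibre is the pullback of the point
  obtain ⟨e⟩ := ModelFibre.IdealPull.nonempty_pullback_idealMod π hcart fun U s hs _ z hz => by
    haveI : Nonempty (U.1 : Scheme) := ⟨⟨π z, hz⟩⟩
    haveI : Nonempty (π ⁻¹ᵁ U.1 : X.Opens) := ⟨⟨z, hz⟩⟩
    refine mem_nonZeroDivisors_of_ne_zero fun h0 => ?_
    have h1 : π.app U.1 s = 0 := germ_injective_of_isIntegral X z hz (by rw [h0, map_zero])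
    have h2 : C.basicOpen s ≠ ⊥ := by
      rw [Ne, basicOpen_eq_bot_iff]
      exact nonZeroDivisors.ne_zero hs
    obtain ⟨w, hw⟩ : ((C.basicOpen s : C.Opens) : Set C).Nonempty :=
      Set.nonempty_iff_ne_empty.2 fun he => h2 (TopologicalSpace.Opens.ext he)
    obtain ⟨v, rfl⟩ := hsurj w
    have h3 : v ∈ π ⁻¹ᵁ C.basicOpen s := hw
    rw [Scheme.preimage_basicOpen, h1, Scheme.basicOpen_zero] at h3
    exact h3
  have hF : PicF.IsInvertible (_root_.ClSub.idealMod F) :=
    TensorMod.Invertible.isInvertible_of_iso e (PicLoc.isInvertible_pullback π hIy)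
  -- the section is a divisor
  haveI : IsClosedImmersion σ := by
    haveI : IsClosedImmersion (σ ≫ π) := by rw [hσ]; infer_instance
    exact IsClosedImmersion.of_comp σ π
  haveI : IsIso σ.toImage := inferInstance
  haveI : IsIntegral σ.image :=
    haveI : Nonempty σ.image := ⟨σ.toImage (genericPoint C)⟩
    isIntegral_of_isOpenImmersion (CategoryTheory.inv σ.toImage)
  haveI : IsIntegral σ.ker.subscheme := ‹IsIntegral σ.image›
  have hsupp : topologicalKrullDim (σ.ker.support : Set X) = 1 := by
    rw [← Surface.dim_subscheme, ← hdimC]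
    exact (IsHomeomorph.topologicalKrullDim_eq _
      (Scheme.homeoOfIso (asIso σ.toImage)).isHomeomorph).symm
  have hS := Effective.isInvertible_idealMod
    (SurfInt.Curve.isEffCartier (X ↘ Spec (CommRingCat.of k)) hdim hreg σ.ker hsupp)
  have hfin := Snapper.Finite.cohFinite k X
  refine ⟨?_, ?_⟩
  · rw [Surface.intNum_ideal_eq_neg_deg hfin hdim.le hS hF]
    letI := Surface.overSub (k := k) σ.ker
    let φ : C ⟶ σ.ker.subscheme := σ.toImage
    haveI : IsIso φ := ‹IsIso σ.toImage›
    have hφ : φ ≫ σ.ker.subschemeι = σ := σ.toImage_imageι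
    have hover : φ ≫ (σ.ker.subscheme ↘ Spec (CommRingCat.of k)) = C ↘ Spec (CommRingCat.of k) := by
      show φ ≫ σ.ker.subschemeι ≫ (X ↘ Spec (CommRingCat.of k)) = _
      rw [← Category.assoc, hφ, ← hπ, ← Category.assoc, hσ, Category.id_comp]
    rw [← PushIso.deg_pullback φ hover (PicLoc.isInvertible_pullback σ.ker.subschemeι hF)]
    let e' : (Scheme.Modules.pullback φ).obj ((Scheme.Modules.pullback σ.ker.subschemeι).obj
        (_root_.ClSub.idealMod F)) ≅ _root_.ClSub.idealMod x.ker :=
      (Scheme.Modules.pullbackComp φ σ.ker.subschemeι).app _ ≪≫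
        (Scheme.Modules.pullbackCongr hφ).app _ ≪≫
        (Scheme.Modules.pullback σ).mapIso e.symm ≪≫
        (Scheme.Modules.pullbackComp σ π).app _ ≪≫
        (Scheme.Modules.pullbackCongr hσ).app _ ≪≫ (Scheme.Modules.pullbackId C).app _
    rw [Curves.Euler.deg_eq_of_iso e', hdeg]
    norm_num
  · rw [Surface.intNum_ideal_eq_neg_deg hfin hdim.le hF hF, neg_eq_zero]
    letI := Surface.overSub (k := k) F
    let t := x.toImage
    haveI : IsIso t := inferInstanceAs (IsIso x.toImage)
    let a : F.subscheme ⟶ Spec (CommRingCat.of k) :=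
      (x.ker.comapIso π).hom ≫ pullback.snd π x.ker.subschemeι ≫ inv t
    have hsq : F.subschemeι ≫ π = a ≫ x := by
      have h1 : inv t ≫ x = x.ker.subschemeι := by
        rw [IsIso.inv_comp_eq]; exact (x.toImage_imageι).symm
      simp only [a, Category.assoc, h1]
      rw [← pullback.condition, ← Category.assoc, Scheme.IdealSheafData.comapIso_hom_fst]
    have ha : a = F.subscheme ↘ Spec (CommRingCat.of k) := by
      have h := congr($hsq ≫ (C ↘ Spec (CommRingCat.of k)))
      rw [Category.assoc, Category.assoc, hπ, hx, Category.comp_id] at h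
      exact h.symm
    rw [Curves.Euler.deg_eq_of_iso ((Scheme.Modules.pullback F.subschemeι).mapIso e.symm ≪≫
      (Scheme.Modules.pullbackComp F.subschemeι π).app _)]
    exact IntTheory.ProductCurves.deg_pullback_const k x _ htriv _ (hsq.trans (ha ▸ rfl))

end Groth.Agent.H97.SectionFibre
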